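import Groth.Agent.QuotProj.Core
import Groth.Agent.TMul.SecGen
import Groth.Agent.GrassQ.Hom

/-!
Values on pulled back sections of the maps attached to a quotient.
-/

set_option autoImplicit false
set_option backward.isDefEq.respectTransparency false
set_option backward.isDefEq.respectTransparency.types false
set_option linter.style.haveILetI false

universe u

open CategoryTheory CategoryTheory.Limits AlgebraicGeometry TopologicalSpace Opposite
open Groth.Agent.QC (res res_res res_self app_res)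
open Groth.Agent.PBundle (sec')

noncomputable section

namespace Groth.Agent.QuotProj

variable {W Y Z : Scheme.{u}}

theorem homEquiv_app (p : Y ⟶ Z) {M : Z.Modules} {N : Y.Modules} (φ : (Scheme.Modules.pullback p).obj M ⟶ N)
    (U : Z.Opens) (m : Γ(M, U)) :
    ((Scheme.Modules.pullbackPushforwardAdjunction p).homEquiv _ _ φ).app U m = sec' p φ U m := by
  rw [Adjunction.homEquiv_unit]
  rfl

theorem sec'_pullbackComp (p : W ⟶ Y) (g : Y ⟶ Z) {M : Z.Modules} {N : W.Modules}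
    (φ : (Scheme.Modules.pullback (p ≫ g)).obj M ⟶ N) (U : Z.Opens) (m : Γ(M, U)) :
    sec' p ((Scheme.Modules.pullbackComp p g).hom.app M ≫ φ) (g ⁻¹ᵁ U) (OmegaSh.pullSect g M U m) =
      sec' (p ≫ g) φ U m := by
  unfold PBundle.sec'
  rw [Scheme.Modules.Hom.comp_app, ConcreteCategory.comp_apply]
  exact congrArg _ (QC.pullbackComp_hom_pullSect p g M U m)

theorem sec'_pullbackCongr {g g' : Y ⟶ Z} (e : g = g') {M : Z.Modules} {N : Y.Modules}
    (φ : (Scheme.Modules.pullback g').obj M ⟶ N) (U : Z.Opens) (m : Γ(M, U)) :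
    sec' g ((Scheme.Modules.pullbackCongr e).hom.app M ≫ φ) U m = res N (by rw [e]) (sec' g' φ U m) := by
  subst e
  simp [Scheme.Modules.pullbackCongr, res_self]

theorem sec'_bc {π : Y ⟶ Z} {h : W ⟶ Y} {g : W ⟶ Z} (hg : h ≫ π = g) {M : Z.Modules} {Q : Y.Modules}
    (q : (Scheme.Modules.pullback π).obj M ⟶ Q) (U : Z.Opens) (m : Γ(M, U)) :
    sec' g (bc hg q) U m = res _ (le_of_eq (by rw [← hg]; rfl))
      (OmegaSh.pullSect h Q (π ⁻¹ᵁ U) (sec' π q U m)) := by
  subst hg
  refine Eq.trans ?_ (res_self _ _ _).symm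
  show ((Scheme.Modules.pullbackCongr rfl).inv.app M ≫ (Scheme.Modules.pullbackComp h π).inv.app M ≫
    (Scheme.Modules.pullback h).map q).app (h ⁻¹ᵁ (π ⁻¹ᵁ U)) (OmegaSh.pullSect (h ≫ π) M U m) =
    OmegaSh.pullSect h Q (π ⁻¹ᵁ U) (q.app (π ⁻¹ᵁ U) (OmegaSh.pullSect π M U m))
  rw [← QC.app_pullSect h q, ← QC.pullbackComp_hom_pullSect h π M U m]
  simp only [Scheme.Modules.pullbackCongr, eqToIso_refl, Iso.refl_inv, NatTrans.id_app,
    Category.id_comp, Scheme.Modules.Hom.comp_app, ConcreteCategory.comp_apply]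
  congr 1
  exact congr(($((Scheme.Modules.pullbackComp h π).hom_inv_id_app M)).app (h ⁻¹ᵁ (π ⁻¹ᵁ U)) _)

theorem eq_zero_of_secGen {K M : Y.Modules} (hK : TMul.SecGen K ⊤) (χ : K ⟶ M)
    (h : ∀ z : Γ(K, ⊤), χ.app ⊤ z = 0) : χ = 0 := by
  refine Scheme.Modules.hom_ext _ _ fun U => ?_
  ext t
  refine QC.section_eq_of_locally fun x hx => ?_
  obtain ⟨O, hO, hO', hxO, hmem⟩ := hK x trivial U t hx
  refine ⟨O, hO, hxO, ?_⟩
  rw [app_res, app_res]
  change χ.app O (res K hO t) = 0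
  generalize res K hO t = a at hmem
  induction hmem using Submodule.span_induction with
  | mem a ha =>
    obtain ⟨b, rfl⟩ := ha
    rw [← app_res, h, map_zero]
  | zero => rw [map_zero]
  | add a b _ _ ha hb => rw [map_add, ha, hb, add_zero]
  | smul c a _ ha => rw [Scheme.Modules.Hom.app_smul, ha, smul_zero]

variable {X S : Scheme.{u}} {f : X ⟶ S} {E : X.Modules} {V : S.Modules}
variable (θ : (Scheme.Modules.pullback f).obj V ⟶ E)

/-- A generator on the base change. -/
def genSec (T : Over S) (U : S.Opens) (v : Γ(V, U)) :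
    Γ(FGA.ET f E T, (PicF.XTproj f T ≫ T.hom) ⁻¹ᵁ U) :=
  sec' (PicF.XTproj f T ≫ T.hom) (thT θ T) U v

theorem genSec_eq (T : Over S) (U : S.Opens) (v : Γ(V, U)) :
    genSec θ T U v = res _ (le_of_eq (by rw [← pullback.condition (f := f) (g := T.hom)]; rfl))
      (OmegaSh.pullSect (pullback.fst f T.hom) E (f ⁻¹ᵁ U) (sec' f θ U v)) :=
  sec'_bc _ θ U v

theorem homEquiv_thT_app {T : Over S} {M : (PicF.XT f T).Modules} (ψ : FGA.ET f E T ⟶ M) (U : S.Opens)
    (v : Γ(V, U)) :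
    ((Scheme.Modules.pullbackPushforwardAdjunction (PicF.XTproj f T)).homEquiv _ _
      ((Scheme.Modules.pullbackComp (PicF.XTproj f T) T.hom).hom.app V ≫ thT θ T ≫ ψ)).app (T.hom ⁻¹ᵁ U)
        (OmegaSh.pullSect T.hom V U v) =
      ψ.app ((PicF.XTproj f T ≫ T.hom) ⁻¹ᵁ U) (genSec θ T U v) :=
  (homEquiv_app _ _ _ _).trans ((sec'_pullbackComp (PicF.XTproj f T) T.hom (thT θ T ≫ ψ) U v).trans
    (PBundle.sec'_comp _ _ _ U v))

end Groth.Agent.QuotProj

end
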