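import Groth.Agent.QuotProj.Fam
import Groth.Agent.QuotProj.Sect
import Groth.Agent.QC.FTIdeal
import Groth.Agent.AffCrit.Hom
import Groth.Agent.DerPerf.Local
import Groth.Agent.FpqcDescent.IdealGlue
import Groth.Agent.KSixLib.Rel
import Groth.Agent.S9349
import Groth.Agent.S17081
import Groth.Agent.TMul.GlobGen

/-!
The Hilbert functor as the Quot functor of the structure sheaf.
-/

set_option autoImplicit false
set_option backward.isDefEq.respectTransparency false
set_option backward.isDefEq.respectTransparency.types false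
set_option linter.style.haveILetI false
set_option maxHeartbeats 1000000

universe u

open CategoryTheory CategoryTheory.Limits AlgebraicGeometry TopologicalSpace Opposite
open Groth.Agent.QC (res res_res res_self app_res)
open Groth.Agent.PBundle (sec')

noncomputable section

namespace Groth.Agent.QuotProj.HilbQ

section General

variable {Y Y' : Scheme.{u}}

/-- Vanishing of a composite with the inclusion of a kernel, from affine opens of a basis. -/
theorem kernel_comp_eq_zero {M F G : Y.Modules} (p : M ⟶ F) (q : M ⟶ G) (B : Y.Opens → Prop)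
    (hB : ∀ (U : Y.Opens) (x : Y), x ∈ U → ∃ V, B V ∧ x ∈ V ∧ V ≤ U)
    (h : ∀ V, B V → ∀ r : Γ(M, V), p.app V r = 0 → q.app V r = 0) : kernel.ι p ≫ q = 0 := by
  refine Scheme.Modules.hom_ext _ _ fun U => ?_
  ext t
  refine QC.section_eq_of_locally fun x hx => ?_
  obtain ⟨V, hV, hxV, hVU⟩ := hB U x hx
  refine ⟨V, hVU, hxV, ?_⟩
  rw [app_res, app_res]
  exact h V hV ((kernel.ι p).app V (res _ hVU t)) ((QC.mem_range_kernel_app p V _).1 ⟨_, rfl⟩)

/-- Two quotients with the same kernel are isomorphic. -/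
theorem exists_iso_of_kernel {M F G : Y.Modules} (p : M ⟶ F) (q : M ⟶ G) [Epi p] [Epi q]
    (h₁ : kernel.ι p ≫ q = 0) (h₂ : kernel.ι q ≫ p = 0) : ∃ i : F ≅ G, p ≫ i.hom = q :=
  ⟨⟨Abelian.epiDesc p q h₁, Abelian.epiDesc q p h₂,
    (cancel_epi p).1 (by rw [Abelian.comp_epiDesc_assoc, Abelian.comp_epiDesc, Category.comp_id]),
    (cancel_epi q).1 (by rw [Abelian.comp_epiDesc_assoc, Abelian.comp_epiDesc, Category.comp_id])⟩,
    Abelian.comp_epiDesc p q h₁⟩

/-- Affine opens inside the preimage of an affine open form a basis. -/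
theorem exists_affine_le (h : Y' ⟶ Y) (U : Y'.Opens) (x : Y') (hx : x ∈ U) :
    ∃ V : Y'.Opens, (IsAffineOpen V ∧ ∃ W : Y.affineOpens, V ≤ h ⁻¹ᵁ W.1) ∧ x ∈ V ∧ V ≤ U := by
  obtain ⟨W, hW, hxW, -⟩ := exists_isAffineOpen_mem_and_subset (X := Y) (x := h x) (U := ⊤) trivial
  obtain ⟨V, hV, hxV, hle⟩ :=
    exists_isAffineOpen_mem_and_subset (X := Y') (x := x) (U := U ⊓ h ⁻¹ᵁ W) ⟨hx, hxW⟩
  exact ⟨V, ⟨hV, ⟨W, hW⟩, hle.trans inf_le_right⟩, hxV, hle.trans inf_le_left⟩

theorem mem_ideal_iff (I : Y.IdealSheafData) (U : Y.affineOpens) (r : Γ(Y, U.1)) :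
    r ∈ I.ideal U ↔ (ClSub.toSubscheme I).app U.1 (r : Γ(Coh.structureModule Y, U.1)) = 0 := by
  rw [← I.ker_subschemeι_app U]
  exact RingHom.mem_ker

theorem isCoh_quotMod (I : Y.IdealSheafData) : Coh.IsCoh (ClSub.quotMod I) := by
  haveI := (AffCrit.epi_toSubscheme I).2
  exact ⟨(AffCrit.epi_toSubscheme I).1,
    QC.isFT_of_epi (ClSub.toSubscheme I) (TMul.isFT_structureModule Y)⟩

theorem isFlatOver_quotMod_iff {T : Scheme.{u}} (p : Y ⟶ T) (I : Y.IdealSheafData) :
    FlatMod.IsFlatOver p (ClSub.quotMod I) ↔ Flat (I.subschemeι ≫ p) := by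
  rw [← KSixLib.isFlatOver_unit_iff]
  exact (S9349.result I.subschemeι p _ (QC.isQCoh_unit _)).symm

theorem pullUnit_app {P Q : Scheme.{u}} (p : P ⟶ Q) (U : Q.Opens) (r : Γ(Q, U)) :
    (DerPerf.pullUnitIso p).hom.app (p ⁻¹ᵁ U)
      (OmegaSh.pullSect p (Coh.structureModule Q) U (r : Γ(Coh.structureModule Q, U))) = p.app U r := by
  have h : (Scheme.Modules.pullbackPushforwardAdjunction p).unit.app (Coh.structureModule Q) ≫
      (Scheme.Modules.pushforward p).map (DerPerf.pullUnitIso p).hom =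
      SheafOfModules.unitToPushforwardObjUnit p.toRingCatSheafHom :=
    ((Scheme.Modules.pullbackPushforwardAdjunction p).homEquiv_unit _ _ _).symm.trans
      (Equiv.apply_symm_apply _ _)
  exact congrArg (fun t : Coh.structureModule Q ⟶ (Scheme.Modules.pushforward p).obj (Coh.structureModule P) =>
    t.app U (r : Γ(Coh.structureModule Q, U))) h

theorem pullUnit_inv_app {P Q : Scheme.{u}} (p : P ⟶ Q) (U : Q.Opens) (r : Γ(Q, U)) :
    (DerPerf.pullUnitIso p).inv.app (p ⁻¹ᵁ U) (p.app U r : Γ(Coh.structureModule P, _)) =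
      OmegaSh.pullSect p (Coh.structureModule Q) U (r : Γ(Coh.structureModule Q, U)) := by
  rw [← pullUnit_app p U r]
  exact congr(($((DerPerf.pullUnitIso p).hom_inv_id)).app (p ⁻¹ᵁ U) _)

/-- Pulling back `O → O/I` gives `O → O/(I pulled back)`. -/
theorem exists_iso_pullback_toSubscheme (h : Y' ⟶ Y) (I : Y.IdealSheafData) :
    ∃ i : (Scheme.Modules.pullback h).obj (ClSub.quotMod I) ≅ ClSub.quotMod (I.comap h),
      (DerPerf.pullUnitIso h).inv ≫ (Scheme.Modules.pullback h).map (ClSub.toSubscheme I) ≫ i.hom =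
        ClSub.toSubscheme (I.comap h) := by
  let J := I.comap h
  let P := Scheme.Modules.pullback h
  let u := DerPerf.pullUnitIso h
  let adj := Scheme.Modules.pullbackPushforwardAdjunction h
  haveI := (AffCrit.epi_toSubscheme I).2
  haveI := (AffCrit.epi_toSubscheme J).2
  haveI : Epi (P.map (ClSub.toSubscheme I)) := Grass.epi_pullback_map h _
  have hu : ∀ (W : Y.Opens) (a : Γ(Y, W)), u.inv.app (h ⁻¹ᵁ W) (h.app W a : Γ(Coh.structureModule Y', _)) =
      OmegaSh.pullSect h (Coh.structureModule Y) W (a : Γ(Coh.structureModule Y, W)) := fun W a => by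
    rw [← pullUnit_app h W a]
    exact congr(($(u.hom_inv_id)).app (h ⁻¹ᵁ W) _)
  -- the composite kills the pulled back ideal
  have h2 : kernel.ι (ClSub.toSubscheme J) ≫ u.inv ≫ P.map (ClSub.toSubscheme I) = 0 := by
    refine kernel_comp_eq_zero _ _ (fun V => IsAffineOpen V ∧ ∃ W : Y.affineOpens, V ≤ h ⁻¹ᵁ W.1)
      (exists_affine_le h) ?_
    rintro V ⟨hV, W, hle⟩ r hr
    have hr' : r ∈ (I.ideal W).map (h.appLE W.1 V hle).hom := by
      rw [← FpqcDescent.ideal_comap_appLE I h W ⟨V, hV⟩ hle]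
      exact (mem_ideal_iff J ⟨V, hV⟩ r).2 hr
    clear hr
    let φ := u.inv ≫ P.map (ClSub.toSubscheme I)
    change φ.app V r = 0
    induction hr' using Submodule.span_induction with
    | mem b hb =>
      obtain ⟨a, ha, rfl⟩ := hb
      have hb : (h.appLE W.1 V hle a : Γ(Coh.structureModule Y', V)) =
          res (Coh.structureModule Y') hle (h.app W.1 a) := rfl
      rw [hb, ← app_res]
      have h0 : φ.app (h ⁻¹ᵁ W.1) (h.app W.1 a : Γ(Coh.structureModule Y', _)) = 0 := by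
        show (P.map (ClSub.toSubscheme I)).app _ (u.inv.app _ _) = 0
        rw [hu, QC.app_pullSect, (mem_ideal_iff I W a).1 ha, map_zero]
      rw [h0, map_zero]
    | zero => exact map_zero _
    | add a b _ _ ha hb => exact (map_add (φ.app V).hom a b).trans (by rw [ha, hb, add_zero])
    | smul c a _ ha => exact (Scheme.Modules.Hom.app_smul φ c a).trans (by rw [ha, smul_zero])
  -- the map from the pulled back quotient
  let ψ : Coh.structureModule Y ⟶ (Scheme.Modules.pushforward h).obj (ClSub.quotMod J) :=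
    adj.homEquiv _ _ (u.hom ≫ ClSub.toSubscheme J)
  have hψ : kernel.ι (ClSub.toSubscheme I) ≫ ψ = 0 := by
    refine kernel_comp_eq_zero _ _ (fun _ => True) (fun U x hx => ⟨U, trivial, hx, le_rfl⟩) fun W _ a ha => ?_
    refine (homEquiv_app h _ W a).trans ?_
    show (ClSub.toSubscheme J).app _ (u.hom.app _ (OmegaSh.pullSect h _ W a)) = 0
    rw [pullUnit_app h W a]
    obtain ⟨k, hk⟩ : ∃ k, J.subschemeι ≫ h = k ≫ I.subschemeι :=
      ⟨(I.comapIso h).hom ≫ pullback.snd h I.subschemeι, by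
        rw [← I.comapIso_hom_fst h, Category.assoc, Category.assoc, pullback.condition]⟩
    show J.subschemeι.app (h ⁻¹ᵁ W) (h.app W a) = 0
    change I.subschemeι.app W a = 0 at ha
    have e := congr(($(Scheme.Hom.congr_app hk W)) a)
    simp only [Scheme.Hom.comp_app, CommRingCat.comp_apply, ha, map_zero] at e
    exact e
  let m : P.obj (ClSub.quotMod I) ⟶ ClSub.quotMod J :=
    (adj.homEquiv _ _).symm (Abelian.epiDesc (ClSub.toSubscheme I) ψ hψ)
  have hm : P.map (ClSub.toSubscheme I) ≫ m = u.hom ≫ ClSub.toSubscheme J := by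
    rw [← adj.homEquiv_naturality_left_symm, Abelian.comp_epiDesc, Equiv.symm_apply_apply]
  have h1 : kernel.ι (u.inv ≫ P.map (ClSub.toSubscheme I)) ≫ ClSub.toSubscheme J = 0 := by
    have e : (u.inv ≫ P.map (ClSub.toSubscheme I)) ≫ m = ClSub.toSubscheme J := by
      rw [Category.assoc, hm, Iso.inv_hom_id_assoc]
    rw [← e, kernel.condition_assoc, zero_comp]
  obtain ⟨i, hi⟩ := exists_iso_of_kernel _ _ h1 h2
  exact ⟨i, (Category.assoc _ _ _).symm.trans hi⟩
end General

variable {X S : Scheme.{u}} {f : X ⟶ S} {T T' : Over S}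

/-- The base change of the structure sheaf is the structure sheaf. -/
def uT (f : X ⟶ S) (T : Over S) : FGA.ET f (Coh.structureModule X) T ≅ Coh.structureModule (PicF.XT f T) :=
  DerPerf.pullUnitIso _

/-- The quotient of the structure sheaf of a closed subscheme. -/
def idQuo (I : (PicF.XT f T).IdealSheafData) : Quo f (Coh.structureModule X) T where
  F := ClSub.quotMod I
  q := (uT f T).hom ≫ ClSub.toSubscheme I
  epi := by
    haveI := (AffCrit.epi_toSubscheme I).2
    exact epi_comp _ _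

theorem isFam_idQuo_iff (I : (PicF.XT f T).IdealSheafData) :
    (idQuo I).IsFam ↔ Flat (I.subschemeι ≫ PicF.XTproj f T) :=
  ⟨fun h => (isFlatOver_quotMod_iff _ I).1 h.2, fun h => ⟨isCoh_quotMod I, (isFlatOver_quotMod_iff _ I).2 h⟩⟩

theorem idQuo_injective {I J : (PicF.XT f T).IdealSheafData} (h : (idQuo I).Rel (idQuo J)) : I = J := by
  obtain ⟨i, hi⟩ := h
  have e : ClSub.toSubscheme I ≫ i.hom = ClSub.toSubscheme J := by
    rw [← cancel_epi (uT f T).hom]
    exact (Category.assoc _ _ _).symm.trans hi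
  ext U r
  rw [mem_ideal_iff, mem_ideal_iff, ← e]
  change _ ↔ i.hom.app U.1 ((ClSub.toSubscheme I).app U.1 r) = 0
  exact (map_eq_zero_iff (i.hom.app U.1).hom (ConcreteCategory.bijective_of_isIso (i.hom.app U.1)).1).symm

theorem exists_idQuo (a : Quo f (Coh.structureModule X) T) (hq : Coh.IsQCoh a.F) :
    ∃ I, (idQuo I).Rel a := by
  let q := (uT f T).inv ≫ a.q
  haveI : Epi q := epi_comp _ _
  haveI hk : (kernel q).IsQuasicoherent := QC.isQCoh_kernel (QC.isQCoh_unit _) hq q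
  let I := QC.idealSheafOf (kernel.ι q)
  have hI : ∀ (U : (PicF.XT f T).affineOpens) (r : Γ(PicF.XT f T, U.1)),
      r ∈ I.ideal U ↔ q.app U.1 (r : Γ(Coh.structureModule _, U.1)) = 0 := fun U r =>
    QC.mem_range_kernel_app q U.1 r
  haveI := (AffCrit.epi_toSubscheme I).2
  have hB : ∀ (U : (PicF.XT f T).Opens) (x : PicF.XT f T), x ∈ U → ∃ V, IsAffineOpen V ∧ x ∈ V ∧ V ≤ U :=
    fun U x hx => exists_isAffineOpen_mem_and_subset hx
  obtain ⟨i, hi⟩ := exists_iso_of_kernel (ClSub.toSubscheme I) q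
    (kernel_comp_eq_zero _ _ IsAffineOpen hB fun V hV r hr =>
      (hI ⟨V, hV⟩ r).1 ((mem_ideal_iff I ⟨V, hV⟩ r).2 hr))
    (kernel_comp_eq_zero _ _ IsAffineOpen hB fun V hV r hr =>
      (mem_ideal_iff I ⟨V, hV⟩ r).1 ((hI ⟨V, hV⟩ r).2 hr))
  refine ⟨I, i, ?_⟩
  change ((uT f T).hom ≫ ClSub.toSubscheme I) ≫ i.hom = a.q
  rw [Category.assoc, hi, Iso.hom_inv_id_assoc]

theorem bc_unit {W Y Z : Scheme.{u}} {π : Y ⟶ Z} {h : W ⟶ Y} {g : W ⟶ Z} (hg : h ≫ π = g) :
    bc hg (DerPerf.pullUnitIso π).hom ≫ (DerPerf.pullUnitIso h).hom = (DerPerf.pullUnitIso g).hom := by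
  subst hg
  refine ((Scheme.Modules.pullbackPushforwardAdjunction _).homEquiv _ _).injective
    (Scheme.Modules.hom_ext _ _ fun U => ?_)
  ext m
  refine (homEquiv_app _ _ U m).trans (Eq.trans ?_ (homEquiv_app _ _ U m).symm)
  show (DerPerf.pullUnitIso h).hom.app _ (sec' (h ≫ π) (bc rfl (DerPerf.pullUnitIso π).hom) U m) = _
  rw [sec'_bc]
  refine (congrArg _ (res_self _ _ _)).trans ?_
  show (DerPerf.pullUnitIso h).hom.app (h ⁻¹ᵁ (π ⁻¹ᵁ U)) (OmegaSh.pullSect h _ (π ⁻¹ᵁ U)
    ((DerPerf.pullUnitIso π).hom.app (π ⁻¹ᵁ U) (OmegaSh.pullSect π _ U m))) =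
      (DerPerf.pullUnitIso (h ≫ π)).hom.app _ (OmegaSh.pullSect (h ≫ π) _ U m)
  rw [pullUnit_app π U m,
    pullUnit_app h, pullUnit_app (h ≫ π) U m]
  rfl

theorem idQuo_pull (I : (PicF.XT f T).IdealSheafData) (g : T' ⟶ T) :
    ((idQuo I).pull g).Rel (idQuo (I.comap (PicF.XTmap f g))) := by
  obtain ⟨i, hi⟩ := exists_iso_pullback_toSubscheme (PicF.XTmap f g) I
  dsimp only [Quo.Rel, Quo.pull, idQuo]
  refine ⟨i, ?_⟩
  rw [bc_comp, Category.assoc, ← hi, ← Category.assoc (uT f T').hom]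
  refine congrArg (· ≫ _) ?_
  rw [Iso.eq_comp_inv]
  exact bc_unit _

theorem quotPull_idQuo (I : (PicF.XT f T).IdealSheafData) (g : T' ⟶ T) :
    FGA.quotPull f (Coh.structureModule X) g (idQuo I).sub = (idQuo (FGA.hilbPull f g I)).sub := by
  rw [S17081.hilbPull_eq_comap, Quo.quotPull_sub, Quo.sub_eq_iff]
  exact idQuo_pull I g

/-- The Hilbert scheme is the Quot scheme of the structure sheaf. -/
theorem exists_hilb_of_quot [IsProper f] (Q : Over S) (K : FGA.QuotSet f (Coh.structureModule X) Q)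
    (hK : FGA.QuotRepresentedBy f (Coh.structureModule X) Q K) :
    ∃ Z : FGA.HilbSet f Q, FGA.HilbRepresentedBy f Q Z := by
  have hprop : ∀ (T : Over S) (I : (PicF.XT f T).IdealSheafData), IsProper (I.subschemeι ≫ PicF.XTproj f T) :=
    fun T I => by
      haveI : IsProper (PicF.XTproj f T) := MorphismProperty.pullback_snd _ _ inferInstance
      infer_instance
  obtain ⟨I, hI⟩ := exists_idQuo (Quo.ofSub K.1) K.2.1.1
  have hK1 : (idQuo I).sub = K.1 := ((Quo.sub_eq_iff _ _).2 hI).trans (Quo.sub_ofSub K.1)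
  have hfl := (isFam_idQuo_iff I).1 (Quo.IsFam.of_rel (isFam_ofSub K) hI.symm)
  refine ⟨⟨I, hprop Q I, hfl⟩, hK.1, fun T _ Y => ?_⟩
  have key : ∀ g : T ⟶ Q, FGA.hilbPull f g I = Y.1 ↔
      FGA.quotPull f (Coh.structureModule X) g K.1 = (idQuo Y.1).sub := fun g => by
    rw [← hK1, quotPull_idQuo]
    exact ⟨fun h => by rw [h], fun h => idQuo_injective ((Quo.sub_eq_iff _ _).1 h)⟩
  obtain ⟨g, hg, hu⟩ := hK.2 T ((idQuo Y.1).toSet ((isFam_idQuo_iff _).2 Y.2.2))
  exact ⟨g, (key g).2 hg, fun g' hg' => hu g' ((key g').1 hg')⟩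

end Groth.Agent.QuotProj.HilbQ

end
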