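import Groth.Agent.GrassQ.Hom
import Groth.Agent.HilbFib.Square
import Groth.Agent.GrothSS.ChangeRings
import Groth.Agent.K0Hom.BC
import Groth.Agent.StabK3.Euler
import Groth.Agent.S0927
import Groth.Agent.DerPerf.Tensor

/-!
Direct images along closed immersions: flatness, Hilbert functions, the unit.
-/

set_option autoImplicit false
set_option backward.isDefEq.respectTransparency false
set_option backward.isDefEq.respectTransparency.types false
set_option linter.style.haveILetI false
set_option maxHeartbeats 800000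

universe u

open CategoryTheory CategoryTheory.Limits AlgebraicGeometry TopologicalSpace Opposite
open Groth.Agent.QC (res res_res res_self app_res)

noncomputable section

namespace Groth.Agent.QuotProj

variable {W P T : Scheme.{u}}

theorem epi_unit_closed (ι : W ⟶ P) [IsClosedImmersion ι] {M : P.Modules} (hM : Coh.IsQCoh M) :
    Epi ((Scheme.Modules.pullbackPushforwardAdjunction ι).unit.app M) :=
  InvGen.epi_of_locally _ fun U t x hx => by
    obtain ⟨O, hO, hxO, hOU⟩ := exists_isAffineOpen_mem_and_subset (show x ∈ U from hx)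
    let u := (Scheme.Modules.pullbackPushforwardAdjunction ι).unit.app M
    refine ⟨O, hOU, hxO, ?_⟩
    have hW : IsAffineOpen (ι ⁻¹ᵁ O) := hO.preimage ι
    have hs := GrassQ.span_resθ_eq_top (g := ι) hM hO hW le_rfl
    have key : ∀ y ∈ Submodule.span Γ(W, ι ⁻¹ᵁ O) (Set.range (RelTilde.resθ ι u (le_rfl : ι ⁻¹ᵁ O ≤ _))),
        ∃ m, u.app O m = (show Γ((Scheme.Modules.pushforward ι).obj ((Scheme.Modules.pullback ι).obj M), O) from y) := by
      intro y hy
      induction hy using Submodule.span_induction with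
      | mem z hz =>
        obtain ⟨m, rfl⟩ := hz
        exact ⟨m, (res_self _ (le_rfl : O ≤ O) (u.app O m)).symm⟩
      | zero => exact ⟨0, map_zero _⟩
      | add a b _ _ ha hb =>
        obtain ⟨m, hm⟩ := ha
        obtain ⟨m', hm'⟩ := hb
        exact ⟨m + m', (map_add _ _ _).trans (congrArg₂ (· + ·) hm hm')⟩
      | smul c a _ ha =>
        obtain ⟨m, hm⟩ := ha
        obtain ⟨r, hr⟩ := ι.app_surjective O hO c
        refine ⟨r • m, (Scheme.Modules.Hom.app_smul u r m).trans ?_⟩
        rw [hm, ← hr]
        rfl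
    exact key _ (hs.ge Submodule.mem_top)

theorem epi_push_closed (ι : W ⟶ P) [IsClosedImmersion ι] {A B : W.Modules} (φ : A ⟶ B) [Epi φ] :
    Epi ((Scheme.Modules.pushforward ι).map φ) := by
  haveI := GrothSS.preservesFiniteColimits_push ι
  exact (Scheme.Modules.pushforward ι).map_epi φ

/-- Flatness of a direct image along a closed immersion. -/
theorem isFlatOver_push_closed (ι : W ⟶ P) [IsClosedImmersion ι] (a : P ⟶ T) {G : W.Modules}
    (h : FlatMod.IsFlatOver (ι ≫ a) G) : FlatMod.IsFlatOver a ((Scheme.Modules.pushforward ι).obj G) := by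
  intro p
  letI := FlatMod.moduleStalkOver a ((Scheme.Modules.pushforward ι).obj G) p
  show Module.Flat _ _
  by_cases hp : p ∈ Set.range ι.base
  · obtain ⟨w, rfl⟩ := hp
    letI : Module (T.presheaf.stalk (a (ι w))) (G.presheaf.stalk w) := FlatMod.moduleStalkOver (ι ≫ a) G w
    haveI : Module.Flat (T.presheaf.stalk (a (ι w))) (G.presheaf.stalk w) := h w
    exact Module.Flat.of_linearEquiv (LinearEquiv.ofBijective
      ({ toFun := fun m => KFlat.pushStalk ι w G m
         map_add' := fun m m' => map_add _ m m'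
         map_smul' := fun r m => by
          refine (KFlat.pushStalk_smul ι w G ((a.stalkMap (ι w)).hom r) m).trans ?_
          show _ = ((ι ≫ a).stalkMap w).hom r • KFlat.pushStalk ι w G m
          rw [Scheme.Hom.stalkMap_comp]
          rfl } : ((Scheme.Modules.pushforward ι).obj G).presheaf.stalk (ι w) →ₗ[T.presheaf.stalk (a (ι w))]
            G.presheaf.stalk w) (KFlat.pushStalk_bijective ι w G))
  · haveI : Subsingleton (((Scheme.Modules.pushforward ι).obj G).presheaf.stalk p) :=
      KFlat.subsingleton_stalk_push ι G hp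
    infer_instance

/-- Hilbert functions of a direct image along a closed immersion. -/
theorem hilb_push_closed (ι : W ⟶ P) [IsClosedImmersion ι] (π : P ⟶ T) [IsProper π] {L : P.Modules}
    (hL : PicF.IsInvertible L) {G : W.Modules} (hG : Coh.IsQCoh G) (t : T) (k : ℕ) :
    HilbFib.hilb π L ((Scheme.Modules.pushforward ι).obj G) t k =
      HilbFib.hilb (ι ≫ π) ((Scheme.Modules.pullback ι).obj L) G t k := by
  obtain ⟨a⟩ := TMul.nonempty_pullPowIso ι L k
  have hLk : FlatMod.IsFinLocFree (CohB1.tensorPow L k) :=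
    ResDesc.isFinLocFree_of_isInvertible (TMul.isInvertible_tensorPow hL k)
  let G' := CohB1.tensorMod G (CohB1.tensorPow ((Scheme.Modules.pullback ι).obj L) k)
  have hG' : Coh.IsQCoh G' :=
    TMul.isQCoh_tensor (TMul.isInvertible_tensorPow (PicLoc.isInvertible_pullback ι hL) k) (hF := hG)
  let e : CohB1.tensorMod ((Scheme.Modules.pushforward ι).obj G) (CohB1.tensorPow L k) ≅
      (Scheme.Modules.pushforward ι).obj G' :=
    TMul.commIso _ _ ≪≫ (S0927.projIso ι (CohB1.tensorPow L k) hLk).app G ≪≫
      (Scheme.Modules.pushforward ι).mapIso (TMul.commIso _ _ ≪≫ PicGrp.tensorModIso (Iso.refl G) a.symm)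
  refine finsum_congr fun q => ?_
  congr 2
  rw [HilbFib.betti_congr π e t q]
  let κ := T.residueField t
  letI : (π.fiber t).Over (Spec (CommRingCat.of κ)) := ⟨π.fiberToSpecResidueField t⟩
  letI : ((ι ≫ π).fiber t).Over (Spec (CommRingCat.of κ)) := ⟨(ι ≫ π).fiberToSpecResidueField t⟩
  haveI : IsProper (π.fiberToSpecResidueField t) := inferInstanceAs (IsProper (pullback.snd π _))
  haveI : IsProper (π.fiber t ↘ Spec (CommRingCat.of κ)) := inferInstanceAs (IsProper (π.fiberToSpecResidueField t))
  let ι' : (ι ≫ π).fiber t ⟶ π.fiber t :=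
    pullback.lift ((ι ≫ π).fiberι t ≫ ι) ((ι ≫ π).fiberToSpecResidueField t)
      (by rw [Category.assoc]; exact pullback.condition)
  have sq : IsPullback ι' ((ι ≫ π).fiberι t) (π.fiberι t) ι := by
    refine (IsPullback.of_bot ?_ (pullback.lift_fst _ _ _).symm
      (IsPullback.of_hasPullback π (T.fromSpecResidueField t))).flip
    rw [pullback.lift_snd]
    exact IsPullback.of_hasPullback _ _
  haveI : IsClosedImmersion ι' := MorphismProperty.of_isPullback (P := @IsClosedImmersion) sq.flip ‹_›
  obtain ⟨j⟩ := K0Hom.nonempty_pullback_push sq G'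
  show Module.finrank κ (PerfAux.fiberH π _ t q) = Module.finrank κ (PerfAux.fiberH (ι ≫ π) G' t q)
  exact ((CohFinite.hhEquiv κ j q).finrank_eq).trans
    (StabK3.h_push κ ι' (pullback.lift_snd _ _ _) (QC.isQCoh_pullback _ hG') q)

end Groth.Agent.QuotProj

end
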