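import Groth.Agent.QuotProj.HilbQ
import Groth.Agent.VanLocus.Scheme
import Groth.Agent.SegreMap.Basic
import Groth.Agent.QC.IdealMod
import Groth.Agent.QC.FiniteType

/-!
Nested pairs of closed subschemes.
-/

set_option autoImplicit false
set_option backward.isDefEq.respectTransparency false
set_option backward.isDefEq.respectTransparency.types false
set_option linter.style.haveILetI false
set_option maxHeartbeats 1000000

universe u

open CategoryTheory CategoryTheory.Limits AlgebraicGeometry TopologicalSpace Opposite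
open Groth.Agent.QC (res res_res res_self app_res)

noncomputable section

namespace Groth.Agent.QuotProj.Flag

open HilbQ

/-- The comparison map of two closed subschemes dies after pullback exactly when they become nested. -/
theorem map_ι_comp_eq_zero_iff {Y Y' : Scheme.{u}} (h : Y' ⟶ Y) (I J : Y.IdealSheafData) :
    (Scheme.Modules.pullback h).map (ClSub.idealModι J ≫ ClSub.toSubscheme I) = 0 ↔ J.comap h ≤ I.comap h := by
  let P := Scheme.Modules.pullback h
  haveI : P.Additive := (Scheme.Modules.pullbackPushforwardAdjunction h).left_adjoint_additive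
  let u := DerPerf.pullUnitIso h
  obtain ⟨i, hi⟩ := exists_iso_pullback_toSubscheme h I
  obtain ⟨j, hj⟩ := exists_iso_pullback_toSubscheme h J
  constructor
  · intro h0
    have hk : kernel.ι (ClSub.toSubscheme (J.comap h)) ≫ ClSub.toSubscheme (I.comap h) = 0 := by
      refine kernel_comp_eq_zero _ _ (fun V => IsAffineOpen V ∧ ∃ W : Y.affineOpens, V ≤ h ⁻¹ᵁ W.1)
        (exists_affine_le h) ?_
      rintro V ⟨hV, W, hle⟩ r hr
      have hr' : r ∈ (J.ideal W).map (h.appLE W.1 V hle).hom := by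
        rw [← FpqcDescent.ideal_comap_appLE J h W ⟨V, hV⟩ hle]
        exact (mem_ideal_iff _ ⟨V, hV⟩ r).2 hr
      clear hr
      induction hr' using Submodule.span_induction with
      | mem b hb =>
        obtain ⟨a, ha, rfl⟩ := hb
        have hb : (h.appLE W.1 V hle a : Γ(Coh.structureModule Y', V)) =
            res (Coh.structureModule Y') hle (h.app W.1 a) := rfl
        rw [hb, ← app_res]
        obtain ⟨s, hs⟩ := (QC.mem_range_idealModι_affine J W a).2 ha
        have h1 : (ClSub.toSubscheme (I.comap h)).app (h ⁻¹ᵁ W.1) (h.app W.1 a : Γ(Coh.structureModule Y', _)) =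
            0 := by
          rw [← hi]
          show i.hom.app _ ((P.map (ClSub.toSubscheme I)).app _ (u.inv.app _ _)) = 0
          rw [pullUnit_inv_app, QC.app_pullSect, ← hs]
          change i.hom.app _ (OmegaSh.pullSect h _ W.1 ((ClSub.idealModι J ≫ ClSub.toSubscheme I).app W.1 s)) = 0
          rw [← QC.app_pullSect, h0]
          exact map_zero _
        rw [h1, map_zero]
      | zero => exact map_zero _
      | add a b _ _ ha hb => exact (map_add _ a b).trans (by rw [ha, hb, add_zero])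
      | smul c a _ ha => exact (Scheme.Modules.Hom.app_smul _ c a).trans (by rw [ha, smul_zero])
    intro U r hr
    obtain ⟨s, rfl⟩ := (QC.mem_range_kernel_app (ClSub.toSubscheme (J.comap h)) U.1 r).2
      ((mem_ideal_iff _ U r).1 hr)
    exact (mem_ideal_iff _ U _).2 (congr(($hk).app U.1 s))
  · intro hle
    haveI := (AffCrit.epi_toSubscheme (J.comap h)).2
    have hk : kernel.ι (ClSub.toSubscheme (J.comap h)) ≫ ClSub.toSubscheme (I.comap h) = 0 :=
      kernel_comp_eq_zero _ _ IsAffineOpen (fun _ _ hx => exists_isAffineOpen_mem_and_subset hx)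
        fun V hV r hr => (mem_ideal_iff _ ⟨V, hV⟩ r).1 (hle ⟨V, hV⟩ ((mem_ideal_iff _ ⟨V, hV⟩ r).2 hr))
    have hd := Abelian.comp_epiDesc (ClSub.toSubscheme (J.comap h)) (ClSub.toSubscheme (I.comap h)) hk
    have h3 : P.map (ClSub.toSubscheme I) = u.hom ≫ ClSub.toSubscheme (I.comap h) ≫ i.inv := by
      rw [← hi]; simp [P, u]
    have h4 : P.map (ClSub.idealModι J) ≫ u.hom ≫ ClSub.toSubscheme (J.comap h) = 0 := by
      rw [← hj, Iso.hom_inv_id_assoc, ← Functor.map_comp_assoc, ClSub.idealModι, kernel.condition,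
        Functor.map_zero, zero_comp]
    show P.map _ = 0
    rw [Functor.map_comp, h3, ← hd]
    simp only [Category.assoc]
    rw [reassoc_of% h4, zero_comp]

variable {X S : Scheme.{u}} {f : X ⟶ S}

theorem hilbPull_hilbPull {T T' T'' : Over S} (g : T' ⟶ T) (g' : T'' ⟶ T')
    (I : (PicF.XT f T).IdealSheafData) :
    FGA.hilbPull f g' (FGA.hilbPull f g I) = FGA.hilbPull f (g' ≫ g) I := by
  rw [S17081.hilbPull_eq_comap, S17081.hilbPull_eq_comap, S17081.hilbPull_eq_comap,
    ← Scheme.IdealSheafData.comap_comp, XTmap_comp]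

theorem flat_hilbPull [LocallyOfFiniteType f] {T T' : Over S} [IsLocallyNoetherian T'.left] (g : T' ⟶ T)
    (I : (PicF.XT f T).IdealSheafData) (hI : Flat (I.subschemeι ≫ PicF.XTproj f T)) :
    Flat ((FGA.hilbPull f g I).subschemeι ≫ PicF.XTproj f T') := by
  rw [← isFam_idQuo_iff, S17081.hilbPull_eq_comap]
  exact Quo.IsFam.of_rel (Quo.IsFam.pull ((isFam_idQuo_iff I).2 hI) g) (idQuo_pull I g)

/-- Pullback of a member of the Hilbert functor. -/
def pullSet [IsProper f] {T T' : Over S} [IsLocallyNoetherian T'.left] (g : T' ⟶ T) (Z : FGA.HilbSet f T) :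
    FGA.HilbSet f T' :=
  ⟨FGA.hilbPull f g Z.1,
    haveI : IsProper (PicF.XTproj f T') := MorphismProperty.pullback_snd _ _ inferInstance
    inferInstance, flat_hilbPull g Z.1 Z.2.2⟩

/-- The nested pairs inside a pair of families form a closed subscheme of the base. -/
theorem exists_nested_locus [IsProper f] (T : Over S) [IsLocallyNoetherian T.left] (Z₁ Z₂ : FGA.HilbSet f T) :
    ∃ (T' : Over S) (c : T' ⟶ T), IsClosedImmersion c.left ∧ ∀ (U : Over S) (g : U ⟶ T),
      (∃ h : U ⟶ T', h ≫ c = g) ↔ FGA.hilbPull f g Z₂.1 ≤ FGA.hilbPull f g Z₁.1 := by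
  let q := PicF.XTproj f T
  haveI : IsProper q := MorphismProperty.pullback_snd _ _ inferInstance
  haveI : LocallyOfFinitePresentation q := inferInstance
  haveI := isLocallyNoetherian_XT (f := f) T
  have hF : Coh.IsCoh (ClSub.quotMod Z₁.1) := isCoh_quotMod _
  haveI : Coh.IsQCoh (ClSub.quotMod Z₁.1) := hF.1
  haveI : Coh.IsQCoh (ClSub.idealMod Z₂.1) := QC.isQCoh_idealMod _
  let σ := ClSub.idealModι Z₂.1 ≫ ClSub.toSubscheme Z₁.1
  obtain ⟨Z, i, hi, hZ⟩ := VanLocus.exists_closedImmersion q σ (QC.isFP_of_isQCoh_of_isFT hF.2)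
    ((isFlatOver_quotMod_iff q Z₁.1).2 Z₁.2.2)
  refine ⟨Over.mk (i ≫ T.hom), Over.homMk i rfl, hi, fun U g => ?_⟩
  rw [S17081.hilbPull_eq_comap, S17081.hilbPull_eq_comap, ← map_ι_comp_eq_zero_iff,
    ← VanLocus.vanG_iff q σ g.left (PicF.XTmap f g) (PicF.XTproj f U) (PicFam.isPullback_XTmap f g), ← hZ]
  constructor
  · rintro ⟨h, rfl⟩
    exact ⟨h.left, rfl⟩
  · rintro ⟨h, hh⟩
    exact ⟨Over.homMk h (by change h ≫ i ≫ T.hom = U.hom; rw [reassoc_of% hh, Over.w g]), Over.OverMorphism.ext hh⟩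

/-- Product of two closed subschemes of projective spaces. -/
theorem exists_closed_product {A B W : Scheme.{u}} {a b : ℕ} (i : A ⟶ CohB1.ProjSpaceOver a S)
    (j : B ⟶ CohB1.ProjSpaceOver b S) [IsClosedImmersion i] [IsClosedImmersion j] (hA : A ⟶ S) (hB : B ⟶ S)
    (hi : i ≫ CohB1.ProjSpaceOver.toBase a S = hA) (hj : j ≫ CohB1.ProjSpaceOver.toBase b S = hB)
    (w : W ⟶ pullback hA hB) [IsClosedImmersion w] :
    ∃ (m : ℕ) (c : W ⟶ CohB1.ProjSpaceOver m S), IsClosedImmersion c ∧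
      c ≫ CohB1.ProjSpaceOver.toBase m S = w ≫ pullback.fst hA hB ≫ hA := by
  subst hi hj
  haveI : IsProper (CohB1.ProjSpaceOver.toBase a S) := HQProj.isProper_toBase a S
  haveI : IsProper (CohB1.ProjSpaceOver.toBase b S) := HQProj.isProper_toBase b S
  haveI : IsProper (CohB1.ProjSpaceOver.toBase (a * b + a + b) S) := HQProj.isProper_toBase _ S
  obtain ⟨φ, hφ, hφb⟩ := SegreMap.exists_segre S a b
  haveI : IsProper (φ ≫ CohB1.ProjSpaceOver.toBase (a * b + a + b) S) := by
    rw [hφb]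
    haveI : IsProper (pullback.fst (CohB1.ProjSpaceOver.toBase a S) (CohB1.ProjSpaceOver.toBase b S)) :=
      MorphismProperty.pullback_fst _ _ inferInstance
    infer_instance
  haveI : IsProper φ := IsProper.of_comp φ (CohB1.ProjSpaceOver.toBase (a * b + a + b) S)
  haveI : IsClosedImmersion φ := (IsClosedImmersion.iff_isProper_and_mono _).mpr ⟨inferInstance, inferInstance⟩
  let μ := pullback.map (i ≫ CohB1.ProjSpaceOver.toBase a S) (j ≫ CohB1.ProjSpaceOver.toBase b S)
    (CohB1.ProjSpaceOver.toBase a S) (CohB1.ProjSpaceOver.toBase b S) i j (𝟙 S) (Category.comp_id _)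
    (Category.comp_id _)
  haveI : IsClosedImmersion μ :=
    MorphismProperty.pullbackMap (P := @IsClosedImmersion) ‹_› ‹_› rfl rfl
  refine ⟨a * b + a + b, w ≫ μ ≫ φ, inferInstance, ?_⟩
  rw [Category.assoc, Category.assoc, hφb]
  simp [μ]

theorem exists_flag [IsProper f] [IsLocallyNoetherian S] (H₀ : Over S) (Z₀ : FGA.HilbSet f H₀)
    (hH₀ : FGA.HilbRepresentedBy f H₀ Z₀) {ι : Type u} (P : ι → Scheme.{u}) (e : (∐ P) ≅ H₀.left) (m : ι → ℕ)
    (c : ∀ a, P a ⟶ CohB1.ProjSpaceOver (m a) S) (hc : ∀ a, IsClosedImmersion (c a) ∧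
      c a ≫ CohB1.ProjSpaceOver.toBase (m a) S = Limits.Sigma.ι P a ≫ e.hom ≫ H₀.hom) :
    ∃ (H : Over S) (W₁ W₂ : FGA.HilbSet f H), W₂.1 ≤ W₁.1 ∧ IsLocallyNoetherian H.left ∧
      (∀ (T : Over S) [IsLocallyNoetherian T.left] (Y₁ Y₂ : FGA.HilbSet f T), Y₂.1 ≤ Y₁.1 →
        ∃! g : T ⟶ H, FGA.hilbPull f g W₁.1 = Y₁.1 ∧ FGA.hilbPull f g W₂.1 = Y₂.1) ∧
      ∃ (ι : Type u) (P : ι → Scheme.{u}) (e : (∐ P) ≅ H.left) (m : ι → ℕ)
        (c : ∀ a, P a ⟶ CohB1.ProjSpaceOver (m a) S),
        ∀ a, IsClosedImmersion (c a) ∧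
          c a ≫ CohB1.ProjSpaceOver.toBase (m a) S = Limits.Sigma.ι P a ≫ e.hom ≫ H.hom := by
  haveI := hH₀.1
  let k : ∀ a, P a ⟶ H₀.left := fun a => Limits.Sigma.ι P a ≫ e.hom
  have hkd : ∀ a b x y, k a x = k b y → a = b := fun a b x y h => by
    have h' : Limits.Sigma.ι P a x = Limits.Sigma.ι P b y := e.hom.isOpenEmbedding.injective h
    exact congrArg Sigma.fst ((sigmaMk P).injective (a₁ := ⟨a, x⟩) (a₂ := ⟨b, y⟩)
      ((sigmaMk_mk P a x).trans (h'.trans (sigmaMk_mk P b y).symm)))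
  have hkc : ∀ z, ∃ a x, k a x = z := fun z => by
    obtain ⟨⟨a, x⟩, hx⟩ := (sigmaMk P).surjective (e.inv z)
    refine ⟨a, x, ?_⟩
    change e.hom (Limits.Sigma.ι P a x) = z
    rw [← sigmaMk_mk P a x, hx, ← Scheme.Hom.comp_apply, e.inv_hom_id]
    rfl
  haveI : ∀ a, IsOpenImmersion (k a) := fun a => inferInstance
  haveI : LocallyOfFiniteType H₀.hom := by
    refine IsZariskiLocalAtSource.of_openCover (P := @LocallyOfFiniteType)
      ((sigmaOpenCover P).pushforwardIso e.hom) fun a => ?_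
    show LocallyOfFiniteType ((Limits.Sigma.ι P a ≫ e.hom) ≫ H₀.hom)
    rw [Category.assoc, ← (hc a).2]
    haveI := (hc a).1
    haveI := HQProj.isProper_toBase (m a) S
    infer_instance
  let H' : Over S := Over.mk (pullback.fst H₀.hom H₀.hom ≫ H₀.hom)
  let pr₁ : H' ⟶ H₀ := Over.homMk (pullback.fst H₀.hom H₀.hom) rfl
  let pr₂ : H' ⟶ H₀ := Over.homMk (pullback.snd H₀.hom H₀.hom) pullback.condition.symm
  haveI : IsLocallyNoetherian H'.left :=
    LocallyOfFiniteType.isLocallyNoetherian (pullback.fst H₀.hom H₀.hom)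
  obtain ⟨H, cH, hcH, hcrit⟩ := exists_nested_locus H' (pullSet pr₁ Z₀) (pullSet pr₂ Z₀)
  haveI := hcH
  haveI : IsLocallyNoetherian H.left := LocallyOfFiniteType.isLocallyNoetherian cH.left
  refine ⟨H, pullSet (cH ≫ pr₁) Z₀, pullSet (cH ≫ pr₂) Z₀, ?_, inferInstance, fun T _ Y₁ Y₂ hY => ?_, ?_⟩
  · have h := (hcrit H cH).1 ⟨𝟙 H, Category.id_comp _⟩
    dsimp only [pullSet] at h ⊢
    rwa [hilbPull_hilbPull, hilbPull_hilbPull] at h
  · obtain ⟨g₁, hg₁, hu₁⟩ := hH₀.2 T Y₁
    obtain ⟨g₂, hg₂, hu₂⟩ := hH₀.2 T Y₂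
    let g : T ⟶ H' := Over.homMk (pullback.lift g₁.left g₂.left ((Over.w g₁).trans (Over.w g₂).symm)) (by
      show _ ≫ pullback.fst H₀.hom H₀.hom ≫ H₀.hom = T.hom
      rw [pullback.lift_fst_assoc]
      exact Over.w g₁)
    have hp₁ : g ≫ pr₁ = g₁ := Over.OverMorphism.ext (pullback.lift_fst _ _ _)
    have hp₂ : g ≫ pr₂ = g₂ := Over.OverMorphism.ext (pullback.lift_snd _ _ _)
    obtain ⟨h, hh⟩ := (hcrit T g).2 (by
      dsimp only [pullSet]
      rw [hilbPull_hilbPull, hilbPull_hilbPull, hp₁, hp₂, hg₁, hg₂]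
      exact hY)
    refine ⟨h, ⟨?_, ?_⟩, fun h' hh' => ?_⟩
    · dsimp only [pullSet]
      rw [hilbPull_hilbPull, ← Category.assoc, hh, hp₁, hg₁]
    · dsimp only [pullSet]
      rw [hilbPull_hilbPull, ← Category.assoc, hh, hp₂, hg₂]
    · have e₁ := hu₁ (h' ≫ cH ≫ pr₁) ((hilbPull_hilbPull _ _ _).symm.trans hh'.1)
      have e₂ := hu₂ (h' ≫ cH ≫ pr₂) ((hilbPull_hilbPull _ _ _).symm.trans hh'.2)
      refine Over.OverMorphism.ext ((cancel_mono cH.left).1 ?_)
      have e0 : h' ≫ cH = g := Over.OverMorphism.ext (pullback.hom_ext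
        ((congr(($e₁).left)).trans (pullback.lift_fst _ _ _).symm)
        ((congr(($e₂).left)).trans (pullback.lift_snd _ _ _).symm))
      exact congr(($(e0.trans hh.symm)).left)
  · let hp : ∀ a, P a ⟶ S := fun a => k a ≫ H₀.hom
    let μ : ∀ p : ι × ι, pullback (hp p.1) (hp p.2) ⟶ H'.left := fun p =>
      pullback.map (hp p.1) (hp p.2) H₀.hom H₀.hom (k p.1) (k p.2) (𝟙 S) (Category.comp_id _) (Category.comp_id _)
    let W : ι × ι → Scheme.{u} := fun p => pullback cH.left (μ p)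
    let kk : ∀ p, W p ⟶ H.left := fun p => pullback.fst cH.left (μ p)
    have hkd' : Pairwise (Function.onFun Disjoint fun p => Set.range (kk p)) := by
      intro p p' hne
      refine Set.disjoint_iff_forall_ne.mpr ?_
      rintro _ ⟨x, rfl⟩ _ ⟨y, rfl⟩ heq
      have h1 : μ p (pullback.snd cH.left (μ p) x) = μ p' (pullback.snd cH.left (μ p') y) := by
        rw [← Scheme.Hom.comp_apply, ← Scheme.Hom.comp_apply, ← pullback.condition, ← pullback.condition,
          Scheme.Hom.comp_apply, Scheme.Hom.comp_apply]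
        exact congrArg cH.left heq
      refine hne (Prod.ext ?_ ?_)
      · refine hkd _ _ (pullback.fst (hp p.1) (hp p.2) (pullback.snd cH.left (μ p) x))
          (pullback.fst (hp p'.1) (hp p'.2) (pullback.snd cH.left (μ p') y)) ?_
        have e1 : ∀ p : ι × ι, μ p ≫ pullback.fst H₀.hom H₀.hom = pullback.fst (hp p.1) (hp p.2) ≫ k p.1 :=
          fun p => pullback.lift_fst _ _ _
        exact ((congr(($(e1 p)) _)).symm.trans (congrArg (pullback.fst H₀.hom H₀.hom) h1)).trans (congr(($(e1 p')) _))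
      · refine hkd _ _ (pullback.snd (hp p.1) (hp p.2) (pullback.snd cH.left (μ p) x))
          (pullback.snd (hp p'.1) (hp p'.2) (pullback.snd cH.left (μ p') y)) ?_
        have e1 : ∀ p : ι × ι, μ p ≫ pullback.snd H₀.hom H₀.hom = pullback.snd (hp p.1) (hp p.2) ≫ k p.2 :=
          fun p => pullback.lift_snd _ _ _
        exact ((congr(($(e1 p)) _)).symm.trans (congrArg (pullback.snd H₀.hom H₀.hom) h1)).trans (congr(($(e1 p')) _))
    haveI : IsOpenImmersion (Limits.Sigma.desc kk) := isOpenImmersion_sigmaDesc _ kk hkd'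
    haveI : Surjective (Limits.Sigma.desc kk) := ⟨fun z => by
      obtain ⟨a, x, hx⟩ := hkc (pullback.fst H₀.hom H₀.hom (cH.left z))
      obtain ⟨b, y, hy⟩ := hkc (pullback.snd H₀.hom H₀.hom (cH.left z))
      have hz : cH.left z ∈ Set.range (μ (a, b)) := by
        exact (Set.ext_iff.1 (Scheme.Pullback.range_map (f := hp a) (g := hp b) H₀.hom H₀.hom (k a) (k b)
          (𝟙 S) (Category.comp_id _) (Category.comp_id _)) _).2 ⟨⟨x, hx⟩, ⟨y, hy⟩⟩
      obtain ⟨w, hw⟩ : z ∈ Set.range (kk (a, b)) := by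
        rw [Scheme.Pullback.range_fst]
        exact hz
      exact ⟨Limits.Sigma.ι W (a, b) w, by rw [← Scheme.Hom.comp_apply, Limits.Sigma.ι_desc]; exact hw⟩⟩
    haveI : IsIso (Limits.Sigma.desc kk) :=
      (isIso_iff_isOpenImmersion_and_surjective _).2 ⟨inferInstance, inferInstance⟩
    have hw : ∀ p : ι × ι, ∃ (n : ℕ) (cc : W p ⟶ CohB1.ProjSpaceOver n S), IsClosedImmersion cc ∧
        cc ≫ CohB1.ProjSpaceOver.toBase n S = kk p ≫ H.hom := fun p => by
      haveI := (hc p.1).1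
      haveI := (hc p.2).1
      obtain ⟨n, cc, h1, h2⟩ := exists_closed_product (c p.1) (c p.2) (hp p.1) (hp p.2)
        ((hc p.1).2.trans (Category.assoc _ _ _).symm) ((hc p.2).2.trans (Category.assoc _ _ _).symm)
        (pullback.snd cH.left (μ p))
      refine ⟨n, cc, h1, h2.trans ?_⟩
      have e1 : H.hom = cH.left ≫ pullback.fst H₀.hom H₀.hom ≫ H₀.hom := (Over.w cH).symm
      rw [e1]
      show _ = pullback.fst cH.left (μ p) ≫ cH.left ≫ _
      rw [pullback.condition_assoc]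
      simp [μ, hp]
    choose n cc hcc hccb using hw
    exact ⟨_, W, asIso (Limits.Sigma.desc kk), n, cc, fun p => ⟨hcc p, by
      rw [hccb, asIso_hom, Limits.Sigma.ι_desc_assoc]⟩⟩

end Groth.Agent.QuotProj.Flag

end
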