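import Groth.Agent.QuotProj.Fam
import Groth.Agent.GrassQ.Univ
import Groth.Agent.HilbFib.StratumGlue
import Groth.Agent.TMul.RelAmpleOps

/-!
Quotients with a fixed Hilbert polynomial as a stratum of a Grassmannian.
-/

set_option autoImplicit false
set_option backward.isDefEq.respectTransparency false
set_option backward.isDefEq.respectTransparency.types false
set_option linter.style.haveILetI false

universe u

open CategoryTheory CategoryTheory.Limits AlgebraicGeometry

noncomputable section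

namespace Groth.Agent.QuotProj

theorem exists_iso_bc_square {W Y T T' Z : Scheme.{u}} {p : Y ⟶ T} {g : T ⟶ Z} {p' : W ⟶ T'} {k : T' ⟶ T}
    {g' : T' ⟶ Z} {h : W ⟶ Y} (sq : h ≫ p = p' ≫ k) (hk : k ≫ g = g') (hh : h ≫ p ≫ g = p' ≫ g')
    {V : Z.Modules} {Λ : T.Modules} (s : (Scheme.Modules.pullback g).obj V ⟶ Λ) :
    ∃ i : (Scheme.Modules.pullback h).obj ((Scheme.Modules.pullback p).obj Λ) ≅
        (Scheme.Modules.pullback p').obj ((Scheme.Modules.pullback k).obj Λ),
      bc hh (bc rfl s) ≫ i.hom = bc rfl (bc hk s) := by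
  obtain ⟨i, hi⟩ := exists_iso_bc_comp (hkπ := (Category.assoc h p g).trans hh) rfl hh rfl s
  obtain ⟨j, hj⟩ := exists_iso_bc_comp (hkπ := (Category.assoc h p g).trans hh) hk rfl sq.symm s
  refine ⟨i ≪≫ j.symm, ?_⟩
  rw [Iso.trans_hom, Iso.symm_hom, reassoc_of% hi, ← hj, Category.assoc, Iso.hom_inv_id, Category.comp_id]

theorem exists_isPushout_pull {W Y T T' Z X : Scheme.{u}} {p : Y ⟶ T} {g : T ⟶ Z} {p' : W ⟶ T'} {g' : T' ⟶ Z}
    {b : Y ⟶ X} {f : X ⟶ Z} {b' : W ⟶ X} {k : T' ⟶ T} {h : W ⟶ Y} (hb : b ≫ f = p ≫ g) (hb' : b' ≫ f = p' ≫ g')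
    (hk : k ≫ g = g') (h1 : h ≫ b = b') (h2 : h ≫ p = p' ≫ k) {V : Z.Modules} {E : X.Modules}
    (θ : (Scheme.Modules.pullback f).obj V ⟶ E) {Λ : T.Modules} (s : (Scheme.Modules.pullback g).obj V ⟶ Λ)
    {C : Y.Modules} {v : (Scheme.Modules.pullback p).obj Λ ⟶ C} {q : (Scheme.Modules.pullback b).obj E ⟶ C}
    (H : IsPushout (bc rfl s) (bc hb θ) v q) :
    ∃ v', IsPushout (bc rfl (bc hk s)) (bc hb' θ) v' (bc h1 q) := by
  have hh : h ≫ p ≫ g = p' ≫ g' := by rw [reassoc_of% h2, hk]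
  obtain ⟨i, hi⟩ := exists_iso_bc_square h2 hk hh s
  have hj : bc hh (bc hb θ) ≫ ((Scheme.Modules.pullbackComp h b).app E ≪≫
      (Scheme.Modules.pullbackCongr h1).app E).hom = bc hb' θ := GrassBC.quotBC_quotBC hb hh h1 hb' θ
  haveI : PreservesFiniteColimits (Scheme.Modules.pullback h) :=
    haveI : PreservesColimitsOfSize.{u, u} (Scheme.Modules.pullback h) :=
      (Scheme.Modules.pullbackPushforwardAdjunction h).leftAdjoint_preservesColimits
    PreservesColimitsOfSize.preservesFiniteColimits _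
  refine ⟨i.inv ≫ (Scheme.Modules.pullback h).map v, ?_⟩
  refine IsPushout.of_iso (H.map (Scheme.Modules.pullback h))
    ((Scheme.Modules.pullbackComp h (p ≫ g)).app V ≪≫ (Scheme.Modules.pullbackCongr hh).app V) i
    ((Scheme.Modules.pullbackComp h b).app E ≪≫ (Scheme.Modules.pullbackCongr h1).app E) (Iso.refl _) ?_ ?_ ?_ ?_
  · rw [← hi]
    simp [bc, Grass.quotBC]
  · rw [← hj]
    simp [bc, Grass.quotBC]
  · simp
  · simp [bc, Grass.quotBC]

theorem isQCoh_pushout {Y : Scheme.{u}} {A B E : Y.Modules} (a : A ⟶ B) (b : A ⟶ E) [Epi a]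
    (hA : Coh.IsQCoh A) (hB : Coh.IsQCoh B) (hE : Coh.IsQCoh E) : Coh.IsQCoh (pushout a b) := by
  have h0 : (kernel.ι a ≫ b) ≫ pushout.inr a b = 0 := by
    rw [Category.assoc, ← pushout.condition, kernel.condition_assoc, zero_comp]
  have h1 : kernel.ι a ≫ b ≫ cokernel.π (kernel.ι a ≫ b) = 0 := by
    rw [← Category.assoc, cokernel.condition]
  let j : cokernel (kernel.ι a ≫ b) ≅ pushout a b :=
    { hom := cokernel.desc _ (pushout.inr a b) h0
      inv := pushout.desc (Abelian.epiDesc a (b ≫ cokernel.π _) h1) (cokernel.π _) (Abelian.comp_epiDesc a _ h1)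
      hom_inv_id := coequalizer.hom_ext (by simp)
      inv_hom_id := by
        apply pushout.hom_ext
        · rw [← cancel_epi a]
          simp [pushout.condition]
        · simp }
  exact QC.isQCoh_of_iso j (QC.isQCoh_cokernel (QC.isQCoh_kernel hA hB a) hE _)

variable {X S : Scheme.{u}} {f : X ⟶ S} {E : X.Modules} {V : S.Modules}

/-- The generators on the base change. -/
def thT (θ : (Scheme.Modules.pullback f).obj V ⟶ E) (T : Over S) :
    (Scheme.Modules.pullback (PicF.XTproj f T ≫ T.hom)).obj V ⟶ FGA.ET f E T :=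
  bc (pullback.condition (f := f) (g := T.hom)) θ

variable (θ : (Scheme.Modules.pullback f).obj V ⟶ E)

/-- The map on the direct images of a quotient. -/
def Quo.beta {T : Over S} (a : Quo f E T) :
    (Scheme.Modules.pullback T.hom).obj V ⟶ (Scheme.Modules.pushforward (PicF.XTproj f T)).obj a.F :=
  (Scheme.Modules.pullbackPushforwardAdjunction (PicF.XTproj f T)).homEquiv _ _
    ((Scheme.Modules.pullbackComp (PicF.XTproj f T) T.hom).hom.app V ≫ thT θ T ≫ a.q)

theorem bc_rfl_comp_iff {Y T Z : Scheme.{u}} {p : Y ⟶ T} {g : T ⟶ Z} {V : Z.Modules} {Λ : T.Modules}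
    {F : Y.Modules} (s : (Scheme.Modules.pullback g).obj V ⟶ Λ) (v : (Scheme.Modules.pullback p).obj Λ ⟶ F)
    (w : (Scheme.Modules.pullback (p ≫ g)).obj V ⟶ F) :
    bc rfl s ≫ v = w ↔ s ≫ (Scheme.Modules.pullbackPushforwardAdjunction p).homEquiv _ _ v =
      (Scheme.Modules.pullbackPushforwardAdjunction p).homEquiv _ _
        ((Scheme.Modules.pullbackComp p g).hom.app V ≫ w) := by
  rw [← Adjunction.homEquiv_naturality_left, EmbeddingLike.apply_eq_iff_eq]
  refine ⟨fun h => ?_, fun h => ?_⟩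
  · simp [← h, bc, Grass.quotBC, Scheme.Modules.pullbackCongr]
  · rw [← cancel_epi ((Scheme.Modules.pullbackComp p g).hom.app V), ← h]
    simp [bc, Grass.quotBC, Scheme.Modules.pullbackCongr]

theorem Quo.comp_beta_iff {T : Over S} (a : Quo f E T) {Λ : T.left.Modules}
    (s : (Scheme.Modules.pullback T.hom).obj V ⟶ Λ) (v : (Scheme.Modules.pullback (PicF.XTproj f T)).obj Λ ⟶ a.F) :
    bc rfl s ≫ v = thT θ T ≫ a.q ↔
      s ≫ (Scheme.Modules.pullbackPushforwardAdjunction (PicF.XTproj f T)).homEquiv _ _ v = a.beta θ :=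
  bc_rfl_comp_iff s v _

/-- A quotient recovered from its direct image, a locally free quotient of the generators. -/
structure Quo.Good {T : Over S} (r : ℕ) (a : Quo f E T) : Prop where
  rank : FlatMod.IsFinLocFreeOfRank r ((Scheme.Modules.pushforward (PicF.XTproj f T)).obj a.F)
  epi : Epi (a.beta θ)
  po : IsPushout (bc rfl (a.beta θ)) (thT θ T)
    ((Scheme.Modules.pullbackPushforwardAdjunction (PicF.XTproj f T)).counit.app a.F) a.q

/-- A universal quotient with given Hilbert polynomial. -/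
structure Rep (L : X.Modules) (Φ : Polynomial ℚ) (Q : Over S) (aQ : Quo f E Q) : Prop where
  noeth : IsLocallyNoetherian Q.left
  fam : aQ.IsFam
  poly : aQ.HasPoly L Φ
  univ : ∀ (T : Over S) [IsLocallyNoetherian T.left] (a : Quo f E T), a.IsFam → a.HasPoly L Φ →
    ∃! g : T ⟶ Q, (aQ.pull g).Rel a

end Groth.Agent.QuotProj

end
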