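import Groth.Agent.PicBdd.Hilb
import Groth.Agent.HilbFib.Square
import Groth.Agent.QC.Pullback

/-!
Hilbert functions of coherent modules on proper fibres are polynomial.
-/

set_option autoImplicit false
set_option linter.unusedSectionVars false
set_option linter.style.haveILetI false
set_option backward.isDefEq.respectTransparency false
set_option backward.isDefEq.respectTransparency.types false

universe u

open CategoryTheory CategoryTheory.Limits AlgebraicGeometry TopologicalSpace Opposite
open Groth.Agent.Intersect Groth.Agent.Nakai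

noncomputable section

namespace Groth.Agent.QuotProj

attribute [local instance] clMonoid

theorem exists_euler_poly (k : Type u) [Field k] {X : Scheme.{u}} [X.Over (Spec (CommRingCat.of k))]
    [IsProper (X ↘ Spec (CommRingCat.of k))] {H G : X.Modules} (hH : PicF.IsInvertible H) (hG : Coh.IsCoh G) :
    ∃ Q : Polynomial ℚ, ∀ a : ℕ,
      (Curv2.euler k X (CohB1.tensorMod G (CohB1.tensorPow H a)) : ℚ) = Q.eval (a : ℚ) := by
  obtain ⟨dX, hdX⟩ := exists_dim_bound k (X := X)
  obtain ⟨P, -, hP⟩ := exists_polynomial k hG (D := dX + 1)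
    (lt_succ_of_le' ((topologicalKrullDim_subspace_le X _).trans hdX)) (L := fun _ : Fin 1 => H) (fun _ => hH)
  refine ⟨MvPolynomial.eval₂ Polynomial.C (fun _ => Polynomial.X) P, fun a => ?_⟩
  have hg : (Curv2.euler k X (CohB1.tensorMod G (CohB1.tensorPow H a)) : ℚ) =
      MvPolynomial.eval (fun _ => (a : ℚ)) P := by
    rw [← hP (fun _ => a), euler_congr k (show PicF.cl (CohB1.tensorMod G (CohB1.tensorPow H a)) =
      PicF.cl (Curv2.tensorPows G 1 (fun _ => H) fun _ => a) by
        simp only [Curv2.tensorPows, cl_tensor, cl_pow])]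
  rw [hg, ← Polynomial.coe_evalRingHom, MvPolynomial.eval₂_comp_left]
  show MvPolynomial.eval₂ (RingHom.id ℚ) (fun _ => (a : ℚ)) P = MvPolynomial.eval₂ _ _ P
  congr 1
  · ext b; simp
  · funext i; simp

/-- The Hilbert function of a fibre is a polynomial. -/
theorem exists_hilb_poly {Y T : Scheme.{u}} (p : Y ⟶ T) [IsProper p] [IsLocallyNoetherian Y] {L : Y.Modules}
    (hL : PicF.IsInvertible L) {F : Y.Modules} (hF : Coh.IsCoh F) (t : T) :
    ∃ P : Polynomial ℚ, ∀ k : ℕ, (HilbFib.hilb p L F t k : ℚ) = P.eval (k : ℚ) := by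
  letI : (p.fiber t).Over (Spec (CommRingCat.of (T.residueField t))) := ⟨p.fiberToSpecResidueField t⟩
  haveI : IsProper (p.fiberToSpecResidueField t) := inferInstanceAs (IsProper (pullback.snd p _))
  haveI : IsProper (p.fiber t ↘ Spec (CommRingCat.of (T.residueField t))) :=
    inferInstanceAs (IsProper (p.fiberToSpecResidueField t))
  haveI : IsLocallyNoetherian (p.fiber t) :=
    LocallyOfFiniteType.isLocallyNoetherian (p.fiberToSpecResidueField t)
  obtain ⟨Q, hQ⟩ := exists_euler_poly (T.residueField t) (PicLoc.isInvertible_pullback (p.fiberι t) hL)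
    (QC.isCoh_pullback (p.fiberι t) hF)
  refine ⟨Q, fun k => ?_⟩
  rw [HilbFib.hilb_eq_euler, ← hQ k]
  obtain ⟨a⟩ := TMul.nonempty_pullPowIso (p.fiberι t) L k
  obtain ⟨b⟩ := TMul.nonempty_pullTensorIso (p.fiberι t) F (CohB1.tensorPow L k)
  exact congrArg _ (CurveRR.euler_eq_of_iso (b.symm ≪≫ PicGrp.tensorModIso (Iso.refl _) a.symm))

end Groth.Agent.QuotProj

end
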