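import Groth.Agent.QuotProj.Fam
import Groth.Agent.QuotProj.Core
import Groth.Agent.QuotProj.HilbPoly
import Groth.Agent.HilbFib.Affine
import Groth.Agent.QC.Closure

/-!
Quot schemes as disjoint unions of the pieces with fixed Hilbert polynomial.
-/

set_option autoImplicit false
set_option backward.isDefEq.respectTransparency false
set_option backward.isDefEq.respectTransparency.types false
set_option linter.style.haveILetI false
set_option maxHeartbeats 1000000

universe u

open CategoryTheory CategoryTheory.Limits AlgebraicGeometry TopologicalSpace Opposite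
open Groth.Agent.QC (res res_res res_self app_res)

noncomputable section

namespace Groth.Agent.QuotProj

variable {Z : Scheme.{u}} {ι : Type u} {W : ι → Scheme.{u}} (j : ∀ i, W i ⟶ Z) [∀ i, IsOpenImmersion (j i)]

theorem pi_app_ext (M : ι → Z.Modules) {U : Z.Opens} {z z' : Γ(∏ᶜ M, U)}
    (h : ∀ i, (Pi.π M i).app U z = (Pi.π M i).app U z') : z = z' := by
  haveI : PreservesLimit (Discrete.functor M)
      (Scheme.Modules.toPresheaf Z ⋙ (evaluation Z.Opensᵒᵖ AddCommGrpCat.{u}).obj (op U)) := by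
    haveI : PreservesLimit (Discrete.functor M ⋙ Scheme.Modules.toPresheaf Z)
      ((evaluation Z.Opensᵒᵖ AddCommGrpCat.{u}).obj (op U)) :=
      (evaluationPreservesLimits (C := AddCommGrpCat.{u}) (K := Z.Opensᵒᵖ) (op U)).preservesLimitsOfShape.preservesLimit
    exact comp_preservesLimit _ _
  refine Concrete.isLimit_ext _
    (isLimitOfPreserves (Scheme.Modules.toPresheaf Z ⋙ (evaluation Z.Opensᵒᵖ AddCommGrpCat.{u}).obj (op U))
      (limit.isLimit (Discrete.functor M))) z z' ?_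
  rintro ⟨i⟩
  exact h i

/-- On one piece a product of direct images from disjoint pieces is its own component. -/
theorem isIso_restrict_pi (hd : ∀ a b x y, j a x = j b y → a = b) (N : ∀ i, (W i).Modules) (a : ι) :
    IsIso ((Scheme.Modules.restrictFunctor (j a)).map
      (Pi.π (fun i => (Scheme.Modules.pushforward (j i)).obj (N i)) a)) := by
  classical
  let M := fun i => (Scheme.Modules.pushforward (j i)).obj (N i)
  let g : M a ⟶ ∏ᶜ M := Pi.lift fun i => if h : a = i then eqToHom (congrArg M h) else 0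
  have hg : g ≫ Pi.π M a = 𝟙 _ := by simp [g]
  refine ⟨(Scheme.Modules.restrictFunctor (j a)).map g, ?_, by rw [← Functor.map_comp, hg]; exact CategoryTheory.Functor.map_id _ _⟩
  refine Scheme.Modules.hom_ext _ _ fun V => ?_
  ext z
  refine pi_app_ext M (U := j a ''ᵁ V) (z := g.app _ ((Pi.π M a).app _ z)) (z' := z) fun b => ?_
  by_cases hb : a = b
  · subst hb
    exact congr(($hg).app (j a ''ᵁ V) ((Pi.π M a).app _ z))
  · refine QC.section_eq_of_locally (M := N b) (U := j b ⁻¹ᵁ (j a ''ᵁ V)) fun x hx => ?_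
    obtain ⟨y, -, hy⟩ := hx
    exact absurd (hd a b y x hy) hb

theorem epi_of_pieces (hcov : ∀ z, ∃ i x, j i x = z) {M F : Z.Modules} (q : M ⟶ F)
    (h : ∀ i, Epi ((Scheme.Modules.pullback (j i)).map q)) : Epi q := by
  refine ⟨fun {G} a b hab => Scheme.Modules.hom_ext _ _ fun U => ?_⟩
  ext t
  refine QC.section_eq_of_locally fun z hz => ?_
  obtain ⟨i, x, rfl⟩ := hcov z
  haveI := h i
  have h0 : (Scheme.Modules.pullback (j i)).map a = (Scheme.Modules.pullback (j i)).map b := by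
    rw [← cancel_epi ((Scheme.Modules.pullback (j i)).map q), ← Functor.map_comp, ← Functor.map_comp, hab]
  have h1 : (Scheme.Modules.restrictFunctor (j i)).map a = (Scheme.Modules.restrictFunctor (j i)).map b := by
    rw [← cancel_mono ((Scheme.Modules.restrictFunctorIsoPullback (j i)).hom.app G), NatTrans.naturality,
      NatTrans.naturality, h0]
  refine ⟨j i ''ᵁ (j i ⁻¹ᵁ U), (j i).image_preimage_le U, ⟨x, hz, rfl⟩, ?_⟩
  rw [app_res, app_res]
  exact congr(($h1).app (j i ⁻¹ᵁ U) _)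

variable {X S : Scheme.{u}} {f : X ⟶ S} {E : X.Modules} {L : X.Modules}

/-- Quotients over the members of a disjoint open cover glue. -/
theorem exists_glue_quo [IsProper f] (hE : Coh.IsCoh E) {Q : Over S} [IsLocallyNoetherian Q.left] {ι : Type u}
    {P : ι → Over S} (k : ∀ i, P i ⟶ Q) [∀ i, IsOpenImmersion (k i).left]
    (hd : ∀ a b x y, (k a).left x = (k b).left y → a = b) (hcov : ∀ z, ∃ i x, (k i).left x = z)
    (a : ∀ i, Quo f E (P i)) (ha : ∀ i, (a i).IsFam) :
    ∃ A : Quo f E Q, A.IsFam ∧ ∀ i, (A.pull (k i)).Rel (a i) := by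
  let j := fun i => PicF.XTmap f (k i)
  have sq : ∀ i, IsPullback (j i) (PicF.XTproj f (P i)) (PicF.XTproj f Q) (k i).left := fun i =>
    PicFam.isPullback_XTmap f (k i)
  haveI : ∀ i, IsOpenImmersion (j i) := fun i =>
    MorphismProperty.of_isPullback (P := @IsOpenImmersion) (sq i).flip inferInstance
  have hd' : ∀ a b x y, j a x = j b y → a = b := fun a b x y h => by
    refine hd a b (PicF.XTproj f (P a) x) (PicF.XTproj f (P b) y) ?_
    have h1 := congr(($((sq a).w)) x)
    have h2 := congr(($((sq b).w)) y)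
    exact h1.symm.trans ((congrArg (PicF.XTproj f Q) h).trans h2)
  have hcov' : ∀ z, ∃ i x, j i x = z := fun z => by
    obtain ⟨i, x, hx⟩ := hcov (PicF.XTproj f Q z)
    obtain ⟨w, hw, -⟩ := Scheme.Pullback.exists_preimage_pullback (f := PicF.XTproj f Q) (g := (k i).left) z x hx.symm
    exact ⟨i, (sq i).isoPullback.inv w, by
      rw [← Scheme.Hom.comp_apply, IsPullback.isoPullback_inv_fst]; exact hw⟩
  let F : (PicF.XT f Q).Modules := ∏ᶜ fun i => (Scheme.Modules.pushforward (j i)).obj (a i).F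
  let q : FGA.ET f E Q ⟶ F := Pi.lift fun i =>
    (Scheme.Modules.pullbackPushforwardAdjunction (j i)).homEquiv _ _ ((FGA.ETiso f E (k i)).hom ≫ (a i).q)
  have hi : ∀ i, ∃ e : (Scheme.Modules.pullback (j i)).obj F ≅ (a i).F,
      (Scheme.Modules.pullback (j i)).map q ≫ e.hom = (FGA.ETiso f E (k i)).hom ≫ (a i).q := fun i => by
    let adj := Scheme.Modules.pullbackPushforwardAdjunction (j i)
    haveI := isIso_restrict_pi j hd' (fun i => (a i).F) i
    haveI : IsIso ((Scheme.Modules.pullback (j i)).map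
        (Pi.π (fun i => (Scheme.Modules.pushforward (j i)).obj (a i).F) i)) := by
      rw [← NatIso.naturality_1 (Scheme.Modules.restrictFunctorIsoPullback (j i))]
      infer_instance
    haveI : IsIso adj.counit := inferInstance
    refine ⟨asIso ((Scheme.Modules.pullback (j i)).map
      (Pi.π (fun i => (Scheme.Modules.pushforward (j i)).obj (a i).F) i)) ≪≫ (asIso adj.counit).app _, ?_⟩
    simp only [Iso.trans_hom, asIso_hom, Iso.app_hom, ← Category.assoc, ← Functor.map_comp]
    rw [show q ≫ Pi.π _ i = _ from Pi.lift_π _ i]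
    exact (adj.homEquiv_counit _ _ _).symm.trans (Equiv.symm_apply_apply _ _)
  choose e he using hi
  haveI hq : Epi q := epi_of_pieces j hcov' q fun i => by
    rw [show (Scheme.Modules.pullback (j i)).map q = ((FGA.ETiso f E (k i)).hom ≫ (a i).q) ≫ (e i).inv by
      rw [← he i]; simp]
    infer_instance
  have hFq : Coh.IsQCoh F := QC.isQCoh_of_local fun z => by
    obtain ⟨i, x, rfl⟩ := hcov' z
    exact ⟨_, j i, inferInstance, ⟨x, rfl⟩, QC.isQCoh_of_iso
      ((e i).symm ≪≫ ((Scheme.Modules.restrictFunctorIsoPullback (j i)).app F).symm) (ha i).1.1⟩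
  refine ⟨⟨F, q, hq⟩, ⟨QC.isCoh_of_epi (isCoh_ET hE Q) hFq q, fun z => ?_⟩, fun i => ⟨e i, ?_⟩⟩
  · obtain ⟨i, x, rfl⟩ := hcov' z
    refine (S9350.result (j i) (PicF.XTproj f Q) F hFq x
      (RingHom.Flat.of_bijective (ConcreteCategory.bijective_of_isIso _))).2 ?_
    rw [(sq i).w]
    exact HilbFib.isFlatOverAt_comp_openImmersion _ _ _ _
      (FlatLimMod.isFlatOverAt_of_iso _ (e i).symm ((ha i).2 x))
  · dsimp only [Quo.pull]
    change ((FGA.ETiso f E (k i)).inv ≫ (Scheme.Modules.pullback _).map q) ≫ (e i).hom = (a i).q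
    rw [Category.assoc, he, Iso.inv_hom_id_assoc]

/-- Quotients agreeing on an open cover of the base are isomorphic. -/
theorem rel_of_cover {T : Over S} {ι : Type*} {P : ι → Over S} (o : ∀ i, P i ⟶ T)
    [∀ i, IsOpenImmersion (o i).left] (hcov : ∀ t, ∃ i x, (o i).left x = t) (a b : Quo f E T)
    (h : ∀ i, (a.pull (o i)).Rel (b.pull (o i))) : a.Rel b := by
  have key : ∀ (a b : Quo f E T), (∀ i, (a.pull (o i)).Rel (b.pull (o i))) → ∃ u : a.F ⟶ b.F, a.q ≫ u = b.q := by
    intro a b h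
    let j := fun i => PicF.XTmap f (o i)
    have sq : ∀ i, IsPullback (j i) (PicF.XTproj f (P i)) (PicF.XTproj f T) (o i).left := fun i =>
      PicFam.isPullback_XTmap f (o i)
    have h0 : ∀ i, (Scheme.Modules.pullback (j i)).map (kernel.ι a.q ≫ b.q) = 0 := fun i => by
      obtain ⟨e, he⟩ := h i
      have he' : (Scheme.Modules.pullback (j i)).map a.q ≫ e.hom = (Scheme.Modules.pullback (j i)).map b.q := by
        change ((FGA.ETiso f E (o i)).inv ≫ (Scheme.Modules.pullback (j i)).map a.q) ≫ e.hom =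
          (FGA.ETiso f E (o i)).inv ≫ (Scheme.Modules.pullback (j i)).map b.q at he
        rw [Category.assoc, cancel_epi] at he
        exact he
      rw [Functor.map_comp, ← he', ← Category.assoc, ← Functor.map_comp, kernel.condition, Functor.map_zero,
        zero_comp]
    have hz : kernel.ι a.q ≫ b.q = 0 := by
      refine Scheme.Modules.hom_ext _ _ fun U => ?_
      ext t
      refine QC.section_eq_of_locally fun z hz => ?_
      obtain ⟨i, x, hx⟩ := hcov (PicF.XTproj f T z)
      obtain ⟨w, hw, -⟩ := Scheme.Pullback.exists_preimage_pullback (f := PicF.XTproj f T) (g := (o i).left) z x hx.symm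
      haveI : IsOpenImmersion (j i) := MorphismProperty.of_isPullback (P := @IsOpenImmersion) (sq i).flip inferInstance
      have hy : j i ((sq i).isoPullback.inv w) = z := by
        rw [← Scheme.Hom.comp_apply, IsPullback.isoPullback_inv_fst]; exact hw
      have h1 : (Scheme.Modules.restrictFunctor (j i)).map (kernel.ι a.q ≫ b.q) = 0 := by
        rw [← cancel_mono ((Scheme.Modules.restrictFunctorIsoPullback (j i)).hom.app b.F), NatTrans.naturality,
          h0 i, comp_zero, zero_comp]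
      subst hy
      refine ⟨j i ''ᵁ (j i ⁻¹ᵁ U), (j i).image_preimage_le U, ⟨_, hz, rfl⟩, ?_⟩
      rw [app_res, app_res]
      exact congr(($h1).app (j i ⁻¹ᵁ U) _)
    exact ⟨Abelian.epiDesc a.q b.q hz, Abelian.comp_epiDesc _ _ _⟩
  obtain ⟨u, hu⟩ := key a b h
  obtain ⟨v, hv⟩ := key b a fun i => (h i).symm
  exact ⟨⟨u, v, by rw [← cancel_epi a.q, reassoc_of% hu, hv, Category.comp_id],
    by rw [← cancel_epi b.q, reassoc_of% hv, hu, Category.comp_id]⟩, hu⟩

/-- Restricting a family to an open of the base where the Hilbert function is a given polynomial. -/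
theorem Quo.IsFam.isOpen_hasPoly [IsProper f] [LocallyOfFinitePresentation f] {T : Over S}
    [IsLocallyNoetherian T.left] (hL : PicF.IsInvertible L) {a : Quo f E T} (h : a.IsFam) :
    IsLocallyConstant fun t : T.left => a.hf L t := by
  haveI : IsProper (PicF.XTproj f T) := MorphismProperty.pullback_snd _ _ ‹_›
  haveI : LocallyOfFinitePresentation (PicF.XTproj f T) := MorphismProperty.pullback_snd _ _ ‹_›
  haveI := isLocallyNoetherian_XT (f := f) T
  exact HilbFib.isLocallyConstant_hilb (f := PicF.XTproj f T)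
    (PicLoc.isInvertible_pullback (pullback.fst f T.hom) hL)
    (haveI := h.1.1; QC.isFP_of_isQCoh_of_isFT h.1.2) h.2

/-- The Quot scheme as the disjoint union of the representing pieces. -/
theorem exists_quot_union [IsProper f] [IsLocallyNoetherian S] (hE : Coh.IsCoh E) (hL : PicF.IsInvertible L)
    (P : Over S → Prop) (hrep : ∀ Φ : Polynomial ℚ, ∃ (Q : Over S) (aQ : Quo f E Q), Rep L Φ Q aQ ∧ P Q) :
    ∃ (Q : Over S) (K : FGA.QuotSet f E Q), FGA.QuotRepresentedBy f E Q K ∧
      ∃ (ι : Type u) (W : ι → Scheme.{u}) (e : (∐ W) ≅ Q.left), ∀ i, P (Over.mk (Limits.Sigma.ι W i ≫ e.hom ≫ Q.hom)) := by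
  classical
  haveI : LocallyOfFinitePresentation f := inferInstance
  choose Qp aq hq hP using fun Φ : ULift.{u} (Polynomial ℚ) => hrep Φ.down
  let W := fun Φ => (Qp Φ).left
  let Q : Over S := Over.mk (Limits.Sigma.desc fun Φ => (Qp Φ).hom)
  let k : ∀ Φ, Qp Φ ⟶ Q := fun Φ => Over.homMk (Limits.Sigma.ι W Φ) (colimit.ι_desc _ _)
  haveI : ∀ Φ, IsOpenImmersion (k Φ).left := fun Φ => inferInstanceAs (IsOpenImmersion (Limits.Sigma.ι W Φ))
  have hd : ∀ a b x y, (k a).left x = (k b).left y → a = b := fun a b x y h =>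
    congrArg Sigma.fst ((sigmaMk W).injective (a₁ := ⟨a, x⟩) (a₂ := ⟨b, y⟩)
      ((sigmaMk_mk W a x).trans (h.trans (sigmaMk_mk W b y).symm)))
  have hcov : ∀ z, ∃ i x, (k i).left x = z := fun z => by
    obtain ⟨⟨i, x⟩, hx⟩ := (sigmaMk W).surjective z
    exact ⟨i, x, (sigmaMk_mk W i x).symm.trans hx⟩
  haveI : IsLocallyNoetherian Q.left := by
    haveI : ∀ Φ, IsLocallyNoetherian (W Φ) := fun Φ => (hq Φ).noeth
    refine (isLocallyNoetherian_iff_openCover (sigmaOpenCover W)).2 fun j => ?_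
    change IsLocallyNoetherian (W j)
    infer_instance
  obtain ⟨A, hA, hAk⟩ := exists_glue_quo hE k hd hcov aq fun Φ => (hq Φ).fam
  have hpolyA : ∀ Φ x (n : ℕ), (A.hf L ((k Φ).left x) n : ℚ) = Φ.down.eval (n : ℚ) := fun Φ x n => by
    rw [← Quo.hf_pull hL A hA.1.1, Quo.hf_congr (hAk Φ)]
    exact (hq Φ).poly x n
  refine ⟨Q, A.toSet hA, ⟨inferInstance, fun T _ K' => ?_⟩, _, W, Iso.refl _, fun Φ => ?_⟩
  swap
  · have hQ : (Qp Φ) = Over.mk (Qp Φ).hom := rfl
    have := hP Φ
    rw [hQ] at this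
    exact (show Limits.Sigma.ι W Φ ≫ (Iso.refl _).hom ≫ Q.hom = (Qp Φ).hom by
      rw [Iso.refl_hom, Category.id_comp]; exact colimit.ι_desc _ _) ▸ this
  let a := Quo.ofSub K'.1
  have ha : a.IsFam := isFam_ofSub K'
  haveI : IsProper (PicF.XTproj f T) := MorphismProperty.pullback_snd _ _ ‹_›
  haveI := isLocallyNoetherian_XT (f := f) T
  choose pol hpol using fun t : T.left =>
    exists_hilb_poly (PicF.XTproj f T) (PicLoc.isInvertible_pullback (pullback.fst f T.hom) hL) ha.1 t
  have hpol_eq : ∀ {t : T.left} {P : Polynomial ℚ}, (∀ j : ℕ, (a.hf L t j : ℚ) = P.eval (j : ℚ)) → pol t = P :=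
    fun {t P} h => Polynomial.eq_of_infinite_eval_eq _ _ (Set.infinite_of_injective_forall_mem
      (f := fun j : ℕ => (j : ℚ)) Nat.cast_injective fun j => by
        show (pol t).eval _ = P.eval _
        rw [← hpol t j]; exact h j)
  let Φt : T.left → ULift.{u} (Polynomial ℚ) := fun t => ⟨pol t⟩
  have hlc : IsLocallyConstant Φt := by
    rw [IsLocallyConstant.iff_exists_open]
    intro t
    obtain ⟨U, hU, htU, hconst⟩ := (IsLocallyConstant.iff_exists_open _).1 (ha.isOpen_hasPoly hL) t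
    exact ⟨U, hU, htU, fun s hs => congrArg ULift.up (hpol_eq fun j => by
      rw [show a.hf L s = a.hf L t from hconst s hs]; exact hpol t j)⟩
  let O : ULift.{u} (Polynomial ℚ) → T.left.Opens := fun Φ => ⟨Φt ⁻¹' {Φ}, hlc _⟩
  let TO : ULift.{u} (Polynomial ℚ) → Over S := fun Φ => Over.mk ((O Φ).ι ≫ T.hom)
  let o : ∀ Φ, TO Φ ⟶ T := fun Φ => Over.homMk (O Φ).ι rfl
  haveI : ∀ Φ, IsLocallyNoetherian (TO Φ).left := fun Φ => inferInstanceAs (IsLocallyNoetherian (O Φ).toScheme)
  have hpolO : ∀ Φ, (a.pull (o Φ)).HasPoly L Φ.down := fun Φ t n => by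
    rw [Quo.hf_pull hL a ha.1.1]
    rw [show Φ.down = pol ((o Φ).left t) from (congrArg ULift.down (show Φt ((o Φ).left t) = Φ from t.2)).symm]
    exact hpol _ n
  haveI : ∀ Φ, IsOpenImmersion (o Φ).left := fun Φ => inferInstanceAs (IsOpenImmersion (O Φ).ι)
  choose g hg huniq using fun Φ => (hq Φ).univ (TO Φ) (a.pull (o Φ)) (ha.pull (o Φ)) (hpolO Φ)
  have hgA : ∀ Φ, (A.pull (g Φ ≫ k Φ)).Rel (a.pull (o Φ)) := fun Φ =>
    (Quo.pull_pull A (g Φ) (k Φ)).symm.trans (((hAk Φ).pull (g Φ)).trans (hg Φ))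
  have hOcov : TopologicalSpace.IsOpenCover O := TopologicalSpace.IsOpenCover.mk
    (eq_top_iff.2 fun t _ => Opens.mem_iSup.2 ⟨Φt t, rfl⟩)
  let C := T.left.openCoverOfIsOpenCover O hOcov
  let G : T.left ⟶ Q.left := C.glueMorphisms (fun Φ => (g Φ ≫ k Φ).left) (fun Φ Ψ => by
    by_cases h : Φ = Ψ
    · subst h
      have e : pullback.fst (C.f Φ) (C.f Φ) = pullback.snd (C.f Φ) (C.f Φ) := by
        rw [← cancel_mono (C.f Φ)]; exact pullback.condition
      rw [e]
    · haveI : IsEmpty (pullback (C.f Φ) (C.f Ψ) : Scheme) := ⟨fun z => h (by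
        have hz := congr(($(pullback.condition (f := C.f Φ) (g := C.f Ψ))) z)
        exact ((show Φt (C.f Φ ((pullback.fst (C.f Φ) (C.f Ψ)) z)) = Φ from
          ((pullback.fst (C.f Φ) (C.f Ψ)) z).2).symm.trans (congrArg Φt hz)).trans
            (show Φt (C.f Ψ ((pullback.snd (C.f Φ) (C.f Ψ)) z)) = Ψ from ((pullback.snd (C.f Φ) (C.f Ψ)) z).2))⟩
      exact (isInitialOfIsEmpty (X := pullback (C.f Φ) (C.f Ψ))).hom_ext _ _)
  have hG : ∀ Φ, (O Φ).ι ≫ G = (g Φ ≫ k Φ).left := fun Φ => C.ι_glueMorphisms _ _ Φ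
  have hGS : G ≫ Q.hom = T.hom := C.hom_ext _ _ fun Φ => by
    rw [← Category.assoc]
    exact (congrArg (· ≫ Q.hom) (hG Φ)).trans (Over.w (g Φ ≫ k Φ))
  let G' : T ⟶ Q := Over.homMk G hGS
  have hoG : ∀ Φ, o Φ ≫ G' = g Φ ≫ k Φ := fun Φ => Over.OverMorphism.ext (hG Φ)
  refine ⟨G', (Quo.quotPull_eq_iff A G' K'.1).2 ?_, fun G₂ hG₂ => ?_⟩
  · exact rel_of_cover o (fun t => ⟨Φt t, ⟨t, rfl⟩, rfl⟩) _ _ fun Φ =>
      ((Quo.pull_pull A (o Φ) G').trans (by rw [hoG]; exact hgA Φ))
  · replace hG₂ := (Quo.quotPull_eq_iff A G₂ K'.1).1 hG₂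
    refine Over.OverMorphism.ext (C.hom_ext _ _ fun Φ => ?_)
    have hrange : Set.range ((o Φ ≫ G₂).left) ⊆ Set.range (k Φ).left := by
      rintro _ ⟨t, rfl⟩
      obtain ⟨Ψ, x, hx⟩ := hcov ((o Φ ≫ G₂).left t)
      suffices Ψ = Φ by subst this; exact ⟨x, hx⟩
      have h1 : pol ((o Φ).left t) = Ψ.down := hpol_eq fun j => by
        rw [← Quo.hf_congr hG₂, Quo.hf_pull hL A hA.1.1]
        refine (show _ = (A.hf L ((k Ψ).left x) j : ℚ) from ?_).trans (hpolyA Ψ x j)
        rw [hx]
        rfl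
      exact ULift.ext _ _ (h1.symm.trans (congrArg ULift.down (show Φt ((o Φ).left t) = Φ from t.2)))
    let h : TO Φ ⟶ Qp Φ := Over.homMk (IsOpenImmersion.lift (k Φ).left _ hrange)
      (by rw [← Over.w (k Φ), IsOpenImmersion.lift_fac_assoc]; exact Over.w (o Φ ≫ G₂))
    have hh : h ≫ k Φ = o Φ ≫ G₂ := Over.OverMorphism.ext (IsOpenImmersion.lift_fac _ _ hrange)
    have heq : h = g Φ := huniq Φ h (by
      refine (((hAk Φ).pull h).symm.trans ((Quo.pull_pull A h (k Φ)).trans ?_))
      rw [hh]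
      exact (Quo.pull_pull A (o Φ) G₂).symm.trans (hG₂.pull (o Φ)))
    change (o Φ).left ≫ G₂.left = (O Φ).ι ≫ G
    rw [hG, ← heq, hh]
    rfl

end Groth.Agent.QuotProj

end
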