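import Groth.Agent.QuotProj.FreeModel
import Groth.Agent.QuotProj.Union

/-!
Quot schemes of quotients of twisted free modules are disjoint unions of projective schemes.
-/

set_option autoImplicit false
set_option backward.isDefEq.respectTransparency false
set_option backward.isDefEq.respectTransparency.types false
set_option linter.style.haveILetI false

universe u

open CategoryTheory CategoryTheory.Limits AlgebraicGeometry

noncomputable section

namespace Groth.Agent.QuotProj

theorem exists_quot_projective {X S : Scheme.{u}} [IsNoetherian S] {n : ℕ} {f : X ⟶ S}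
    (i : X ⟶ CohB1.ProjSpaceOver n S) [IsClosedImmersion i] (hf : i ≫ CohB1.ProjSpaceOver.toBase n S = f)
    {E : X.Modules} (hE : Coh.IsCoh E) (p : ℕ) (ν : ℤ)
    (q : (∐ fun _ : Fin p => (Scheme.Modules.pullback i).obj (Twist.twistOver n S ν)) ⟶ E) [Epi q] :
    ∃ (Q : Over S) (K : FGA.QuotSet f E Q), FGA.QuotRepresentedBy f E Q K ∧
      ∃ (ι : Type u) (P : ι → Scheme.{u}) (e : (∐ P) ≅ Q.left) (m : ι → ℕ)
        (c : ∀ a, P a ⟶ CohB1.ProjSpaceOver (m a) S),
        ∀ a, IsClosedImmersion (c a) ∧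
          c a ≫ CohB1.ProjSpaceOver.toBase (m a) S = Limits.Sigma.ι P a ≫ e.hom ≫ Q.hom := by
  subst hf
  haveI : IsProper (CohB1.ProjSpaceOver.toBase n S) := HQProj.isProper_toBase n S
  haveI : IsProper (i ≫ CohB1.ProjSpaceOver.toBase n S) := inferInstance
  obtain ⟨Q, K, hK, ι, W, e, hW⟩ := exists_quot_union (f := i ≫ CohB1.ProjSpaceOver.toBase n S)
    (L := (Scheme.Modules.pullback i).obj (Twist.twistOver n S 1)) hE
    (PicLoc.isInvertible_pullback i (PicFam.isInvertible_twistOver n S 1))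
    (fun Q => ∃ (R : ℕ) (c : Q.left ⟶ CohB1.ProjSpaceOver R S),
      IsClosedImmersion c ∧ c ≫ CohB1.ProjSpaceOver.toBase R S = Q.hom)
    (fun Φ => by
      obtain ⟨Q, aQ, h, hc⟩ := exists_quot_free i hE p ν q Φ
      exact ⟨Q, aQ, h, hc⟩)
  choose R c hc hcb using hW
  exact ⟨Q, K, hK, ι, W, e, R, c, fun a => ⟨hc a, hcb a⟩⟩

end Groth.Agent.QuotProj

end
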