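import Groth.Agent.ExtFund.CanonIndep
import Groth.Agent.SGA6Ext.Basis
import Groth.Agent.LocFree.SemiLocal
import Groth.Agent.QC.IdealMod

/-!
Epimorphisms of locally free modules of the same rank.
-/

set_option autoImplicit false
set_option linter.style.haveILetI false

universe u

open CategoryTheory AlgebraicGeometry Opposite

namespace Groth.Agent.QuotProj

/-- An epimorphism of locally free modules of the same rank is an isomorphism. -/
theorem isIso_of_epi_rank {X : Scheme.{u}} {n : ℕ} {M N : X.Modules} (φ : M ⟶ N) [Epi φ]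
    (hM : FlatMod.IsFinLocFreeOfRank n M) (hN : FlatMod.IsFinLocFreeOfRank n N) : IsIso φ := by
  have hMq := LocFree.isQCoh_of_isFinLocFree (fun x => (hM x).imp fun U h => ⟨n, h⟩)
  have hNq := LocFree.isQCoh_of_isFinLocFree (fun x => (hN x).imp fun U h => ⟨n, h⟩)
  let G : X.Opens → Prop := fun V => IsAffineOpen V ∧
    Nonempty (Module.Basis (ULift.{u} (Fin n)) Γ(X, V) Γ(M, V)) ∧ Nonempty (Module.Basis (ULift.{u} (Fin n)) Γ(X, V) Γ(N, V))
  have hG : SGA6Ext.IsBase G := fun O x hx => by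
    obtain ⟨U, hxU, ⟨e⟩⟩ := hM x
    obtain ⟨W, hxW, ⟨e'⟩⟩ := hN x
    obtain ⟨D, hD, hxD, hle⟩ := exists_isAffineOpen_mem_and_subset (x := x) (U := O ⊓ (U ⊓ W)) ⟨hx, hxU, hxW⟩
    exact ⟨D, ⟨hD, LocFree.exists_basis_sections_of_le e hD fun z hz => (hle hz).2.1,
      LocFree.exists_basis_sections_of_le e' hD fun z hz => (hle hz).2.2⟩, hxD, fun z hz => (hle hz).1⟩
  haveI : Mono φ := SGA6Ext.mono_of_base hG φ fun V hV => by
    obtain ⟨hA, ⟨b⟩, ⟨b'⟩⟩ := hV
    haveI : Module.Finite Γ(X, V) Γ(M, V) := Module.Finite.of_basis b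
    have hsurj : Function.Surjective ((b'.equiv b (Equiv.refl _)).toLinearMap ∘ₗ QC.appₗ φ V) :=
      (b'.equiv b (Equiv.refl _)).surjective.comp (QC.app_surjective_of_epi hA hMq hNq φ)
    exact fun x y h => OrzechProperty.injective_of_surjective_endomorphism _ hsurj (congrArg (b'.equiv b (Equiv.refl _)) h)
  exact isIso_of_mono_of_epi φ

end Groth.Agent.QuotProj
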