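import Groth.Prelude.Def_FGA
import Groth.Agent.GrassQ.SubObj
import Groth.Agent.HilbFib.Square
import Groth.Agent.HilbFib.PullFlat
import Groth.Agent.PicFam.Separated

/-!
Families of quotients of a module on the base changes of a morphism, and their Hilbert functions.
-/

set_option autoImplicit false
set_option backward.isDefEq.respectTransparency false
set_option backward.isDefEq.respectTransparency.types false
set_option linter.style.haveILetI false

universe u

open CategoryTheory CategoryTheory.Limits AlgebraicGeometry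

noncomputable section

namespace Groth.Agent.QuotProj

variable {X S : Scheme.{u}} (f : X ⟶ S) (E : X.Modules)

/-- A quotient of the base change of `E`. -/
structure Quo (T : Over S) where
  F : (PicF.XT f T).Modules
  q : FGA.ET f E T ⟶ F
  epi : Epi q

attribute [instance] Quo.epi

variable {f E} {T T' T'' : Over S}

/-- Isomorphic quotients. -/
def Quo.Rel (a b : Quo f E T) : Prop := ∃ i : a.F ≅ b.F, a.q ≫ i.hom = b.q

theorem Quo.Rel.refl (a : Quo f E T) : a.Rel a := ⟨Iso.refl _, Category.comp_id _⟩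

theorem Quo.Rel.symm {a b : Quo f E T} (h : a.Rel b) : b.Rel a := by
  obtain ⟨i, hi⟩ := h
  exact ⟨i.symm, by simp [← hi]⟩

theorem Quo.Rel.trans {a b c : Quo f E T} (h : a.Rel b) (h' : b.Rel c) : a.Rel c := by
  obtain ⟨i, hi⟩ := h
  obtain ⟨j, hj⟩ := h'
  exact ⟨i ≪≫ j, by simp [reassoc_of% hi, hj]⟩

/-- A coherent flat quotient. -/
def Quo.IsFam (a : Quo f E T) : Prop := Coh.IsCoh a.F ∧ FlatMod.IsFlatOver (PicF.XTproj f T) a.F

theorem isCoh_of_iso {Y : Scheme.{u}} {M N : Y.Modules} (i : M ≅ N) (h : Coh.IsCoh M) : Coh.IsCoh N :=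
  ⟨QC.isQCoh_of_iso i h.1, QC.isFT_of_epi i.hom h.2⟩

theorem isFlatOver_of_iso {Y Z : Scheme.{u}} {p : Y ⟶ Z} {M N : Y.Modules} (i : M ≅ N)
    (h : FlatMod.IsFlatOver p M) : FlatMod.IsFlatOver p N :=
  fun x => FlatLimMod.isFlatOverAt_of_iso _ i (h x)

theorem Quo.IsFam.of_rel {a b : Quo f E T} (h : a.IsFam) (r : a.Rel b) : b.IsFam := by
  obtain ⟨i, -⟩ := r
  exact ⟨isCoh_of_iso i h.1, isFlatOver_of_iso i h.2⟩

/-- The kernel of a quotient. -/
def Quo.sub (a : Quo f E T) : Subobject (FGA.ET f E T) := kernelSubobject a.q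

theorem cokernel_kernelSubobject {C : Type*} [Category C] [Abelian C] {A B : C} (v : A ⟶ B) [Epi v] :
    ∃ i : cokernel (kernelSubobject v).arrow ≅ B, cokernel.π (kernelSubobject v).arrow ≫ i.hom = v := by
  have h0 : (kernelSubobject v).arrow ≫ v = 0 := kernelSubobject_arrow_comp v
  have hS : (ShortComplex.mk (kernelSubobject v).arrow v h0).Exact :=
    ShortComplex.exact_of_iso (S₁ := ShortComplex.mk (kernel.ι v) v (kernel.condition v))
      (ShortComplex.isoMk (kernelSubobjectIso v).symm (Iso.refl _) (Iso.refl _) (by simp) (by simp))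
      (ShortComplex.exact_kernel v)
  exact ⟨(cokernelIsCokernel _).coconePointUniqueUpToIso hS.gIsCokernel,
    IsColimit.comp_coconePointUniqueUpToIso_hom (cokernelIsCokernel _) hS.gIsCokernel WalkingParallelPair.one⟩

theorem Quo.sub_eq_iff (a b : Quo f E T) : a.sub = b.sub ↔ a.Rel b := by
  constructor
  · intro h
    obtain ⟨i, hi⟩ := cokernel_kernelSubobject a.q
    obtain ⟨j, hj⟩ := cokernel_kernelSubobject b.q
    have key : ∀ {K K' : Subobject (FGA.ET f E T)}, K = K' →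
        ∃ k : cokernel K.arrow ≅ cokernel K'.arrow, cokernel.π K.arrow ≫ k.hom = cokernel.π K'.arrow := by
      rintro K _ rfl
      exact ⟨Iso.refl _, Category.comp_id _⟩
    obtain ⟨k, hk⟩ := key h
    refine ⟨i.symm ≪≫ k ≪≫ j, ?_⟩
    refine ((congrArg (· ≫ _) hi.symm).trans ?_)
    simp only [Iso.trans_hom, Iso.symm_hom, Category.assoc, Iso.hom_inv_id_assoc]
    exact (reassoc_of% hk) _ |>.trans hj
  · rintro ⟨i, hi⟩
    simp only [Quo.sub, ← hi]
    exact (kernelSubobject_comp_mono _ _).symm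

/-- The quotient of a submodule. -/
def Quo.ofSub (K : Subobject (FGA.ET f E T)) : Quo f E T := ⟨cokernel K.arrow, cokernel.π K.arrow, inferInstance⟩

theorem Quo.sub_ofSub (K : Subobject (FGA.ET f E T)) : (Quo.ofSub K).sub = K := by
  have hex : (ShortComplex.mk K.arrow (cokernel.π K.arrow) (cokernel.condition _)).Exact :=
    ShortComplex.exact_cokernel K.arrow
  exact ((ShortComplex.exact_iff_image_eq_kernel _).1 hex).symm.trans
    ((imageSubobject_mono K.arrow).trans (Subobject.mk_arrow K))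

theorem Quo.rel_ofSub_sub (a : Quo f E T) : (Quo.ofSub a.sub).Rel a := by
  rw [← Quo.sub_eq_iff, Quo.sub_ofSub]

/-- The element of the Quot functor of a coherent flat quotient. -/
def Quo.toSet (a : Quo f E T) (h : a.IsFam) : FGA.QuotSet f E T :=
  ⟨a.sub, h.of_rel a.rel_ofSub_sub.symm⟩

theorem isFam_ofSub (K : FGA.QuotSet f E T) : (Quo.ofSub K.1).IsFam := K.2

/-- Base change of a map out of an inverse image: `Grass.quotBC` as a definition, so that the kernel keeps it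
folded. -/
def bc {W Y Z : Scheme.{u}} {π : Y ⟶ Z} {h : W ⟶ Y} {g : W ⟶ Z} (hg : h ≫ π = g) {M : Z.Modules}
    {Q : Y.Modules} (q : (Scheme.Modules.pullback π).obj M ⟶ Q) :
    (Scheme.Modules.pullback g).obj M ⟶ (Scheme.Modules.pullback h).obj Q := Grass.quotBC hg q

theorem bc_eq {W Y Z : Scheme.{u}} {π : Y ⟶ Z} {h : W ⟶ Y} {g : W ⟶ Z} (hg : h ≫ π = g) {M : Z.Modules}
    {Q : Y.Modules} (q : (Scheme.Modules.pullback π).obj M ⟶ Q) : bc hg q = Grass.quotBC hg q := rfl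

theorem bc_comp {W Y Z : Scheme.{u}} {π : Y ⟶ Z} {h : W ⟶ Y} {g : W ⟶ Z} (hg : h ≫ π = g) {M : Z.Modules}
    {Q Q₂ : Y.Modules} (q : (Scheme.Modules.pullback π).obj M ⟶ Q) (t : Q ⟶ Q₂) :
    bc hg (q ≫ t) = bc hg q ≫ (Scheme.Modules.pullback h).map t := GrassBC.quotBC_comp hg q t

theorem epi_bc {W Y Z : Scheme.{u}} {π : Y ⟶ Z} {h : W ⟶ Y} {g : W ⟶ Z} (hg : h ≫ π = g) {M : Z.Modules}
    {Q : Y.Modules} (q : (Scheme.Modules.pullback π).obj M ⟶ Q) [Epi q] : Epi (bc hg q) := by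
  haveI := Grass.epi_pullback_map h q
  dsimp only [bc, Grass.quotBC]
  infer_instance

theorem imageSubobject_bc {W Y Z : Scheme.{u}} {π : Y ⟶ Z} {h : W ⟶ Y} {g : W ⟶ Z} (hg : h ≫ π = g) {M : Z.Modules}
    {Q : Y.Modules} (q : (Scheme.Modules.pullback π).obj M ⟶ Q) [Epi q] :
    imageSubobject ((Scheme.Modules.pullback h).map (kernelSubobject q).arrow ≫
      ((Scheme.Modules.pullbackComp h π).app M ≪≫ (Scheme.Modules.pullbackCongr hg).app M).hom) =
      kernelSubobject (bc hg q) := by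
  refine (GrassQ.imageSubobject_map_arrow h _ _ q rfl).trans ?_
  simp [bc, Grass.quotBC]

/-- Base change of a quotient. -/
def Quo.pull (a : Quo f E T) (g : T' ⟶ T) : Quo f E T' where
  F := (Scheme.Modules.pullback (PicF.XTmap f g)).obj a.F
  q := bc (FGA.XTmap_fst f g) a.q
  epi := epi_bc (FGA.XTmap_fst f g) a.q

theorem Quo.quotPull_sub (a : Quo f E T) (g : T' ⟶ T) : FGA.quotPull f E g a.sub = (a.pull g).sub := by
  dsimp only [FGA.quotPull, FGA.ETiso, Quo.sub, Quo.pull]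
  exact imageSubobject_bc _ _

theorem Quo.quotPull_eq_iff (a : Quo f E T) (g : T' ⟶ T) (K : Subobject (FGA.ET f E T')) :
    FGA.quotPull f E g a.sub = K ↔ (a.pull g).Rel (Quo.ofSub K) := by
  rw [← Quo.sub_eq_iff, Quo.sub_ofSub, Quo.quotPull_sub]

theorem Quo.Rel.pull {a b : Quo f E T} (h : a.Rel b) (g : T' ⟶ T) : (a.pull g).Rel (b.pull g) := by
  obtain ⟨i, hi⟩ := h
  dsimp only [Quo.Rel, Quo.pull]
  refine ⟨(Scheme.Modules.pullback _).mapIso i, ?_⟩
  rw [Functor.mapIso_hom, ← bc_comp, hi]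

theorem XTmap_comp (h : T'' ⟶ T') (g : T' ⟶ T) :
    PicF.XTmap f (h ≫ g) = PicF.XTmap f h ≫ PicF.XTmap f g := by
  apply pullback.hom_ext <;> simp [PicF.XTmap]

theorem XTmap_id : PicF.XTmap f (𝟙 T) = 𝟙 _ := by
  apply pullback.hom_ext <;> simp [PicF.XTmap]

theorem exists_iso_bc_comp {W Y Y' Z : Scheme.{u}} {π : Y ⟶ Z} {π' : Y' ⟶ Z} {g : W ⟶ Z} {M : Z.Modules}
    {Q : Y.Modules} {h : W ⟶ Y'} {p : Y' ⟶ Y} {k : W ⟶ Y} (hp : p ≫ π = π') (hh : h ≫ π' = g) (hk : h ≫ p = k)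
    (hkπ : k ≫ π = g) (q : (Scheme.Modules.pullback π).obj M ⟶ Q) :
    ∃ i : (Scheme.Modules.pullback h).obj ((Scheme.Modules.pullback p).obj Q) ≅ (Scheme.Modules.pullback k).obj Q,
      bc hh (bc hp q) ≫ i.hom = bc hkπ q :=
  ⟨(Scheme.Modules.pullbackComp h p).app Q ≪≫ (Scheme.Modules.pullbackCongr hk).app Q,
    GrassBC.quotBC_quotBC hp hh hk hkπ q⟩

theorem Quo.pull_pull (a : Quo f E T) (h : T'' ⟶ T') (g : T' ⟶ T) :
    ((a.pull g).pull h).Rel (a.pull (h ≫ g)) := by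
  dsimp only [Quo.Rel, Quo.pull]
  exact exists_iso_bc_comp (FGA.XTmap_fst f g) (FGA.XTmap_fst f h) (XTmap_comp h g).symm
    (FGA.XTmap_fst f (h ≫ g)) a.q

theorem exists_iso_bc_id {Y Z : Scheme.{u}} {π : Y ⟶ Z} {M : Z.Modules} {Q : Y.Modules} {h : Y ⟶ Y}
    (e : h = 𝟙 Y) (hg : h ≫ π = π) (q : (Scheme.Modules.pullback π).obj M ⟶ Q) :
    ∃ i : (Scheme.Modules.pullback h).obj Q ≅ Q, bc hg q ≫ i.hom = q := by
  subst e
  exact ⟨(Scheme.Modules.pullbackId Y).app Q, GrassBC.quotBC_id q⟩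

theorem Quo.pull_id (a : Quo f E T) : (a.pull (𝟙 T)).Rel a := by
  dsimp only [Quo.Rel, Quo.pull]
  exact exists_iso_bc_id XTmap_id (FGA.XTmap_fst f (𝟙 T)) a.q

theorem isLocallyNoetherian_XT [LocallyOfFiniteType f] (T : Over S) [IsLocallyNoetherian T.left] :
    IsLocallyNoetherian (PicF.XT f T) := by
  haveI : LocallyOfFiniteType (PicF.XTproj f T) := MorphismProperty.pullback_snd _ _ inferInstance
  exact LocallyOfFiniteType.isLocallyNoetherian (PicF.XTproj f T)

theorem isCoh_ET [LocallyOfFiniteType f] (hE : Coh.IsCoh E) (T : Over S) [IsLocallyNoetherian T.left] :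
    Coh.IsCoh (FGA.ET f E T) := by
  haveI := isLocallyNoetherian_XT (f := f) T
  exact QC.isCoh_pullback _ hE

theorem Quo.isCoh_pull [LocallyOfFiniteType f] [IsLocallyNoetherian T'.left] (a : Quo f E T)
    (h : Coh.IsCoh a.F) (g : T' ⟶ T) : Coh.IsCoh (a.pull g).F := by
  haveI := isLocallyNoetherian_XT (f := f) T'
  exact QC.isCoh_pullback _ h

theorem Quo.IsFam.pull [LocallyOfFiniteType f] [IsLocallyNoetherian T'.left] {a : Quo f E T}
    (h : a.IsFam) (g : T' ⟶ T) : (a.pull g).IsFam :=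
  ⟨a.isCoh_pull h.1 g, fun x => FlatModBC.isFlatOverAt_baseChange (PicFam.isPullback_XTmap f g) _ x (h.2 _)⟩

/-- The Hilbert function of a quotient with respect to a module. -/
def Quo.hf (L : X.Modules) (a : Quo f E T) (t : T.left) (n : ℕ) : ℤ :=
  HilbFib.hilb (PicF.XTproj f T) (FGA.ET f L T) a.F t n

/-- All fibres have the given Hilbert polynomial. -/
def Quo.HasPoly (L : X.Modules) (Φ : Polynomial ℚ) (a : Quo f E T) : Prop :=
  ∀ (t : T.left) (n : ℕ), (a.hf L t n : ℚ) = Φ.eval (n : ℚ)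

variable {L : X.Modules}

theorem Quo.hf_pull [IsProper f] (hL : PicF.IsInvertible L) (a : Quo f E T) (hq : Coh.IsQCoh a.F)
    (g : T' ⟶ T) (t : T'.left) (n : ℕ) : (a.pull g).hf L t n = a.hf L (g.left t) n := by
  haveI : IsProper (PicF.XTproj f T) := MorphismProperty.pullback_snd _ _ inferInstance
  exact HilbFib.hilb_of_isPullback (PicFam.isPullback_XTmap f g)
    (PicLoc.isInvertible_pullback _ hL) hq (FGA.ETiso f L g) (Iso.refl _) t n

theorem Quo.hf_congr {a b : Quo f E T} (h : a.Rel b) (t : T.left) (n : ℕ) : a.hf L t n = b.hf L t n := by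
  obtain ⟨i, -⟩ := h
  refine finsum_congr fun k => ?_
  congr 2
  exact HilbFib.betti_congr _ (PicGrp.tensorModIso i (Iso.refl _)) t k

theorem Quo.HasPoly.of_rel {Φ : Polynomial ℚ} {a b : Quo f E T} (h : a.HasPoly L Φ) (r : a.Rel b) :
    b.HasPoly L Φ := fun t n => by rw [← Quo.hf_congr r]; exact h t n

theorem Quo.HasPoly.pull [IsProper f] (hL : PicF.IsInvertible L) {Φ : Polynomial ℚ} {a : Quo f E T}
    (h : a.HasPoly L Φ) (hq : Coh.IsQCoh a.F) (g : T' ⟶ T) : (a.pull g).HasPoly L Φ := fun t n => by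
  rw [Quo.hf_pull hL a hq g]; exact h _ n

end Groth.Agent.QuotProj

end
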