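import Groth.Agent.QuotProj.Field
import Groth.Agent.HilbFib.Square
import Groth.Agent.PnReg.Push
import Groth.Agent.PnReg.FPFlat
import Groth.Agent.PnReg.VanishFlat
import Groth.Agent.W7Cech.NNStatements
import Groth.Agent.W7Hull.InvNear
import Groth.Agent.CohBound.FlatQuot
import Groth.Agent.K0Hom.PbF
import Groth.Agent.PBundle.Local
import Groth.Agent.TMul.SecGen

/-!
Quotients of twisted free modules with given Hilbert polynomial, after a uniform twist.
-/

set_option autoImplicit false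
set_option linter.style.haveILetI false
set_option backward.isDefEq.respectTransparency false
set_option backward.isDefEq.respectTransparency.types false
set_option maxHeartbeats 1600000

universe u

open CategoryTheory CategoryTheory.Limits AlgebraicGeometry TopologicalSpace Opposite

noncomputable section

namespace Groth.Agent.QuotProj

/-- Euler characteristics along an isomorphism over the field. -/
theorem euler_pullback_iso {k : Type u} [Field k] {Z W : Scheme.{u}} [Z.Over (Spec (CommRingCat.of k))]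
    [W.Over (Spec (CommRingCat.of k))] [CompactSpace W] [W.IsSeparated] (e : Z ≅ W)
    (he : e.hom ≫ (W ↘ Spec (CommRingCat.of k)) = Z ↘ Spec (CommRingCat.of k)) (M : W.Modules)
    (hM : Coh.IsQCoh M) :
    Curv2.euler k Z ((Scheme.Modules.pullback e.hom).obj M) = Curv2.euler k W M := by
  obtain ⟨ι, hι, V, hV, hcov⟩ := W7Cech.exists_cover W
  haveI := hι
  have hid : Spec.map (CommRingCat.ofHom (algebraMap k k)) = 𝟙 (Spec (CommRingCat.of k)) := by
    rw [show CommRingCat.ofHom (algebraMap k k) = 𝟙 (CommRingCat.of k) from rfl, Spec.map_id]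
  haveI : IsIso (Spec.map (CommRingCat.ofHom (algebraMap k k))) := by rw [hid]; infer_instance
  have sq : IsPullback e.hom (Z ↘ Spec (CommRingCat.of k)) (W ↘ Spec (CommRingCat.of k))
      (Spec.map (CommRingCat.ofHom (algebraMap k k))) :=
    IsPullback.of_horiz_isIso ⟨by rw [hid, Category.comp_id]; exact he⟩
  refine finsum_congr fun i => ?_
  obtain ⟨l⟩ := W7Cech.nonempty_hh_flat_bc k k V hV hcov e.hom sq M hM i
  congr 2
  rw [l.finrank_eq, Module.finrank_baseChange]

variable {n : ℕ} {T : Scheme.{u}}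

theorem isCoh_sigma_twist [IsLocallyNoetherian T] (N : ℕ) (c : ℤ) :
    FlatMod.IsFinLocFree (∐ fun _ : Fin N => Twist.twistOver n T c) ∧
      Coh.IsCoh (∐ fun _ : Fin N => Twist.twistOver n T c) := by
  have h : FlatMod.IsFinLocFree (∐ fun _ : Fin N => Twist.twistOver n T c) :=
    PnReg.isFinLocFree_sigma _ fun _ => ResDesc.isFinLocFree_of_isInvertible (PicFam.isInvertible_twistOver n T c)
  have hq := PnReg.isQCoh_of_finLocFree h
  exact ⟨h, hq, PnReg.isFT_of_isFP hq (LocFree.isFP_of_isFinLocFree h)⟩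

/-- A fibre of a quotient of a twisted free module, as a quotient on the projective space over the residue field. -/
theorem exists_fibre {N : ℕ} (c : ℤ) {G : (CohB1.ProjSpaceOver n T).Modules} (hG : Coh.IsCoh G)
    (hfl : FlatMod.IsFlatOver (CohB1.ProjSpaceOver.toBase n T) G)
    (q : (∐ fun _ : Fin N => Twist.twistOver n T c) ⟶ G) [Epi q] [IsLocallyNoetherian T] (t : T) :
    ∃ (ε : CohB1.ProjSpace n (T.residueField t) ≅ (CohB1.ProjSpaceOver.toBase n T).fiber t)
      (A F : (CohB1.ProjSpace n (T.residueField t)).Modules) (φ : A ⟶ F),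
      Epi φ ∧ Coh.IsCoh F ∧
      Nonempty (A ≅ MumBound.tw (FlatMod.freeMod (CohB1.ProjSpace n (T.residueField t)) N) c) ∧
      (∀ d : ℤ, Nonempty ((Scheme.Modules.pullback ε.hom).obj
          (CohIII.fiberMod (CohB1.ProjSpaceOver.toBase n T) (Twist.twistOver n T d) t) ≅
          Twist.twistProjSpace n (T.residueField t) d)) ∧
      ε.hom ≫ (CohB1.ProjSpaceOver.toBase n T).fiberToSpecResidueField t =
        CohB1.ProjSpace.toSpec n (T.residueField t) ∧
      Nonempty ((Scheme.Modules.pullback ε.hom).obj (CohIII.fiberMod (CohB1.ProjSpaceOver.toBase n T) G t) ≅ F) ∧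
      Nonempty ((Scheme.Modules.pullback ε.hom).obj
        (CohIII.fiberMod (CohB1.ProjSpaceOver.toBase n T) (kernel q) t) ≅ kernel φ) := by
  classical
  let π := CohB1.ProjSpaceOver.toBase n T
  obtain ⟨ε, hε, htw⟩ := PicFam.exists_fiber_iso n T t
  haveI : IsProper π := HQProj.isProper_toBase n T
  haveI : IsLocallyNoetherian (CohB1.ProjSpaceOver n T) := LocallyOfFiniteType.isLocallyNoetherian π
  let ι := π.fiberι t
  let PS := CohB1.ProjSpace n (T.residueField t)
  haveI := (Scheme.Modules.pullbackPushforwardAdjunction ι).leftAdjoint_preservesColimits.{0, 0}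
  haveI := (Scheme.Modules.pullbackPushforwardAdjunction ε.hom).leftAdjoint_preservesColimits.{0, 0}
  haveI : (Scheme.Modules.pullback ι).Additive := Functor.additive_of_preserves_binary_products _
  haveI : (Scheme.Modules.pullback ε.hom).Additive := Functor.additive_of_preserves_binary_products _
  let S : ShortComplex (CohB1.ProjSpaceOver n T).Modules :=
    ShortComplex.mk (kernel.ι q) q (kernel.condition q)
  have hS : S.ShortExact :=
    { exact := ShortComplex.exact_of_f_is_kernel _ (kernelIsKernel q), epi_g := inferInstanceAs (Epi q) }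
  have hS1 : (S.map (Scheme.Modules.pullback ι)).ShortExact :=
    CohBound.shortExact_pullback_fst π (T.fromSpecResidueField t) hS fun x _ => hfl x
  have hS2 := K0Hom.shortExact_pullback_flat ε.hom hS1
  let φ := (Scheme.Modules.pullback ε.hom).map ((Scheme.Modules.pullback ι).map q)
  obtain ⟨u⟩ := nonempty_sigma_twist (T.residueField t) n N c
  let a : (Scheme.Modules.pullback ε.hom).obj ((Scheme.Modules.pullback ι).obj
      (∐ fun _ : Fin N => Twist.twistOver n T c)) ≅ ∐ fun _ : Fin N => PnReg.Ot (T.residueField t) n c :=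
    (Scheme.Modules.pullback ε.hom).mapIso (PreservesCoproduct.iso (Scheme.Modules.pullback ι) _) ≪≫
      PreservesCoproduct.iso (Scheme.Modules.pullback ε.hom) _ ≪≫ Sigma.mapIso fun _ => (htw c).some
  haveI := hS2.mono_f
  exact ⟨ε, _, _, φ, hS2.epi_g, QC.isCoh_pullback _ (QC.isCoh_pullback _ hG), ⟨a ≪≫ u⟩, htw, hε, ⟨Iso.refl _⟩,
    ⟨IsLimit.conePointUniqueUpToIso hS2.fIsKernel (limit.isLimit _)⟩⟩

theorem subsingleton_of_iso_space {Z W : Scheme.{u}} (e : Z ≅ W) (M : W.Modules) (hM : Coh.IsQCoh M) (i : ℕ)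
    (h : Subsingleton (Coh.HH Z ((Scheme.Modules.pullback e.hom).obj M) i)) : Subsingleton (Coh.HH W M i) :=
  CohQC.hh_subsingleton_of_iso ((Scheme.Modules.pullbackComp e.inv e.hom).app _ ≪≫
    (Scheme.Modules.pullbackCongr e.inv_hom_id).app _ ≪≫ (Scheme.Modules.pullbackId _).app _) i
    (TwistOverVan.subsingleton_hh_pullback_iso e.inv _ (QC.isQCoh_pullback _ hM) i h)

/-- The uniform bound. -/
theorem exists_model_bound (n N : ℕ) (P₀ : Polynomial ℚ) :
    ∃ m₀ : ℕ, ∀ (T : Scheme.{u}) [IsNoetherian T] [IsAffine T] (c : ℤ), (m₀ : ℤ) ≤ c →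
      ∀ (G : (CohB1.ProjSpaceOver n T).Modules), Coh.IsCoh G →
        FlatMod.IsFlatOver (CohB1.ProjSpaceOver.toBase n T) G →
        ∀ (q : (∐ fun _ : Fin N => Twist.twistOver n T c) ⟶ G) [Epi q],
        (∀ (t : T) (k : ℕ), (HilbFib.hilb (CohB1.ProjSpaceOver.toBase n T) (Twist.twistOver n T 1) G t k : ℚ) =
          P₀.eval ((k : ℚ) + (c : ℚ))) →
        FlatMod.IsFinLocFreeOfRank ⌊P₀.eval (c : ℚ)⌋.toNat
            ((Scheme.Modules.pushforward (CohB1.ProjSpaceOver.toBase n T)).obj G) ∧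
          Function.Surjective (q.app ⊤) ∧ TMul.SecGen (kernel q) ⊤ := by
  obtain ⟨m₀, hm₀⟩ := exists_fibre_bound.{u} n N P₀
  refine ⟨m₀, fun T _ _ c hc G hG hfl q _ hP => ?_⟩
  let π := CohB1.ProjSpaceOver.toBase n T
  haveI : IsProper π := HQProj.isProper_toBase n T
  haveI := (PicFam.flat_lfp_toBase n T).2
  haveI : IsLocallyNoetherian (CohB1.ProjSpaceOver n T) := LocallyOfFiniteType.isLocallyNoetherian π
  obtain ⟨hAf, hA⟩ := isCoh_sigma_twist (n := n) (T := T) N c
  let S : ShortComplex (CohB1.ProjSpaceOver n T).Modules :=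
    ShortComplex.mk (kernel.ι q) q (kernel.condition q)
  have hS : S.ShortExact :=
    { exact := ShortComplex.exact_of_f_is_kernel _ (kernelIsKernel q), epi_g := inferInstanceAs (Epi q) }
  have hK : Coh.IsCoh (kernel q) := QC.isCoh_kernel hA hG.1 q
  have hKfl : FlatMod.IsFlatOver π (kernel q) :=
    PnReg.isFlatOver_X1 (T := S) π hS (PnReg.isFlatOver_pr hAf) hfl
  -- the fibres
  have hfib : ∀ t : T, (∀ i : ℕ, 1 ≤ i → Subsingleton (CohIII.fiberH π G t i) ∧
      Subsingleton (CohIII.fiberH π (KRR.twF n T (-(i : ℤ)) (kernel q)) t i)) ∧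
      (CohIII.fiberRank π G 0 t : ℚ) = P₀.eval (c : ℚ) := by
    intro t
    obtain ⟨ε, A, F, φ, hφ, hFc, hA', htw, hε, ⟨eG⟩, ⟨eK⟩⟩ := exists_fibre c hG hfl q t
    letI : (π.fiber t).Over (Spec (CommRingCat.of (T.residueField t))) := ⟨π.fiberToSpecResidueField t⟩
    haveI : IsProper (π.fiberToSpecResidueField t) := inferInstanceAs (IsProper (pullback.snd π _))
    haveI : CompactSpace ↥(π.fiber t) :=
      QuasiCompact.compactSpace_of_compactSpace (π.fiberToSpecResidueField t)
    haveI : (π.fiber t).IsSeparated := by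
      constructor
      rw [← terminal.comp_from (π.fiberToSpecResidueField t)]
      infer_instance
    have heuler : ∀ k : ℕ, (Curv2.euler (T.residueField t) _ (MumBound.tw F (k : ℤ)) : ℚ) =
        P₀.eval ((k : ℚ) + (c : ℚ)) := fun k => by
      rw [← hP t k, HilbFib.hilb_eq_euler, ← euler_pullback_iso (k := T.residueField t) ε hε _
        (QC.isQCoh_pullback _ (TMul.isQCoh_tensor
          (TMul.isInvertible_tensorPow (PicFam.isInvertible_twistOver n T 1) k) (hF := hG.1)))]
      obtain ⟨w⟩ := W7Hull.nonempty_twistOver_pow n T k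
      obtain ⟨a⟩ := TMul.nonempty_pullTensorIso (π.fiberι t) G (Twist.twistOver n T (k : ℤ))
      obtain ⟨b⟩ := TMul.nonempty_pullTensorIso ε.hom (CohIII.fiberMod π G t)
        (CohIII.fiberMod π (Twist.twistOver n T (k : ℤ)) t)
      refine congrArg _ (CurveRR.euler_eq_of_iso ?_)
      exact PicGrp.tensorModIso eG.symm (htw k).some.symm ≪≫ b ≪≫
        (Scheme.Modules.pullback ε.hom).mapIso
          (a ≪≫ (Scheme.Modules.pullback (π.fiberι t)).mapIso (PicGrp.tensorModIso (Iso.refl G) w))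
    obtain ⟨hreg, hvan⟩ := hm₀ (T.residueField t) c A F φ hc hA' hFc hφ heuler
    have hvG : ∀ i : ℕ, 1 ≤ i → Subsingleton (CohIII.fiberH π G t i) := fun i hi =>
      subsingleton_of_iso_space ε _ (QC.isQCoh_pullback _ hG.1) i
        (CohQC.hh_subsingleton_of_iso eG.symm i (hvan i hi))
    refine ⟨fun i hi => ⟨hvG i hi, ?_⟩, ?_⟩
    · refine subsingleton_of_iso_space ε _ (QC.isQCoh_pullback _ (PnReg.isQCoh_twF _ hK.1)) i ?_
      obtain ⟨a⟩ := TMul.nonempty_pullTensorIso (π.fiberι t) (Twist.twistOver n T (-(i : ℤ))) (kernel q)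
      obtain ⟨b⟩ := TMul.nonempty_pullTensorIso ε.hom (CohIII.fiberMod π (Twist.twistOver n T (-(i : ℤ))) t)
        (CohIII.fiberMod π (kernel q) t)
      have h := hreg i hi
      rw [zero_sub] at h
      exact CohQC.hh_subsingleton_of_iso (TMul.commIso _ _ ≪≫
        PicGrp.tensorModIso (htw (-(i : ℤ))).some.symm eK.symm ≪≫ b ≪≫
        (Scheme.Modules.pullback ε.hom).mapIso a) i h
    · have h0 := hP t 0
      rw [Nat.cast_zero, zero_add] at h0
      rw [← h0]
      have hb : ∀ i : ℕ, PerfAux.betti π (CohB1.tensorMod G (CohB1.tensorPow (Twist.twistOver n T 1) 0)) t i =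
          CohIII.fiberRank π G i t := fun i => HilbFib.betti_congr π (SecTwist.unitorR G) t i
      have hz : ∀ i : ℕ, i ≠ 0 → CohIII.fiberRank π G i t = 0 := fun i hi => by
        haveI := hvG i (by omega)
        exact Module.finrank_zero_of_subsingleton
      have he : HilbFib.hilb π (Twist.twistOver n T 1) G t 0 = (CohIII.fiberRank π G 0 t : ℤ) := by
        refine (finsum_eq_single _ 0 fun i hi => ?_).trans ?_
        · rw [hb, hz i hi]; simp
        · rw [hb]; simp
      rw [he, Int.cast_natCast]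
  have hGfp : CohB1.IsFP G := by haveI := hG.1; exact QC.isFP_of_isQCoh_of_isFT hG.2
  refine ⟨fun t => ?_, ?_⟩
  · haveI : Nonempty (HasInjectiveResolutions (CohB1.ProjSpaceOver n T).Modules) := ⟨inferInstance⟩
    obtain ⟨U, ht, -, ⟨e⟩⟩ := W7Cech.locFree_of_good_nn π hG.1 hGfp hfl 0 ⊤ (fun V hV _ m =>
      m.good_of_adjacent π 0 (fun p hp => absurd hp (Nat.succ_ne_zero p)) fun z _ => ((hfib z).1 1 le_rfl).1) t trivial
    have hr : CohIII.fiberRank π G 0 t = ⌊P₀.eval (c : ℚ)⌋.toNat := by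
      rw [← (hfib t).2, Int.floor_natCast, Int.toNat_natCast]
    rw [← hr]
    exact ⟨U, ht, ⟨(Scheme.Modules.restrictFunctor U.ι).mapIso
      (((Coh.push π).rightDerivedZeroIsoSelf).app G).symm ≪≫ e⟩⟩
  have hreg : KRR.IsRegSheaf n T (kernel q) := fun i hi => by
    have hL := PicFam.isInvertible_twistOver n T (-(i : ℤ))
    have hM : Coh.IsCoh (KRR.twF n T (-(i : ℤ)) (kernel q)) :=
      ⟨PnReg.isQCoh_twF _ hK.1, QC.isFT_of_epi (TMul.commIso (kernel q) (Twist.twistOver n T (-(i : ℤ)))).hom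
        (CohFinite.isCoh_tensor hK hL).2⟩
    have hMfl : FlatMod.IsFlatOver π (KRR.twF n T (-(i : ℤ)) (kernel q)) :=
      DQCoh.isFlatOver_of_iso (PnReg.twComm _ _) (W7Cech.isFlatOver_tensor_invertible π hK.1 hKfl hL)
    have hz := W7Cech.isZero_restrict_of_vanish π hM hMfl i ⊤ fun y _ => ((hfib y).1 i hi).2
    refine (PnReg.isZero_iff _ hM.1 i).2 fun V ch => (ch.subsingleton_iff _ hM.1 i).1 ?_
    obtain ⟨a⟩ := CohQC.hu_restrict (KRR.twF n T (-(i : ℤ)) (kernel q)) (π ⁻¹ᵁ V) i
    letI : (π ⁻¹ᵁ V).toScheme.Over (Spec (CommRingCat.of Γ(T, V))) := ⟨(π ∣_ V) ≫ ch.aff.isoSpec.hom⟩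
    obtain ⟨l⟩ := W7Cech.nonempty_rpush_sections π (KRR.twF n T (-(i : ℤ)) (kernel q)) hM.1 i ch.aff
    have h2 : Subsingleton Γ((Coh.Rpush π i).obj (KRR.twF n T (-(i : ℤ)) (kernel q)), V) := by
      let R := (Coh.Rpush π i).obj (KRR.twF n T (-(i : ℤ)) (kernel q))
      have h0 := AddCommGrpCat.subsingleton_of_isZero
        ((Functor.map_isZero (SheafOfModules.toSheaf _ ⋙ sheafToPresheaf _ _) hz).obj
          (Opposite.op ((⊤ : T.Opens).ι ⁻¹ᵁ V)))
      let b := (R.restrictAppIso (⊤ : T.Opens).ι ((⊤ : T.Opens).ι ⁻¹ᵁ V)).addCommGroupIsoToAddEquiv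
      have hV : (⊤ : T.Opens).ι ''ᵁ ((⊤ : T.Opens).ι ⁻¹ᵁ V) = V := by
        rw [Scheme.Hom.image_preimage_eq_opensRange_inf, Scheme.Opens.opensRange_ι, top_inf_eq]
      have h2 : Subsingleton Γ(R, (⊤ : T.Opens).ι ''ᵁ ((⊤ : T.Opens).ι ⁻¹ᵁ V)) := b.toEquiv.subsingleton_congr.1 h0
      rwa [hV] at h2
    haveI : Subsingleton (Coh.HH _ ((KRR.twF n T (-(i : ℤ)) (kernel q)).restrict (π ⁻¹ᵁ V).ι) i) :=
      @Equiv.subsingleton _ _ l.toEquiv.symm h2
    exact a.toEquiv.subsingleton
  let ch := PnReg.chartAt (n := n) (isAffineOpen_top T)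
  have hrg : ch.q.opensRange = ⊤ := by rw [ch.opensRange]; rfl
  haveI : IsIso ch.q := by
    haveI := ch.imm
    haveI : Surjective ch.q := ⟨fun x => by
      have : x ∈ ch.q.opensRange := by rw [hrg]; trivial
      exact this⟩
    exact (IsOpenImmersion.isIso ch.q)
  have hregc := (PnReg.isRegSheaf_iff hK.1).1 hreg ⊤ ch
  constructor
  · refine CohQC.sections_surjective_top (CohQC.seq_shortExact hS) ?_
    exact subsingleton_of_iso_space (asIso ch.q) _ hK.1 1 (PnReg.hh_of_reg (ch.isQCoh hK.1) hregc 1 le_rfl)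
  intro x _ U s hx
  haveI := PnReg.epi_counit (F := kernel q) hK.1 hreg
  haveI := ch.imm
  obtain ⟨y, rfl⟩ : ∃ y, ch.q y = x := by
    have : x ∈ ch.q.opensRange := by rw [hrg]; trivial
    exact this
  let R := Scheme.Modules.restrictFunctor ch.q
  obtain ⟨W, hW, hyW, hmem⟩ := PnReg.generated_of_reg (R.obj (kernel q)) (QC.isQCoh_restrict ch.q hK.1)
    (PnReg.reg_of_iso ((Scheme.Modules.restrictFunctorIsoPullback ch.q).app (kernel q)).symm hregc)
    (U := ch.q ⁻¹ᵁ U) (QC.res (kernel q) (show ch.q ''ᵁ (ch.q ⁻¹ᵁ U) ≤ U from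
      (Scheme.Hom.image_preimage_eq_opensRange_inf ch.q U).le.trans inf_le_right) s) hx
  have hWU : ch.q ''ᵁ W ≤ U := (Scheme.Hom.image_mono ch.q hW).trans
    ((Scheme.Hom.image_preimage_eq_opensRange_inf ch.q U).le.trans inf_le_right)
  refine ⟨ch.q ''ᵁ W, hWU, le_top, ⟨y, hyW, rfl⟩, ?_⟩
  suffices h : ∀ w ∈ Submodule.span Γ(CohB1.ProjSpace n Γ(T, ⊤), W)
      (Set.range fun g : Γ(R.obj (kernel q), ⊤) => QC.res (R.obj (kernel q)) (le_top : W ≤ ⊤) g),
      (show Γ(kernel q, ch.q ''ᵁ W) from w) ∈ Submodule.span Γ(CohB1.ProjSpaceOver n T, ch.q ''ᵁ W)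
        (Set.range (QC.res (kernel q) (le_top : ch.q ''ᵁ W ≤ ⊤))) by
    have h' := h _ hmem
    exact (show QC.res (kernel q) hWU s = _ from ((QC.res_res (kernel q) _ _ s).symm.trans rfl)) ▸ h'
  intro w hw
  induction hw using Submodule.span_induction with
  | zero => exact Submodule.zero_mem _
  | add a b _ _ ha hb => exact Submodule.add_mem _ ha hb
  | smul r a _ ha => exact Submodule.smul_mem _ ((ch.q.appIso W).inv r) ha
  | mem a ha =>
    obtain ⟨g, rfl⟩ := ha
    have hP : (⊤ : (CohB1.ProjSpaceOver n T).Opens) ≤ ch.q ''ᵁ (⊤ : (CohB1.ProjSpace n Γ(T, ⊤)).Opens) :=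
      ((Scheme.Hom.image_top_eq_opensRange ch.q).trans hrg).ge
    exact Submodule.subset_span ⟨QC.res (kernel q) hP g, (QC.res_res (kernel q) _ _ g).trans rfl⟩

end Groth.Agent.QuotProj

end
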