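import Groth.Agent.QuotProj.Sect
import Groth.Agent.GrassQ.Props
import Groth.Agent.GrassBC.MapOfEpi
import Groth.Agent.ResPerf.FreeExtend
import Groth.Agent.LinSerMap.Main

/-!
Base change of Grassmannians, and properness of the Grassmannian of a coherent module.
-/

set_option autoImplicit false
set_option backward.isDefEq.respectTransparency false
set_option backward.isDefEq.respectTransparency.types false
set_option linter.style.haveILetI false
set_option maxHeartbeats 1000000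

universe u

open CategoryTheory CategoryTheory.Limits AlgebraicGeometry TopologicalSpace Opposite
open Groth.Agent.QC (res res_res res_self app_res)
open Groth.Agent.PBundle (sec')

noncomputable section

namespace Groth.Agent.QuotProj

/-- Maps out of an iterated inverse image are determined on pulled back sections. -/
theorem ext_pullback₂ {T S' S : Scheme.{u}} (g : T ⟶ S') (b : S' ⟶ S) {V : S.Modules} {N : T.Modules}
    {u v : (Scheme.Modules.pullback g).obj ((Scheme.Modules.pullback b).obj V) ⟶ N}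
    (h : ∀ (U : S.Opens) (m : Γ(V, U)), sec' g u (b ⁻¹ᵁ U) (OmegaSh.pullSect b V U m) =
      sec' g v (b ⁻¹ᵁ U) (OmegaSh.pullSect b V U m)) : u = v := by
  let a₁ := Scheme.Modules.pullbackPushforwardAdjunction g
  let a₂ := Scheme.Modules.pullbackPushforwardAdjunction b
  refine (a₁.homEquiv _ _).injective ((a₂.homEquiv _ _).injective (Scheme.Modules.hom_ext _ _ fun U => ?_))
  ext m
  refine (homEquiv_app b _ U m).trans (Eq.trans ?_ (homEquiv_app b _ U m).symm)
  exact (homEquiv_app g u _ _).trans ((h U m).trans (homEquiv_app g v _ _).symm)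

/-- Base change commutes with regrouping an inverse image. -/
theorem bc_pullbackComp {T G' S' S : Scheme.{u}} {π' : G' ⟶ S'} {b : S' ⟶ S} {k : T ⟶ G'} {g : T ⟶ S'}
    (hk : k ≫ π' = g) (hk' : k ≫ (π' ≫ b) = g ≫ b) {V : S.Modules} {Q : G'.Modules}
    (y : (Scheme.Modules.pullback (π' ≫ b)).obj V ⟶ Q) :
    bc hk ((Scheme.Modules.pullbackComp π' b).hom.app V ≫ y) =
      (Scheme.Modules.pullbackComp g b).hom.app V ≫ bc hk' y := by
  refine ext_pullback₂ g b fun U m => ?_
  rw [sec'_pullbackComp g b (bc hk' y) U m, sec'_bc, sec'_bc, sec'_pullbackComp π' b y U m]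
  rfl

variable {S : Scheme.{u}} {V : S.Modules} {G : Scheme.{u}} {π : G ⟶ S} {r : ℕ} {Q : G.Modules}
  {q : (Scheme.Modules.pullback π).obj V ⟶ Q}

/-- Grassmannians commute with base change. -/
theorem exists_grass_baseChange (hG : Grass.IsGrass π V r Q q) {S' G' : Scheme.{u}} {b : S' ⟶ S} {p : G' ⟶ G}
    {π' : G' ⟶ S'} (sq : IsPullback p π' π b) :
    ∃ q', Grass.IsGrass π' ((Scheme.Modules.pullback b).obj V) r ((Scheme.Modules.pullback p).obj Q) q' := by
  let q' : (Scheme.Modules.pullback π').obj ((Scheme.Modules.pullback b).obj V) ⟶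
      (Scheme.Modules.pullback p).obj Q := (Scheme.Modules.pullbackComp π' b).hom.app V ≫ bc sq.w q
  haveI := hG.epi
  haveI := epi_bc sq.w q
  haveI : Epi q' := epi_comp _ _
  refine ⟨q', ?_, inferInstance, fun T g L hL s hs => ?_⟩
  · intro x
    obtain ⟨U, hU, ⟨i⟩⟩ := hG.rank (p x)
    exact ⟨p ⁻¹ᵁ U, hU, ModDesc.exists_free_pullback p i⟩
  let s' : (Scheme.Modules.pullback (g ≫ b)).obj V ⟶ L := (Scheme.Modules.pullbackComp g b).inv.app V ≫ s
  haveI := hs
  obtain ⟨h, ⟨hg, e, he⟩, huniq⟩ := hG.univ T (g ≫ b) L hL s' (epi_comp _ _)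
  let k : T ⟶ G' := sq.lift h g hg
  have hkp : k ≫ p = h := sq.lift_fst _ _ _
  have hkg : k ≫ π' = g := sq.lift_snd _ _ _
  have main : ∀ (k : T ⟶ G') (hkg : k ≫ π' = g) (hkp : (k ≫ p) ≫ π = g ≫ b),
      ∃ i : (Scheme.Modules.pullback k).obj ((Scheme.Modules.pullback p).obj Q) ≅
        (Scheme.Modules.pullback (k ≫ p)).obj Q,
        bc hkg q' ≫ i.hom = (Scheme.Modules.pullbackComp g b).hom.app V ≫ bc hkp q := by
    intro k hkg hkp
    have hk' : k ≫ π' ≫ b = g ≫ b := by rw [reassoc_of% hkg]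
    obtain ⟨i, hi⟩ := exists_iso_bc_comp sq.w hk' rfl hkp q
    refine ⟨i, ?_⟩
    rw [bc_pullbackComp hkg hk', Category.assoc, hi]
  refine ⟨k, ?_, fun k' hk' => ?_⟩
  · obtain ⟨i, hi⟩ := main k hkg (by rw [hkp, hg])
    refine ⟨hkg, i ≪≫ (Scheme.Modules.pullbackCongr hkp).app Q ≪≫ e, ?_⟩
    show bc hkg q' ≫ i.hom ≫ ((Scheme.Modules.pullbackCongr hkp).app Q).hom ≫ e.hom = s
    rw [reassoc_of% hi, bc_eq, Iso.app_hom, ← Category.assoc (Grass.quotBC _ q),
      GrassBC.quotBC_congr hkp _ hg, he]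
    exact Iso.hom_inv_id_app_assoc _ _ _
  · obtain ⟨hkg', e', he'⟩ := hk'
    have hkp' : (k' ≫ p) ≫ π = g ≫ b := by rw [Category.assoc, sq.w, reassoc_of% hkg']
    obtain ⟨i, hi⟩ := main k' hkg' hkp'
    have h1 : k' ≫ p = h := huniq _ ⟨hkp', i.symm ≪≫ e', by
      rw [← cancel_epi ((Scheme.Modules.pullbackComp g b).hom.app V)]
      simp only [Iso.trans_hom, Iso.symm_hom, s', Iso.hom_inv_id_app_assoc]
      rw [← bc_eq, ← reassoc_of% hi, Iso.hom_inv_id_assoc]
      exact he'⟩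
    refine sq.hom_ext ?_ ?_
    · rw [hkp, h1]
    · rw [hkg, hkg']

/-- The Grassmannian of a coherent module is proper. -/
theorem isProper_grass [IsLocallyNoetherian S] (hV : Coh.IsCoh V) (hG : Grass.IsGrass π V r Q q) :
    IsProper π := by
  have H : ∀ x : S, ∃ U : S.affineOpens, x ∈ U.1 := fun x => by
    obtain ⟨U, hU, hx, -⟩ := exists_isAffineOpen_mem_and_subset (X := S) (x := x) (U := ⊤) trivial
    exact ⟨⟨U, hU⟩, hx⟩
  refine IsZariskiLocalAtTarget.of_iSup_eq_top (P := @IsProper) (fun U : S.affineOpens => U.1)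
    (top_le_iff.1 fun x _ => Opens.mem_iSup.2 (H x)) fun U => ?_
  obtain ⟨q₂, hG₂⟩ := exists_grass_baseChange hG (isPullback_morphismRestrict π U.1).flip
  haveI : IsAffine U.1.toScheme := U.2
  have hVU : Coh.IsCoh ((Scheme.Modules.pullback U.1.ι).obj V) := QC.isCoh_pullback _ hV
  obtain ⟨N, v, hv⟩ := ResPerf.exists_epi_free _ hVU.1 hVU.2
  let pr : FlatMod.freeMod U.1.toScheme (N + r) ⟶ FlatMod.freeMod U.1.toScheme N :=
    Limits.Sigma.desc fun x => Fin.addCases (fun y => Limits.Sigma.ι (fun _ : Fin N => Coh.structureModule _) y)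
      (fun _ => 0) x
  haveI : Epi pr := by
    haveI : IsSplitEpi pr := ⟨⟨⟨Limits.Sigma.desc fun y =>
      Limits.Sigma.ι (fun _ : Fin (N + r) => Coh.structureModule _) (Fin.castAdd r y),
      Limits.Sigma.hom_ext _ _ fun y => by simp [pr]⟩⟩⟩
    infer_instance
  have hF := LinSerMap.isFinLocFreeOfRank_freeMod U.1.toScheme (N + r)
  have hFq := GrassQ.isQCoh_of_rank hF
  obtain ⟨G₁, π₁, Q₁, q₁, hG₁⟩ := GrassQ.exists_isGrass (e := r) hFq
  haveI : IsProper π₁ := GrassQ.IsUniv.isProper (GrassQ.isUniv_of_isGrass hG₁) hF (Nat.le_add_left r N)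
  haveI := hv
  haveI : Epi (pr ≫ v) := epi_comp _ _
  haveI := GrassBC.isClosedImmersion_mapOfEpi hFq hVU.1 (pr ≫ v) hG₁ hG₂
  rw [← hG₁.mapOfEpi_comp hG₂ (pr ≫ v)]
  infer_instance

end Groth.Agent.QuotProj

end
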