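import Groth.Agent.QuotProj.AffineChart
import Groth.Agent.QuotProj.GrassCoh
import Groth.Agent.QuotProj.Union
import Groth.Agent.W7Exist.Induct

/-!
Quot schemes over a Noetherian base are disjoint unions of proper schemes.
-/

set_option autoImplicit false
set_option backward.isDefEq.respectTransparency false
set_option backward.isDefEq.respectTransparency.types false
set_option linter.style.haveILetI false
set_option maxHeartbeats 1000000

universe u

open CategoryTheory CategoryTheory.Limits AlgebraicGeometry TopologicalSpace Opposite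
open Groth.Agent.QC (res res_res res_self app_res)
open Groth.Agent.PBundle (sec')

noncomputable section

namespace Groth.Agent.QuotProj

variable {X S : Scheme.{u}} {n : ℕ}

theorem sec'_counit (f : X ⟶ S) (E : X.Modules) (U : S.Opens) (s : Γ(E, f ⁻¹ᵁ U)) :
    sec' f ((Scheme.Modules.pullbackPushforwardAdjunction f).counit.app E) U
      (s : Γ((Scheme.Modules.pushforward f).obj E, U)) = s :=
  (homEquiv_app f _ U _).symm.trans (by
    rw [Adjunction.homEquiv_unit, (Scheme.Modules.pullbackPushforwardAdjunction f).right_triangle_components]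
    rfl)

/-- The quotients with one Hilbert polynomial are classified by a proper scheme. -/
theorem exists_rep_proper [IsNoetherian S] (i : X ⟶ CohB1.ProjSpaceOver n S) [IsClosedImmersion i]
    {E : X.Modules} (hE : Coh.IsCoh E) (Φ : Polynomial ℚ) :
    ∃ (Q : Over S) (aQ : Quo (i ≫ CohB1.ProjSpaceOver.toBase n S) E Q),
      Rep ((Scheme.Modules.pullback i).obj (Twist.twistOver n S 1)) Φ Q aQ ∧ IsProper Q.hom := by
  let f := i ≫ CohB1.ProjSpaceOver.toBase n S
  let L := (Scheme.Modules.pullback i).obj (Twist.twistOver n S 1)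
  haveI : IsProper (CohB1.ProjSpaceOver.toBase n S) := HQProj.isProper_toBase n S
  haveI : IsProper f := inferInstanceAs (IsProper (i ≫ _))
  haveI : LocallyOfFinitePresentation f := inferInstance
  haveI : IsLocallyNoetherian X := LocallyOfFiniteType.isLocallyNoetherian f
  have hLa : RelAmple.IsRelAmple f L :=
    TMul.isRelAmple_pullback_of_isInducing i i.isEmbedding.isInducing (HilbFib.isRelAmple_twistOver n S)
  have hL : PicF.IsInvertible L := PicLoc.isInvertible_pullback i (PicFam.isInvertible_twistOver n S 1)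
  -- a finite affine cover
  have H : ∀ x : S, ∃ U : S.affineOpens, x ∈ U.1 := fun x => by
    obtain ⟨U, hU, hx, -⟩ := exists_isAffineOpen_mem_and_subset (X := S) (x := x) (U := ⊤) trivial
    exact ⟨⟨U, hU⟩, hx⟩
  obtain ⟨s, hs⟩ := isCompact_univ.elim_finite_subcover (fun U : S.affineOpens => (U.1 : Set S))
    (fun U => U.1.2) fun x _ => Set.mem_iUnion.2 (H x)
  choose ν p q hq using fun U : S.affineOpens => exists_affine_presentation (f := f) i rfl hE U.2
  choose m₀ hm₀ using fun U : S.affineOpens =>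
    exists_chart_bound.{u} n (p U) (Φ.comp (Polynomial.X - Polynomial.C ((ν U : ℤ) : ℚ)))
  let m : ℕ := s.sup fun U => m₀ U + (ν U).natAbs
  let Φ' := Φ.comp (Polynomial.X + Polynomial.C (m : ℚ))
  let r := ⌊Φ.eval (m : ℚ)⌋.toNat
  have hM : PicF.IsInvertible (CohB1.tensorPow L m) := TMul.isInvertible_tensorPow hL m
  let E' := CohB1.tensorMod E (CohB1.tensorPow L m)
  have hE' : Coh.IsCoh E' := CohFinite.isCoh_tensor hE hM
  let V := (Scheme.Modules.pushforward f).obj E'
  have hV : Coh.IsCoh V := W7Exist.isCoh_push_proper f hE'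
  let θ : (Scheme.Modules.pullback f).obj V ⟶ E' := (Scheme.Modules.pullbackPushforwardAdjunction f).counit.app E'
  obtain ⟨G, π, Λ, σ, hG⟩ := GrassQ.exists_isGrass (e := r) hV.1
  haveI : IsProper π := isProper_grass hV hG
  haveI : IsLocallyNoetherian G := LocallyOfFiniteType.isLocallyNoetherian π
  let A : GrassQ.Pair V r G := ⟨π, Λ, hG.rank, σ, hG.epi⟩
  haveI : IsProper A.g := ‹IsProper π›
  have hA : GrassQ.IsUniv A := GrassQ.isUniv_of_isGrass hG
  obtain ⟨Q, aQ, j, hj, hjq, hjg, hrep⟩ := exists_rep_of_good θ hE' hV.1 hLa (Φ := Φ') hA (fun T _ a ha hp => by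
    refine Quo.good_of_loc θ a ha.1.1 hV.1 fun t => ?_
    obtain ⟨U, hUs, htU⟩ := Set.mem_iUnion₂.1 (hs (Set.mem_univ (T.hom t)))
    have hmU : m₀ U + (ν U).natAbs ≤ m := Finset.le_sup (f := fun U => m₀ U + (ν U).natAbs) hUs
    obtain ⟨c, hc⟩ : ∃ c : ℕ, (c : ℤ) = ν U + m := ⟨(ν U + m).toNat, Int.toNat_of_nonneg (by omega)⟩
    haveI := hq U
    obtain ⟨D, hD⟩ := exists_chart_of_presentation (f := f) i rfl U.1 (ν U) (p U) (q U) m c hc θ
      fun z => ⟨z, sec'_counit f E' U.1 z⟩
    obtain ⟨O, hO, htO, hOle⟩ := exists_isAffineOpen_mem_and_subset (X := T.left) (x := t) (U := T.hom ⁻¹ᵁ U.1) htU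
    have hle : O ≤ T.hom ⁻¹ᵁ D.U := by rw [hD]; exact hOle
    have h2 : ((c : ℤ) : ℚ) = (ν U : ℚ) + (m : ℚ) := by rw [hc]; push_cast; ring
    rw [Int.cast_natCast] at h2
    refine ⟨D.U, O, hle, hO, htO, ?_⟩
    have h3 := hm₀ U hL c (by omega) D T a ha Φ' (fun k => ?_) hp O hle hO
    · rwa [show (Φ.comp (Polynomial.X - Polynomial.C ((ν U : ℤ) : ℚ))).eval (c : ℚ) = Φ.eval (m : ℚ) by
        simp [h2]] at h3
    simp only [Φ', Polynomial.eval_comp, Polynomial.eval_add, Polynomial.eval_sub, Polynomial.eval_X,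
      Polynomial.eval_C, h2]
    ring_nf)
  haveI := hj
  haveI := hjq
  haveI := hrep.isClosedImmersion hE' hL A.g j hjg
  obtain ⟨a₀, h₀⟩ := exists_rep_twist hL m (Φ := Φ) (fun k => by
    simp only [Φ', Polynomial.eval_comp, Polynomial.eval_add, Polynomial.eval_X, Polynomial.eval_C, add_comm]) hrep
  exact ⟨Q, a₀, h₀, by rw [← hjg]; infer_instance⟩

theorem exists_quot_proper [IsNoetherian S] (i : X ⟶ CohB1.ProjSpaceOver n S) [IsClosedImmersion i]
    {E : X.Modules} (hE : Coh.IsCoh E) :
    ∃ (Q : Over S) (K : FGA.QuotSet (i ≫ CohB1.ProjSpaceOver.toBase n S) E Q),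
      FGA.QuotRepresentedBy (i ≫ CohB1.ProjSpaceOver.toBase n S) E Q K ∧
      ∃ (ι : Type u) (P : ι → Scheme.{u}) (e : (∐ P) ≅ Q.left),
        ∀ a, IsProper (Limits.Sigma.ι P a ≫ e.hom ≫ Q.hom) := by
  haveI : IsProper (CohB1.ProjSpaceOver.toBase n S) := HQProj.isProper_toBase n S
  exact exists_quot_union (f := i ≫ CohB1.ProjSpaceOver.toBase n S)
    (L := (Scheme.Modules.pullback i).obj (Twist.twistOver n S 1)) hE
    (PicLoc.isInvertible_pullback i (PicFam.isInvertible_twistOver n S 1)) (fun Q => IsProper Q.hom)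
    (exists_rep_proper i hE)

end Groth.Agent.QuotProj

end
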