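import Groth.Agent.PnReg.Chart
import Groth.Agent.GrT.TwistEpi
import Groth.Agent.GrothSS.ChangeRings
import Groth.Agent.SerrePn.ClosedDepth

/-!
Coherent modules on closed subschemes of projective space over an affine scheme are quotients of sums of a twist.
-/

set_option autoImplicit false
set_option backward.isDefEq.respectTransparency false
set_option backward.isDefEq.respectTransparency.types false
set_option linter.style.haveILetI false
set_option maxHeartbeats 1000000

universe u

open CategoryTheory CategoryTheory.Limits AlgebraicGeometry TopologicalSpace Opposite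

noncomputable section

namespace Groth.Agent.QuotProj

variable {n : ℕ} {T : Scheme.{u}}

theorem exists_epi_twist_projSpaceOver [IsAffine T] {F : (CohB1.ProjSpaceOver n T).Modules} (hF : Coh.IsCoh F) :
    ∃ (ν : ℤ) (p : ℕ) (q : (∐ fun _ : Fin p => Twist.twistOver n T ν) ⟶ F), Epi q := by
  let c := PnReg.chartAt (n := n) (isAffineOpen_top T)
  haveI := c.imm
  haveI : Surjective c.q := ⟨fun x => by
    have : x ∈ Set.range c.q := by rw [c.range, Scheme.Opens.range_ι]; trivial
    exact this⟩
  haveI : IsIso c.q := (isIso_iff_isOpenImmersion_and_epi_base c.q).2 ⟨c.imm, (TopCat.epi_iff_surjective _).2 c.q.surjective⟩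
  let R := Γ(T, ⊤)
  obtain ⟨n₀, hn₀⟩ := GrT.exists_epi_twists (𝒜 := CohB1.polyGrading n R)
    (v := fun i : ULift.{u} (Fin (n + 1)) => (MvPolynomial.X i.down : MvPolynomial (Fin (n + 1)) R))
    (F := (Scheme.Modules.pullback c.q).obj F)
    (fun i => MvPolynomial.isHomogeneous_X R i.down) (QC.isQCoh_pullback _ hF.1)
    (haveI := hF.1; (QC.isCoh_pullback c.q hF).2) (fun x => by
      obtain ⟨i, hi⟩ := CohFinite.cov_X n R x
      exact ⟨i, hi⟩)
  obtain ⟨k, p, hp⟩ := hn₀ n₀ le_rfl
  refine ⟨-(n₀ : ℤ), k, ?_⟩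
  let ψ := inv c.q
  let back : ∀ M : (CohB1.ProjSpaceOver n T).Modules,
      (Scheme.Modules.pullback ψ).obj ((Scheme.Modules.pullback c.q).obj M) ≅ M := fun M =>
    (Scheme.Modules.pullbackComp ψ c.q).app M ≪≫ (Scheme.Modules.pullbackCongr (IsIso.inv_hom_id c.q)).app M ≪≫
      (Scheme.Modules.pullbackId _).app M
  haveI := hp
  haveI := (Scheme.Modules.pullbackPushforwardAdjunction ψ).leftAdjoint_preservesColimits.{0, 0}
  haveI : Epi ((Scheme.Modules.pullback ψ).map p) := Grass.epi_pullback_map _ _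
  exact ⟨(Sigma.mapIso fun _ => (back _).symm ≪≫ (Scheme.Modules.pullback ψ).mapIso (c.tw (-(n₀ : ℤ)))).hom ≫
    (PreservesCoproduct.iso (Scheme.Modules.pullback ψ) _).inv ≫ (Scheme.Modules.pullback ψ).map p ≫ (back F).hom,
    inferInstance⟩

theorem exists_epi_twist [IsAffine T] [IsNoetherian T] {X : Scheme.{u}} (i : X ⟶ CohB1.ProjSpaceOver n T)
    [IsClosedImmersion i] {E : X.Modules} (hE : Coh.IsCoh E) :
    ∃ (ν : ℤ) (p : ℕ) (q : (∐ fun _ : Fin p => (Scheme.Modules.pullback i).obj (Twist.twistOver n T ν)) ⟶ E),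
      Epi q := by
  haveI : IsProper (CohB1.ProjSpaceOver.toBase n T) := HQProj.isProper_toBase n T
  haveI : IsLocallyNoetherian (CohB1.ProjSpaceOver n T) :=
    LocallyOfFiniteType.isLocallyNoetherian (CohB1.ProjSpaceOver.toBase n T)
  obtain ⟨ν, p, q, hq⟩ := exists_epi_twist_projSpaceOver (SerrePn.isCoh_push i hE)
  haveI := hq
  haveI := (Scheme.Modules.pullbackPushforwardAdjunction i).leftAdjoint_preservesColimits.{0, 0}
  haveI : Epi ((Scheme.Modules.pullback i).map q) := Grass.epi_pullback_map _ _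
  haveI := GrothSS.isIso_counit_push i
  exact ⟨ν, p, (PreservesCoproduct.iso (Scheme.Modules.pullback i) _).inv ≫ (Scheme.Modules.pullback i).map q ≫
    (Scheme.Modules.pullbackPushforwardAdjunction i).counit.app E, inferInstance⟩

end Groth.Agent.QuotProj

end
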