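import Groth.Agent.QuotProj.FreeModel
import Groth.Agent.QuotProj.Serre
import Groth.Agent.TMul.Assoc

/-!
Charts over affine opens of the base.
-/

set_option autoImplicit false
set_option backward.isDefEq.respectTransparency false
set_option backward.isDefEq.respectTransparency.types false
set_option linter.style.haveILetI false
set_option maxHeartbeats 1000000

universe u

open CategoryTheory CategoryTheory.Limits AlgebraicGeometry TopologicalSpace Opposite
open Groth.Agent.QC (res res_res res_self app_res)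
open Groth.Agent.PBundle (sec')

noncomputable section

namespace Groth.Agent.QuotProj

variable {X S : Scheme.{u}} {f : X ⟶ S} {n : ℕ} (i : X ⟶ CohB1.ProjSpaceOver n S)

theorem isClosedImmersion_chartLift [IsClosedImmersion i] (hf : i ≫ CohB1.ProjSpaceOver.toBase n S = f)
    (U : S.Opens) :
    IsClosedImmersion (pullback.lift ((f ⁻¹ᵁ U).ι ≫ i ≫ pullback.fst _ _) (f ∣_ U)
      (specULiftZIsTerminal.hom_ext _ _) : (f ⁻¹ᵁ U).toScheme ⟶ CohB1.ProjSpaceOver n U.toScheme) := by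
  let i' : (f ⁻¹ᵁ U).toScheme ⟶ CohB1.ProjSpaceOver n U.toScheme :=
    pullback.lift ((f ⁻¹ᵁ U).ι ≫ i ≫ pullback.fst _ _) (f ∣_ U) (specULiftZIsTerminal.hom_ext _ _)
  have h : IsPullback (f ⁻¹ᵁ U).ι i' i (KRR.projSpaceMap n U.ι) := by
    refine IsPullback.of_bot (v₂₁ := KRR.pr n U.toScheme) (v₂₂ := KRR.pr n S) ?_ ?_ (PnReg.isPullback_map U.ι)
    · rw [show i' ≫ KRR.pr n U.toScheme = f ∣_ U from pullback.lift_snd _ _ _, show i ≫ KRR.pr n S = f from hf]
      exact (isPullback_morphismRestrict f U).flip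
    · apply pullback.hom_ext
      · rw [Category.assoc, Category.assoc, PnReg.map_fst, pullback.lift_fst]
      · rw [Category.assoc, Category.assoc,
          show KRR.projSpaceMap n U.ι ≫ pullback.snd _ _ = pullback.snd _ _ ≫ U.ι from pullback.lift_snd _ _ _,
          ← Category.assoc i', pullback.lift_snd]
        exact (congrArg ((f ⁻¹ᵁ U).ι ≫ ·) hf).trans (morphismRestrict_ι f U).symm
  exact MorphismProperty.of_isPullback (P := @IsClosedImmersion) h ‹_›

/-- Assembling a chart over an open of the base. -/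
theorem exists_chart_of_open [IsClosedImmersion i] (hf : i ≫ CohB1.ProjSpaceOver.toBase n S = f) (U : S.Opens)
    {E : X.Modules} {V : S.Modules} (θ : (Scheme.Modules.pullback f).obj V ⟶ E) {c N : ℕ}
    (π : Fin N → ((Scheme.Modules.pullback ((f ⁻¹ᵁ U).ι ≫ i ≫ pullback.fst _ _)).obj
      (Twist.twistProjSpace n (ULift.{u} ℤ) (c : ℤ)) ⟶ (Scheme.Modules.pullback (f ⁻¹ᵁ U).ι).obj E))
    (hπ : Epi (Limits.Sigma.desc π)) (hsec : ∀ s : Γ(E, f ⁻¹ᵁ U), ∃ v : Γ(V, U), sec' f θ U v = s) :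
    ∃ D : ChartData θ ((Scheme.Modules.pullback i).obj (Twist.twistOver n S 1)) n c N, D.U = U := by
  obtain ⟨μ, hμ⟩ := exists_twist_gen.{u} n c
  let κ := (f ⁻¹ᵁ U).ι ≫ i ≫ pullback.fst (CohB1.ProjSpace.toSpec n (ULift.{u} ℤ)) (specULiftZIsTerminal.from S)
  have hle : (⊤ : (f ⁻¹ᵁ U).toScheme.Opens) ≤ (f ⁻¹ᵁ U).ι ⁻¹ᵁ (f ⁻¹ᵁ U) := fun x _ => x.2
  refine ⟨{
    U := U
    X' := (f ⁻¹ᵁ U).toScheme
    j := (f ⁻¹ᵁ U).ι
    f' := f ∣_ U
    sq := (isPullback_morphismRestrict f U).flip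
    κ := κ
    closed := isClosedImmersion_chartLift i hf U
    eL := (Scheme.Modules.pullback (f ⁻¹ᵁ U).ι).mapIso (twistPullIso i 1) ≪≫
      (Scheme.Modules.pullbackComp _ _).app _
    π := π
    epi := hπ
    m := (n + c).choose c
    μ := μ
    gen := hμ
    le := hle
    hyp := fun k l => ?_ }, rfl⟩
  obtain ⟨s, hs⟩ := (tp_bijective (g := (f ⁻¹ᵁ U).ι) (M := E) (by simp) hle).2
    ((π k).app ⊤ (tp κ (Twist.twistProjSpace n (ULift.{u} ℤ) (c : ℤ)) (U := ⊤) le_rfl (μ l)))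
  obtain ⟨v, hv⟩ := hsec s
  exact ⟨v, by rw [hv]; exact hs.symm⟩

/-- Charts of twists of a module which over an open is a quotient of a sum of one twist. -/
theorem exists_chart_of_presentation [IsClosedImmersion i] (hf : i ≫ CohB1.ProjSpaceOver.toBase n S = f)
    (U : S.Opens) {E : X.Modules} (ν : ℤ) (p : ℕ)
    (q : (∐ fun _ : Fin p => (Scheme.Modules.pullback ((f ⁻¹ᵁ U).ι ≫ i ≫ pullback.fst _ _)).obj
      (Twist.twistProjSpace n (ULift.{u} ℤ) ν)) ⟶ (Scheme.Modules.pullback (f ⁻¹ᵁ U).ι).obj E) [Epi q]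
    (m c : ℕ) (hc : (c : ℤ) = ν + m) {V : S.Modules}
    (θ : (Scheme.Modules.pullback f).obj V ⟶
      CohB1.tensorMod E (CohB1.tensorPow ((Scheme.Modules.pullback i).obj (Twist.twistOver n S 1)) m))
    (hsec : ∀ s, ∃ v : Γ(V, U), sec' f θ U v = s) :
    ∃ D : ChartData θ ((Scheme.Modules.pullback i).obj (Twist.twistOver n S 1)) n c p, D.U = U := by
  let j := (f ⁻¹ᵁ U).ι
  let fz := pullback.fst (CohB1.ProjSpace.toSpec n (ULift.{u} ℤ)) (specULiftZIsTerminal.from S)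
  let κ := j ≫ i ≫ fz
  let L := (Scheme.Modules.pullback i).obj (Twist.twistOver n S 1)
  let T : ℤ → (f ⁻¹ᵁ U).toScheme.Modules := fun d =>
    (Scheme.Modules.pullback κ).obj (Twist.twistProjSpace n (ULift.{u} ℤ) d)
  have hT : ∀ d, Nonempty ((Scheme.Modules.pullback j).obj ((Scheme.Modules.pullback i).obj
      (Twist.twistOver n S d)) ≅ T d) := fun d =>
    ⟨(Scheme.Modules.pullback j).mapIso (twistPullIso i d) ≪≫ (Scheme.Modules.pullbackComp j _).app _⟩
  have hL : PicF.IsInvertible L := PicLoc.isInvertible_pullback i (PicFam.isInvertible_twistOver n S 1)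
  have hM : PicF.IsInvertible ((Scheme.Modules.pullback j).obj (CohB1.tensorPow L m)) :=
    PicLoc.isInvertible_pullback j (TMul.isInvertible_tensorPow hL m)
  obtain ⟨w⟩ : Nonempty (T (c : ℤ) ≅ CohB1.tensorMod (T ν) ((Scheme.Modules.pullback j).obj (CohB1.tensorPow L m))) := by
    obtain ⟨a⟩ := TMul.nonempty_pullPowIso i (Twist.twistOver n S 1) m
    obtain ⟨b⟩ := W7Hull.nonempty_twistOver_pow n S m
    obtain ⟨d⟩ := PBundle.nonempty_twistOver_add (r := n) (Y := S) ν (m : ℤ) (c : ℤ) hc.symm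
    obtain ⟨e⟩ := TMul.nonempty_pullTensorIso i (Twist.twistOver n S ν) (CohB1.tensorPow (Twist.twistOver n S 1) m)
    obtain ⟨e'⟩ := TMul.nonempty_pullTensorIso j ((Scheme.Modules.pullback i).obj (Twist.twistOver n S ν))
      (CohB1.tensorPow L m)
    obtain ⟨t⟩ := hT c
    obtain ⟨t'⟩ := hT ν
    exact ⟨t.symm ≪≫ (Scheme.Modules.pullback j).mapIso ((Scheme.Modules.pullback i).mapIso
      (d.symm ≪≫ PicGrp.tensorModIso (Iso.refl _) b) ≪≫ e.symm ≪≫ PicGrp.tensorModIso (Iso.refl _) a.symm) ≪≫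
      e'.symm ≪≫ PicGrp.tensorModIso t' (Iso.refl _)⟩
  obtain ⟨ε⟩ := TMul.nonempty_pullTensorIso j E (CohB1.tensorPow L m)
  let qk : Fin p → (T ν ⟶ (Scheme.Modules.pullback j).obj E) := fun k => Limits.Sigma.ι (fun _ : Fin p => T ν) k ≫ q
  haveI : Epi (Limits.Sigma.desc qk) := by
    rw [show Limits.Sigma.desc qk = q from Sigma.hom_ext _ _ fun k => by simp [qk, T, κ, j, fz]]; infer_instance
  haveI := epi_desc_tmap hM qk
  refine exists_chart_of_open i hf U θ (fun k => w.hom ≫ tmapR (qk k) _ ≫ ε.hom) ⟨fun {Z} a b h => ?_⟩ hsec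
  rw [← cancel_epi ε.hom, ← cancel_epi (Limits.Sigma.desc fun k => tmapR (qk k)
    ((Scheme.Modules.pullback j).obj (CohB1.tensorPow L m)))]
  refine Sigma.hom_ext _ _ fun k => ?_
  have h2 := congrArg (fun u => Limits.Sigma.ι (fun _ : Fin p => T (c : ℤ)) k ≫ u) h
  simpa [T, κ, j, fz] using h2

/-- Over a Noetherian affine open there is a presentation by one twist. -/
theorem exists_affine_presentation [IsClosedImmersion i] [IsLocallyNoetherian S]
    (hf : i ≫ CohB1.ProjSpaceOver.toBase n S = f) {E : X.Modules} (hE : Coh.IsCoh E) {U : S.Opens}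
    (hU : IsAffineOpen U) :
    ∃ (ν : ℤ) (p : ℕ) (q : (∐ fun _ : Fin p =>
      (Scheme.Modules.pullback ((f ⁻¹ᵁ U).ι ≫ i ≫ pullback.fst _ _)).obj (Twist.twistProjSpace n (ULift.{u} ℤ) ν)) ⟶
        (Scheme.Modules.pullback (f ⁻¹ᵁ U).ι).obj E), Epi q := by
  haveI : IsAffine U.toScheme := hU
  haveI : IsNoetherian U.toScheme := ⟨⟩
  haveI := isClosedImmersion_chartLift i hf U
  haveI : IsProper (CohB1.ProjSpaceOver.toBase n S) := HQProj.isProper_toBase n S
  haveI : IsLocallyNoetherian X := by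
    haveI : LocallyOfFiniteType f := by rw [← hf]; infer_instance
    exact LocallyOfFiniteType.isLocallyNoetherian f
  let i' : (f ⁻¹ᵁ U).toScheme ⟶ CohB1.ProjSpaceOver n U.toScheme :=
    pullback.lift ((f ⁻¹ᵁ U).ι ≫ i ≫ pullback.fst _ _) (f ∣_ U) (specULiftZIsTerminal.hom_ext _ _)
  haveI : IsClosedImmersion i' := isClosedImmersion_chartLift i hf U
  obtain ⟨ν, p, q, hq⟩ := exists_epi_twist i' (QC.isCoh_pullback (f ⁻¹ᵁ U).ι hE)
  let e : (Scheme.Modules.pullback i').obj (Twist.twistOver n U.toScheme ν) ≅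
      (Scheme.Modules.pullback ((f ⁻¹ᵁ U).ι ≫ i ≫ pullback.fst _ _)).obj (Twist.twistProjSpace n (ULift.{u} ℤ) ν) :=
    twistPullIso i' ν ≪≫ (Scheme.Modules.pullbackCongr (pullback.lift_fst _ _ _)).app _
  haveI := hq
  exact ⟨ν, p, (Limits.Sigma.mapIso fun _ => e).inv ≫ q, inferInstance⟩

end Groth.Agent.QuotProj

end
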