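import Groth.Agent.QuotProj.Extend
import Groth.Agent.QuotProj.Core

/-!
A representing piece inside a proper scheme over the base is closed in it.
-/

set_option autoImplicit false
set_option backward.isDefEq.respectTransparency false
set_option backward.isDefEq.respectTransparency.types false
set_option linter.style.haveILetI false
set_option maxHeartbeats 1000000

universe u

open CategoryTheory CategoryTheory.Limits AlgebraicGeometry TopologicalSpace Opposite

noncomputable section

namespace Groth.Agent.QuotProj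

variable {X S : Scheme.{u}} {f : X ⟶ S} {E : X.Modules} {L : X.Modules}

/-- Valuative existence for a representing piece. -/
theorem Rep.exists_lift [IsProper f] [IsLocallyNoetherian S] (hE : Coh.IsCoh E) (hL : PicF.IsInvertible L)
    {Φ : Polynomial ℚ} {Q : Over S} {aQ : Quo f E Q} (h : Rep L Φ Q aQ) {A : Type u} [CommRing A] [IsDomain A]
    [IsDiscreteValuationRing A] (x : Spec (CommRingCat.of (FractionRing A)) ⟶ Q.left)
    (y : Spec (CommRingCat.of A) ⟶ S) (e : x ≫ Q.hom = DvrDom.genericMap A ≫ y) :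
    ∃ l : Spec (CommRingCat.of A) ⟶ Q.left, l ≫ Q.hom = y ∧ DvrDom.genericMap A ≫ l = x := by
  haveI := h.noeth
  let TK : Over S := Over.mk (x ≫ Q.hom)
  let TR : Over S := Over.mk y
  haveI : IsLocallyNoetherian TR.left := inferInstanceAs (IsLocallyNoetherian (Spec (CommRingCat.of A)))
  haveI : IsLocallyNoetherian TK.left :=
    inferInstanceAs (IsLocallyNoetherian (Spec (CommRingCat.of (FractionRing A))))
  let kx : TK ⟶ Q := Over.homMk x rfl
  obtain ⟨aR, haR, hpR, hrel⟩ := exists_extension hE hL y (x ≫ Q.hom) e.symm (aQ.pull kx) (h.fam.pull kx) Φ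
    (h.poly.pull hL h.fam.1.1 kx)
  obtain ⟨g, hg, -⟩ := h.univ TR aR haR hpR
  refine ⟨g.left, Over.w g, ?_⟩
  let k : TK ⟶ TR := Over.homMk (DvrDom.genericMap A) e.symm
  obtain ⟨g₀, -, huniq⟩ := h.univ TK (aQ.pull kx) (h.fam.pull kx) (h.poly.pull hL h.fam.1.1 kx)
  have h1 : (aQ.pull (k ≫ g)).Rel (aQ.pull kx) :=
    ((Quo.pull_pull aQ k g).symm.trans (hg.pull k)).trans hrel
  have h2 : k ≫ g = kx := (huniq _ h1).trans (huniq _ (Quo.Rel.refl _)).symm
  exact congrArg CommaMorphism.left h2

/-- A representing piece immersed in a proper scheme is closed. -/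
theorem Rep.isClosedImmersion [IsProper f] [IsLocallyNoetherian S] (hE : Coh.IsCoh E) (hL : PicF.IsInvertible L)
    {Φ : Polynomial ℚ} {Q : Over S} {aQ : Quo f E Q} (h : Rep L Φ Q aQ) {G : Scheme.{u}} (g : G ⟶ S)
    [IsProper g] (j : Q.left ⟶ G) [IsImmersion j] [QuasiCompact j] (hj : j ≫ g = Q.hom) :
    IsClosedImmersion j := by
  haveI : IsLocallyNoetherian G := LocallyOfFiniteType.isLocallyNoetherian g
  haveI : IsProper j := DvrDom.isProper_of_dvr j fun A _ _ _ x y e => by
    obtain ⟨l, hl1, hl2⟩ := h.exists_lift hE hL x (y ≫ g) (by rw [← hj, reassoc_of% e])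
    haveI hdom : IsDominant (DvrDom.genericMap A) :=
      haveI := RedDvrSp.isOpenImmersion_fractionRing (R := A)
      ⟨(DvrDom.genericMap A).isOpenEmbedding.isOpen_range.dense (Set.range_nonempty _)⟩
    have hly : l ≫ j = y := by
      refine ext_of_isDominant_of_isSeparated g ?_ (DvrDom.genericMap A) ?_
      · rw [Category.assoc, hj, hl1]
      · rw [← Category.assoc, hl2, e]
    exact ⟨l, ⟨hly, hl2⟩, fun l' hl' => (cancel_mono j).1 (hl'.1.trans hly.symm)⟩
  exact IsClosedImmersion.of_isPreimmersion j j.isClosedMap.isClosed_range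

end Groth.Agent.QuotProj

end
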