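import Groth.Agent.QuotProj.Core
import Groth.Agent.QuotProj.EpiIso

/-!
The Quot scheme of a fixed Hilbert polynomial as a subscheme of a Grassmannian.
-/

set_option autoImplicit false
set_option backward.isDefEq.respectTransparency false
set_option backward.isDefEq.respectTransparency.types false
set_option linter.style.haveILetI false

universe u

open CategoryTheory CategoryTheory.Limits AlgebraicGeometry

noncomputable section

namespace Groth.Agent.QuotProj

theorem isQCoh_of_finLocFree {T : Scheme.{u}} {M : T.Modules} {r : ℕ} (h : FlatMod.IsFinLocFreeOfRank r M) :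
    Coh.IsQCoh M := LocFree.isQCoh_of_isFinLocFree fun x => (h x).imp fun U hU => ⟨r, hU⟩

/-- Changing the span of a pushout by an isomorphism. -/
theorem exists_iso_of_isPushout {C : Type*} [Category C] {A B B' E Z Z' : C} {a : A ⟶ B} {b : A ⟶ E}
    {v : B ⟶ Z} {q : E ⟶ Z} (H : IsPushout a b v q) (e : B ≅ B') {a' : A ⟶ B'} (ha : a ≫ e.hom = a')
    {v' : B' ⟶ Z'} {q' : E ⟶ Z'} (H' : IsPushout a' b v' q') : ∃ j : Z ≅ Z', q ≫ j.hom = q' := by
  have H₁ : IsPushout a' b (e.inv ≫ v) q :=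
    IsPushout.of_iso H (Iso.refl _) e (Iso.refl _) (Iso.refl _) (by simp [ha]) (by simp) (by simp) (by simp)
  exact ⟨H₁.isoIsPushout _ _ H', H₁.inr_isoIsPushout_hom _ _ H'⟩

theorem bc_congr {W Y Z : Scheme.{u}} {π : Y ⟶ Z} {h : W ⟶ Y} {g : W ⟶ Z} (hg : h ≫ π = g) {M : Z.Modules}
    {Q Q' : Y.Modules} {q : (Scheme.Modules.pullback π).obj M ⟶ Q} {q' : (Scheme.Modules.pullback π).obj M ⟶ Q'}
    (t : Q ≅ Q') (h' : q ≫ t.hom = q') :
    bc hg q ≫ ((Scheme.Modules.pullback h).mapIso t).hom = bc hg q' := by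
  rw [Functor.mapIso_hom, ← bc_comp, h']

variable {X S : Scheme.{u}} {f : X ⟶ S} {E : X.Modules} {V : S.Modules}
variable (θ : (Scheme.Modules.pullback f).obj V ⟶ E)

/-- The pushout of the universal locally free quotient along the generators. -/
def univQuo (oG : Over S) {Λ : oG.left.Modules} (s : (Scheme.Modules.pullback oG.hom).obj V ⟶ Λ) [Epi s] :
    Quo f E oG where
  F := pushout (bc (rfl : PicF.XTproj f oG ≫ oG.hom = _) s) (thT θ oG)
  q := pushout.inr _ _
  epi := haveI := epi_bc (rfl : PicF.XTproj f oG ≫ oG.hom = _) s; inferInstance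

theorem isPushout_univQuo_pull (oG : Over S) {Λ : oG.left.Modules}
    (s : (Scheme.Modules.pullback oG.hom).obj V ⟶ Λ) [Epi s] {T : Over S} (k : T ⟶ oG) :
    ∃ v, IsPushout (bc rfl (bc (Over.w k) s)) (thT θ T) v ((univQuo θ oG s).pull k).q := by
  dsimp only [thT, Quo.pull, univQuo]
  exact exists_isPushout_pull _ _ (Over.w k) (FGA.XTmap_fst f k) (pullback.lift_snd _ _ _) θ s
    (IsPushout.of_hasPushout _ _)

theorem exists_rep_of_good [IsProper f] [LocallyOfFinitePresentation f] [IsLocallyNoetherian S]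
    (hE : Coh.IsCoh E) (hV : Coh.IsQCoh V) {L : X.Modules} (hL : RelAmple.IsRelAmple f L) {r : ℕ}
    {Φ : Polynomial ℚ} {G : Scheme.{u}} [IsLocallyNoetherian G] {A : GrassQ.Pair V r G} (hA : GrassQ.IsUniv A)
    (hgood : ∀ (T : Over S) [IsLocallyNoetherian T.left] (a : Quo f E T), a.IsFam → a.HasPoly L Φ → a.Good θ r) :
    ∃ (Q : Over S) (aQ : Quo f E Q) (j : Q.left ⟶ G), IsImmersion j ∧ QuasiCompact j ∧ j ≫ A.g = Q.hom ∧
      Rep L Φ Q aQ := by
  obtain ⟨g, Λ, hΛ, s, hs⟩ := A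
  let oG : Over S := Over.mk g
  haveI : Epi s := hs
  let C := univQuo θ oG s
  haveI : IsProper (PicF.XTproj f oG) := MorphismProperty.pullback_snd _ _ inferInstance
  haveI : LocallyOfFinitePresentation (PicF.XTproj f oG) := MorphismProperty.pullback_snd _ _ inferInstance
  haveI : IsLocallyNoetherian oG.left := (inferInstance : IsLocallyNoetherian G)
  haveI : IsLocallyNoetherian (PicF.XT f oG) := isLocallyNoetherian_XT oG
  haveI := epi_bc (rfl : PicF.XTproj f oG ≫ oG.hom = _) s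
  have hC : Coh.IsCoh C.F := QC.isCoh_of_epi (isCoh_ET hE oG)
    (isQCoh_pushout _ _ (QC.isQCoh_pullback _ hV) (QC.isQCoh_pullback _ (isQCoh_of_finLocFree hΛ))
      (QC.isQCoh_pullback _ hE.1)) C.q
  have hLG : RelAmple.IsRelAmple (PicF.XTproj f oG) (FGA.ET f L oG) := TMul.isRelAmple_baseChange oG.hom hL
  have hfp : CohB1.IsFP C.F := haveI := hC.1; QC.isFP_of_isQCoh_of_isFT hC.2
  obtain ⟨W, i, hi, hiq, hilfp, -, huniv⟩ :=
    HilbFib.exists_stratum (PicF.XTproj f oG) (fun n : ℕ => Φ.eval (n : ℚ)) hLG hfp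
  have hLinv : PicF.IsInvertible L := TMul.isInvertible_of_isRelAmple hL
  have hstr : HilbFib.StratP (PicF.XTproj f oG) (FGA.ET f L oG) C.F (fun n : ℕ => Φ.eval (n : ℚ)) i :=
    (huniv W i).1 ⟨𝟙 _, Category.id_comp _⟩
  haveI : IsLocallyNoetherian W := LocallyOfFiniteType.isLocallyNoetherian i
  let Q : Over S := Over.mk (i ≫ g)
  let k₀ : Q ⟶ oG := Over.homMk i rfl
  haveI : IsLocallyNoetherian Q.left := (inferInstance : IsLocallyNoetherian W)
  refine ⟨Q, C.pull k₀, i, hi, hiq, rfl, inferInstance, ⟨C.isCoh_pull hC k₀, ?_⟩, fun t n => ?_, ?_⟩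
  · exact HilbFib.flat_of_pflat (w := 𝟙 Q.left) (g := i)
      (by rw [Category.id_comp]; exact PicFam.isPullback_XTmap f k₀) hstr.1
  · rw [Quo.hf_pull hLinv C hC.1 k₀]
    exact hstr.2 t n
  intro T _ a ha hpoly
  obtain ⟨hrank, hepi, hpo⟩ := hgood T a ha hpoly
  haveI := hepi
  let B : GrassQ.Pair V r T.left := ⟨T.hom, _, hrank, a.beta θ, hepi⟩
  obtain ⟨m, hm, huniq⟩ := hA B
  obtain ⟨hmg, e, he⟩ := (GrassQ.rel_pull_iff _ B m).1 hm
  change m ≫ g = T.hom at hmg
  let k : T ⟶ oG := Over.homMk m hmg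
  obtain ⟨v, hv⟩ := isPushout_univQuo_pull θ oG s k
  have hrel : (C.pull k).Rel a := by
    refine exists_iso_of_isPushout hv ((Scheme.Modules.pullback (PicF.XTproj f T)).mapIso e) ?_ hpo
    exact bc_congr rfl e he
  have hm' : HilbFib.StratP (PicF.XTproj f oG) (FGA.ET f L oG) C.F (fun n : ℕ => Φ.eval (n : ℚ)) m :=
    ⟨HilbFib.pflat_of_square (PicFam.isPullback_XTmap f k) (ha.of_rel hrel.symm).2, fun t n => by
      have h1 := hpoly t n
      rw [← Quo.hf_congr hrel, Quo.hf_pull hLinv C hC.1 k] at h1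
      exact h1⟩
  obtain ⟨w, hw⟩ := (huniv _ m).2 hm'
  let k' : T ⟶ Q := Over.homMk w (by rw [← hmg, ← hw]; exact (Category.assoc _ _ _).symm)
  have hk' : k' ≫ k₀ = k := Over.OverMorphism.ext hw
  refine ⟨k', (Quo.pull_pull C k' k₀).trans (by rw [hk']; exact hrel), fun g' hg' => ?_⟩
  replace hg' : ((C.pull k₀).pull g').Rel a := hg'
  have hr' : (C.pull (g' ≫ k₀)).Rel a := (Quo.pull_pull C g' k₀).symm.trans hg'
  obtain ⟨v', hv'⟩ := isPushout_univQuo_pull θ oG s (g' ≫ k₀)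
  obtain ⟨t, ht⟩ := hr'
  let sk := bc (Over.w (g' ≫ k₀)) s
  haveI : Epi sk := epi_bc (Over.w (g' ≫ k₀)) s
  have hsq : bc rfl sk ≫ (v' ≫ t.hom) = thT θ T ≫ a.q := by
    rw [← Category.assoc, hv'.w, Category.assoc, ht]
  rw [Quo.comp_beta_iff] at hsq
  let η := (Scheme.Modules.pullbackPushforwardAdjunction (PicF.XTproj f T)).homEquiv _ _ (v' ≫ t.hom)
  haveI : Epi (sk ≫ η) := by rw [show sk ≫ η = a.beta θ from hsq]; exact hepi
  haveI : Epi η := epi_of_epi sk η
  haveI : IsIso η := isIso_of_epi_rank η ((GrassQ.Pair.pull (⟨g, Λ, hΛ, s, hs⟩ : GrassQ.Pair V r G) (g' ≫ k₀).left _ rfl).rank) hrank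
  have hgm : (g' ≫ k₀).left = m := huniq _ ((GrassQ.rel_pull_iff _ B _).2 ⟨Over.w (g' ≫ k₀), asIso η, hsq⟩)
  refine Over.OverMorphism.ext ?_
  rw [← cancel_mono i]
  exact hgm.trans hw.symm

end Groth.Agent.QuotProj

end
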