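import Groth.Agent.QuotProj.Twist
import Groth.Agent.QuotProj.HilbPoly
import Groth.Agent.W7Cech.NNStatements
import Groth.Agent.W7Hull.InvDual

/-!
Quot functors of a module and of a twist are isomorphic.
-/

set_option autoImplicit false
set_option backward.isDefEq.respectTransparency false
set_option backward.isDefEq.respectTransparency.types false
set_option linter.style.haveILetI false
set_option maxHeartbeats 1000000

universe u

open CategoryTheory CategoryTheory.Limits AlgebraicGeometry TopologicalSpace Opposite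

noncomputable section

namespace Groth.Agent.QuotProj

variable {X S : Scheme.{u}} {f : X ⟶ S} {E E' : X.Modules} {T : Over S}

theorem Quo.IsFam.congr {a : Quo f E T} (h : a.IsFam) (e : E ≅ E') : (a.congr e).IsFam := h

theorem Quo.IsFam.twist [IsLocallyNoetherian T.left] [LocallyOfFiniteType f] {M : X.Modules}
    (hM : PicF.IsInvertible M) {a : Quo f E T} (h : a.IsFam) : (a.twist hM).IsFam := by
  haveI := isLocallyNoetherian_XT (f := f) T
  have hMT := PicLoc.isInvertible_pullback (pullback.fst f T.hom) hM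
  exact ⟨CohFinite.isCoh_tensor h.1 hMT,
    W7Cech.isFlatOver_tensor_invertible (PicF.XTproj f T) h.1.1 h.2 hMT⟩

/-- Twisting shifts the Hilbert function. -/
theorem Quo.hf_twist (L : X.Modules) (m : ℕ) (hLm : PicF.IsInvertible (CohB1.tensorPow L m)) (a : Quo f E T)
    (t : T.left) (k : ℕ) : (a.twist hLm).hf L t k = a.hf L t (m + k) := by
  obtain ⟨e⟩ := TMul.nonempty_pullPowIso (pullback.fst f T.hom) L m
  obtain ⟨d⟩ := TMul.nonempty_powAddIso (L := FGA.ET f L T) m k
  refine finsum_congr fun i => ?_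
  congr 2
  exact HilbFib.betti_congr _ (PicGrp.tensorModIso (tensIso (Iso.refl a.F) e.symm) (Iso.refl _) ≪≫
    TMul.assocIso _ _ _ ≪≫ PicGrp.tensorModIso (Iso.refl _) d) t i

/-- A representing pair for a twist gives one for the module. -/
theorem exists_rep_twist [IsProper f] {L : X.Modules} (hL : PicF.IsInvertible L) (m : ℕ) {Φ Φ' : Polynomial ℚ}
    (hΦ : ∀ k : ℕ, Φ'.eval (k : ℚ) = Φ.eval ((m : ℚ) + (k : ℚ))) {Q : Over S}
    {aQ : Quo f (CohB1.tensorMod E (CohB1.tensorPow L m)) Q} (h : Rep L Φ' Q aQ) :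
    ∃ a₀ : Quo f E Q, Rep L Φ Q a₀ := by
  let M := CohB1.tensorPow L m
  have hM : PicF.IsInvertible M := TMul.isInvertible_tensorPow hL m
  obtain ⟨N, hN, ⟨u⟩⟩ := W7Hull.exists_tensor_inverse hM
  let u' : CohB1.tensorMod N M ≅ Coh.structureModule X := TMul.commIso N M ≪≫ u
  let B : ∀ {T : Over S}, Quo f (CohB1.tensorMod E M) T → Quo f E T := fun b =>
    (b.twist hN).congr (untwistIso E u)
  have hBA : ∀ {T : Over S} (a : Quo f E T), (B (a.twist hM)).Rel a := fun a => Quo.untwist hM hN u a
  have hBr : ∀ {T : Over S} {b b' : Quo f (CohB1.tensorMod E M) T}, b.Rel b' → (B b).Rel (B b') :=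
    fun h => (h.twist hN).congr _
  have hinj : ∀ {T : Over S} {b b' : Quo f (CohB1.tensorMod E M) T}, (B b).Rel (B b') → b.Rel b' :=
    fun {T b b'} h => by
    have h1 := ((Quo.congr_rel_iff (untwistIso E u)).1 h).twist hM
    exact ((Quo.untwist hN hM u' b).symm.trans ((h1.congr _).trans (Quo.untwist hN hM u' b')))
  have hAB : ∀ {T : Over S} (b : Quo f (CohB1.tensorMod E M) T), ((B b).twist hM).Rel b :=
    fun b => hinj (hBA (B b))
  have hpull : ∀ {T T' : Over S} (g : T' ⟶ T) (b : Quo f (CohB1.tensorMod E M) T),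
      ((B b).pull g).Rel (B (b.pull g)) := fun g b =>
    (Quo.congr_pull _ _ g).trans ((Quo.twist_pull hN b g).congr _)
  have hfamA : ∀ {T : Over S} [IsLocallyNoetherian T.left] (a : Quo f E T), a.IsFam → (a.twist hM).IsFam :=
    fun a ha => ha.twist hM
  have hpolyA : ∀ {T : Over S} (a : Quo f E T), a.HasPoly L Φ → (a.twist hM).HasPoly L Φ' := fun a ha t k => by
    rw [Quo.hf_twist L m hM a t k, ha t (m + k), hΦ, Nat.cast_add]
  have hpolyB : ∀ {T : Over S} [IsLocallyNoetherian T.left] (a : Quo f E T), a.IsFam →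
      (a.twist hM).HasPoly L Φ' → a.HasPoly L Φ := fun {T} _ a ha h t k => by
    haveI : IsProper (PicF.XTproj f T) := MorphismProperty.pullback_snd _ _ ‹_›
    haveI := isLocallyNoetherian_XT (f := f) T
    obtain ⟨P, hP⟩ := exists_hilb_poly (PicF.XTproj f T) (PicLoc.isInvertible_pullback _ hL) ha.1 t
    have hPΦ : P = Φ := Polynomial.eq_of_infinite_eval_eq _ _ (Set.infinite_of_injective_forall_mem
      (f := fun j : ℕ => ((m + j : ℕ) : ℚ)) (fun i j hij => by simpa using hij) fun j => by
        show P.eval _ = Φ.eval _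
        rw [← hP (m + j), Nat.cast_add, ← hΦ, ← h t j, Quo.hf_twist L m hM a t j]
        rfl)
    rw [← hPΦ]
    exact hP k
  haveI := h.noeth
  refine ⟨B aQ, h.noeth, (h.fam.twist hN).congr _, hpolyB _ ((h.fam.twist hN).congr _)
    (h.poly.of_rel (hAB aQ).symm), fun T _ a ha hp => ?_⟩
  obtain ⟨g, hg, huniq⟩ := h.univ T (a.twist hM) (hfamA a ha) (hpolyA a hp)
  refine ⟨g, (hpull g aQ).trans ((hBr hg).trans (hBA a)), fun g' hg' => huniq g' ?_⟩
  exact hinj (((hpull g' aQ).symm.trans hg').trans (hBA a).symm)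

end Groth.Agent.QuotProj

end
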