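import Groth.Agent.QuotProj.ChartLoc
import Groth.Agent.QuotProj.TwistRep
import Groth.Agent.QuotProj.Rep
import Groth.Agent.QuotProj.Proper
import Groth.Agent.GrassQ.Props
import Groth.Agent.PBundle.Free
import Groth.Agent.PBundle.Local
import Groth.Agent.LinSerMap.Main
import Groth.Agent.HilbFib.ProjBase
import Groth.Agent.Conormal.Basic

/-!
Quot schemes of quotients of twisted free modules are projective.
-/

set_option autoImplicit false
set_option backward.isDefEq.respectTransparency false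
set_option backward.isDefEq.respectTransparency.types false
set_option linter.style.haveILetI false
set_option maxHeartbeats 1000000

universe u

open CategoryTheory CategoryTheory.Limits AlgebraicGeometry TopologicalSpace Opposite
open Groth.Agent.QC (res res_res res_self app_res)
open Groth.Agent.PBundle (sec')

noncomputable section

namespace Groth.Agent.QuotProj

variable {X S : Scheme.{u}} {f : X ⟶ S}

/-- A map out of the inverse image of a free module with prescribed values. -/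
theorem exists_free_theta (E : X.Modules) {M : ℕ} (s : Fin M → Γ(E, f ⁻¹ᵁ ⊤)) :
    ∃ θ : (Scheme.Modules.pullback f).obj (FlatMod.freeMod S M) ⟶ E,
      ∀ i, sec' f θ ⊤ (PBundle.bv S i) = s i := by
  obtain ⟨ψ, hψ⟩ := PBundle.exists_hom_frame (N := (Scheme.Modules.pushforward f).obj E)
    (PBundle.isFrame_bv S M) rfl s
  refine ⟨((Scheme.Modules.pullbackPushforwardAdjunction f).homEquiv _ _).symm ψ, fun i => ?_⟩
  rw [← homEquiv_app, Equiv.apply_symm_apply]
  exact hψ i

theorem tp_id_eq (M : X.Modules) (m : Γ(M, ⊤)) :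
    ((Scheme.Modules.pullbackId X).inv.app M).app ⊤ m = tp (𝟙 X) M (U := ⊤) le_rfl m := by
  rw [Conormal.pullbackId_inv_app]
  exact (res_self _ _ _).symm

theorem epi_desc_tmap {N : ℕ} {A : Fin N → X.Modules} {E M : X.Modules} (hM : PicF.IsInvertible M)
    (q : ∀ i, A i ⟶ E) [Epi (Limits.Sigma.desc q)] : Epi (Limits.Sigma.desc fun i => tmapR (q i) M) := by
  refine ⟨fun {Z} a b h => ?_⟩
  have hi : ∀ i, tmapR (q i) M ≫ a = tmapR (q i) M ≫ b := fun i => by
    simpa using congrArg (fun u => Limits.Sigma.ι (fun i => CohB1.tensorMod (A i) M) i ≫ u) h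
  haveI := W7Slope.epi_tmap hM (Limits.Sigma.desc q)
  rw [← cancel_epi (tmapR (Limits.Sigma.desc q) M)]
  refine TMul.hom_ext fun U z m => ?_
  refine sigma_sections_induction A (fun z => ∀ m : Γ(M, U), (tmapR (Limits.Sigma.desc q) M ≫ a).app U (TMul.tm z m) =
    (tmapR (Limits.Sigma.desc q) M ≫ b).app U (TMul.tm z m)) ?_ ?_ (fun i x m => ?_) z m
  · intro m; rw [TMul.zero_tm, map_zero, map_zero]
  · intro x y hx hy m; rw [TMul.tm_add, map_add, map_add, hx m, hy m]
  · have key : (tmapR (Limits.Sigma.ι A i) M ≫ tmapR (Limits.Sigma.desc q) M) = tmapR (q i) M := by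
      rw [← CohFinite.tmap_comp, colimit.ι_desc]; rfl
    have hx := congr(($(hi i)).app U (TMul.tm x m))
    rw [← key] at hx
    simp only [Scheme.Modules.Hom.comp_app, ConcreteCategory.comp_apply] at hx ⊢
    rw [CohFinite.tmap_tm] at hx
    exact hx

variable {n : ℕ} (i : X ⟶ CohB1.ProjSpaceOver n S)

/-- The pull-back of a twist along the projection to projective space over the integers. -/
def twistPullIso (d : ℤ) : (Scheme.Modules.pullback i).obj (Twist.twistOver n S d) ≅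
    (Scheme.Modules.pullback (i ≫ pullback.fst _ _)).obj (Twist.twistProjSpace n (ULift.{u} ℤ) d) :=
  (Scheme.Modules.pullbackComp i (pullback.fst _ _)).app _

/-- The chart of a closed subscheme of projective space over the whole base. -/
def topChart (hf : i ≫ CohB1.ProjSpaceOver.toBase n S = f) [IsClosedImmersion i] {E : X.Modules} {V : S.Modules}
    {θ : (Scheme.Modules.pullback f).obj V ⟶ E} {c N : ℕ}
    (π : Fin N → ((Scheme.Modules.pullback (i ≫ pullback.fst _ _)).obj
      (Twist.twistProjSpace n (ULift.{u} ℤ) (c : ℤ)) ⟶ E))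
    (hπ : Epi (Limits.Sigma.desc π)) {r : ℕ} (μ : Fin r → Γ(Twist.twistProjSpace n (ULift.{u} ℤ) (c : ℤ), ⊤))
    (hμ : TwistGen n c μ)
    (hyp : ∀ k l, ∃ v : Γ(V, ⊤),
      (π k).app ⊤ (tp (i ≫ pullback.fst _ _) _ (U := ⊤) le_rfl (μ l)) = sec' f θ ⊤ v) :
    ChartData θ ((Scheme.Modules.pullback i).obj (Twist.twistOver n S 1)) n c N where
  U := ⊤
  X' := X
  j := 𝟙 X
  f' := f ≫ S.topIso.inv
  sq :=
    haveI : IsIso (⊤ : S.Opens).ι := inferInstanceAs (IsIso S.topIso.hom)
    IsPullback.of_horiz_isIso ⟨by simp [Scheme.topIso_hom]⟩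
  κ := i ≫ pullback.fst _ _
  closed := by
    have h : (pullback.lift (i ≫ pullback.fst _ _) (f ≫ S.topIso.inv) (specULiftZIsTerminal.hom_ext _ _) :
        X ⟶ CohB1.ProjSpaceOver n (⊤ : S.Opens).toScheme) = i ≫ KRR.projSpaceMap n S.topIso.inv := by
      apply pullback.hom_ext
      · rw [pullback.lift_fst, Category.assoc, PnReg.map_fst]
      · rw [pullback.lift_snd, Category.assoc,
          show KRR.projSpaceMap n S.topIso.inv ≫ pullback.snd _ _ = pullback.snd _ _ ≫ S.topIso.inv from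
            pullback.lift_snd _ _ _, ← Category.assoc]
        exact congrArg (· ≫ S.topIso.inv) hf.symm
    rw [h]
    haveI : IsIso (KRR.projSpaceMap n S.topIso.inv) :=
      MorphismProperty.of_isPullback (P := MorphismProperty.isomorphisms Scheme)
        (PnReg.isPullback_map (n := n) S.topIso.inv).flip (inferInstanceAs (IsIso S.topIso.inv))
    infer_instance
  eL := (Scheme.Modules.pullbackId X).app _ ≪≫ twistPullIso i 1
  π := fun k => π k ≫ (Scheme.Modules.pullbackId X).inv.app E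
  epi := by
    have h : Limits.Sigma.desc (fun k => π k ≫ (Scheme.Modules.pullbackId X).inv.app E) =
        Limits.Sigma.desc π ≫ (Scheme.Modules.pullbackId X).inv.app E := Sigma.hom_ext _ _ fun k => by simp
    rw [h]
    exact epi_comp _ _
  m := r
  μ := μ
  gen := hμ
  le := fun _ _ => trivial
  hyp := fun k l => by
    obtain ⟨v, hv⟩ := hyp k l
    refine ⟨v, ?_⟩
    rw [Scheme.Modules.Hom.comp_app, ConcreteCategory.comp_apply, hv]
    exact tp_id_eq E _

/-- Generators of a free module for a chart over the whole base. -/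
theorem exists_free_chart (hf : i ≫ CohB1.ProjSpaceOver.toBase n S = f) [IsClosedImmersion i] {E : X.Modules}
    {c N : ℕ} (π : Fin N → ((Scheme.Modules.pullback (i ≫ pullback.fst _ _)).obj
      (Twist.twistProjSpace n (ULift.{u} ℤ) (c : ℤ)) ⟶ E))
    (hπ : Epi (Limits.Sigma.desc π)) (r : ℕ) :
    ∃ (θ : (Scheme.Modules.pullback f).obj (FlatMod.freeMod S (N * (n + c).choose c + r)) ⟶ E)
      (D : ChartData θ ((Scheme.Modules.pullback i).obj (Twist.twistOver n S 1)) n c N), D.U = ⊤ := by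
  obtain ⟨μ, hμ⟩ := exists_twist_gen.{u} n c
  let e := finProdFinEquiv (m := N) (n := (n + c).choose c)
  let s : Fin (N * (n + c).choose c + r) → Γ(E, f ⁻¹ᵁ ⊤) := fun x =>
    Fin.addCases (fun y => (π (e.symm y).1).app ⊤ (tp (i ≫ pullback.fst _ _) _ (U := ⊤) le_rfl (μ (e.symm y).2)))
      (fun _ => 0) x
  obtain ⟨θ, hθ⟩ := exists_free_theta (f := f) E s
  exact ⟨θ, topChart i hf π hπ μ hμ fun k l => ⟨PBundle.bv S (Fin.castAdd r (e (k, l))), by
    rw [hθ]; simp [s]⟩, rfl⟩

/-- The Grassmannian of a free module is closed in a projective space. -/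
theorem exists_grass_free (S : Scheme.{u}) {N r : ℕ} (hr : r ≤ N) :
    ∃ (G : Scheme.{u}) (A : GrassQ.Pair (FlatMod.freeMod S N) r G), GrassQ.IsUniv A ∧ IsProper A.g ∧
      ∃ (R : ℕ) (ι : G ⟶ CohB1.ProjSpaceOver R S), IsClosedImmersion ι ∧
        ι ≫ CohB1.ProjSpaceOver.toBase R S = A.g := by
  have hE := LinSerMap.isFinLocFreeOfRank_freeMod S N
  have hq := GrassQ.isQCoh_of_rank hE
  obtain ⟨G, g, Q, q, hG⟩ := GrassQ.exists_isGrass hq
  let A : GrassQ.Pair (FlatMod.freeMod S N) r G := ⟨g, Q, hG.rank, q, hG.epi⟩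
  have hA : GrassQ.IsUniv A := GrassQ.isUniv_of_isGrass hG
  refine ⟨G, A, hA, hA.isProper hE hr, ?_⟩
  obtain ⟨φ, hφ⟩ := SGA6Ext.isExtPow_extSh (FlatMod.freeMod S N) r (fun x => (hE x).imp fun U hU => ⟨N, hU⟩)
  obtain ⟨m, hm⟩ : ∃ m, N.choose r = m + 1 :=
    ⟨N.choose r - 1, (Nat.succ_pred_eq_of_pos (Nat.choose_pos hr)).symm⟩
  obtain ⟨b, hb⟩ := SGA6Ext.exists_frame_extSh (FlatMod.freeMod S N) r (PBundle.isFrame_bv S N)
  obtain ⟨δ⟩ : Nonempty (SGA6Ext.extSh (FlatMod.freeMod S N) r ≅ FlatMod.freeMod S (m + 1)) := by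
    obtain ⟨ψ, hψ⟩ := PBundle.exists_hom_frame (N := FlatMod.freeMod S (N.choose r)) hb rfl (PBundle.bv S)
    obtain ⟨χ, hχ⟩ := PBundle.exists_hom_frame (N := SGA6Ext.extSh (FlatMod.freeMod S N) r)
      (PBundle.isFrame_bv S (N.choose r)) rfl b
    rw [← hm]
    exact ⟨⟨ψ, χ, PBundle.hom_ext_frame hb rfl fun j => by
        show χ.app ⊤ (ψ.app ⊤ (b j)) = b j
        rw [hψ, hχ], PBundle.hom_ext_frame (PBundle.isFrame_bv S _) rfl fun j => by
        show ψ.app ⊤ (χ.app ⊤ (PBundle.bv S j)) = PBundle.bv S j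
        rw [hχ, hψ]⟩⟩
  have hP := PBundle.of_moduleIso (PBundle.isProjBundle_free m S) δ
  let O : GrassQ.Pair (SGA6Ext.extSh (FlatMod.freeMod S N) r) 1 (CohB1.ProjSpaceOver m S) :=
    ⟨CohB1.ProjSpaceOver.toBase m S, _, hP.invertible, _, hP.epi⟩
  have hO : GrassQ.IsUniv O := GrassQ.isUniv_of_isGrass (Grass.IsGrass.of_isProjBundle hP)
  haveI : IsProper (CohB1.ProjSpaceOver.toBase m S) := HQProj.isProper_toBase m S
  haveI : IsSeparated O.g := (inferInstance : IsSeparated (CohB1.ProjSpaceOver.toBase m S))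
  have hqL : Coh.IsQCoh (SGA6Ext.extSh (FlatMod.freeMod S N) r) :=
    QC.isQCoh_of_iso δ.symm (GrassQ.isQCoh_of_rank (LinSerMap.isFinLocFreeOfRank_freeMod S (m + 1)))
  obtain ⟨ι, hι, hιg⟩ := GrassQ.exists_closedImmersion_plucker φ hφ hA hq hqL hO
  exact ⟨m, ι, hι, hιg⟩

/-- Quot schemes with given Hilbert polynomial of quotients of sums of one twist are projective. -/
theorem exists_quot_free [IsNoetherian S] {n : ℕ} (i : X ⟶ CohB1.ProjSpaceOver n S) [IsClosedImmersion i]
    {E : X.Modules} (hE : Coh.IsCoh E) (p : ℕ) (ν : ℤ)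
    (q : (∐ fun _ : Fin p => (Scheme.Modules.pullback i).obj (Twist.twistOver n S ν)) ⟶ E) [Epi q]
    (Φ : Polynomial ℚ) :
    ∃ (Q : Over S) (aQ : Quo (i ≫ CohB1.ProjSpaceOver.toBase n S) E Q),
      Rep ((Scheme.Modules.pullback i).obj (Twist.twistOver n S 1)) Φ Q aQ ∧
      ∃ (R : ℕ) (c : Q.left ⟶ CohB1.ProjSpaceOver R S),
        IsClosedImmersion c ∧ c ≫ CohB1.ProjSpaceOver.toBase R S = Q.hom := by
  let f := i ≫ CohB1.ProjSpaceOver.toBase n S
  let L := (Scheme.Modules.pullback i).obj (Twist.twistOver n S 1)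
  haveI : IsProper (CohB1.ProjSpaceOver.toBase n S) := HQProj.isProper_toBase n S
  haveI : IsProper f := inferInstanceAs (IsProper (i ≫ _))
  haveI : LocallyOfFinitePresentation f := inferInstance
  haveI : IsLocallyNoetherian X := LocallyOfFiniteType.isLocallyNoetherian f
  have hLa : RelAmple.IsRelAmple f L :=
    TMul.isRelAmple_pullback_of_isInducing i i.isEmbedding.isInducing (HilbFib.isRelAmple_twistOver n S)
  have hL : PicF.IsInvertible L := PicLoc.isInvertible_pullback i (PicFam.isInvertible_twistOver n S 1)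
  obtain ⟨m₀, hm₀⟩ := exists_chart_bound.{u} n p (Φ.comp (Polynomial.X - Polynomial.C (ν : ℚ)))
  let P₀ := Φ.comp (Polynomial.X - Polynomial.C (ν : ℚ))
  let m : ℕ := m₀ + ν.natAbs
  obtain ⟨c, hc⟩ : ∃ c : ℕ, (c : ℤ) = ν + m := ⟨(ν + m).toNat, Int.toNat_of_nonneg (by omega)⟩
  have hcm : m₀ ≤ c := by omega
  let Φ' := Φ.comp (Polynomial.X + Polynomial.C (m : ℚ))
  have hM : PicF.IsInvertible (CohB1.tensorPow L m) := TMul.isInvertible_tensorPow hL m
  let E' := CohB1.tensorMod E (CohB1.tensorPow L m)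
  have hE' : Coh.IsCoh E' := CohFinite.isCoh_tensor hE hM
  -- the presentation of the twist
  let κ := i ≫ pullback.fst (CohB1.ProjSpace.toSpec n (ULift.{u} ℤ)) (specULiftZIsTerminal.from S)
  obtain ⟨w⟩ : Nonempty ((Scheme.Modules.pullback κ).obj (Twist.twistProjSpace n (ULift.{u} ℤ) (c : ℤ)) ≅
      CohB1.tensorMod ((Scheme.Modules.pullback i).obj (Twist.twistOver n S ν)) (CohB1.tensorPow L m)) := by
    obtain ⟨a⟩ := TMul.nonempty_pullPowIso i (Twist.twistOver n S 1) m
    obtain ⟨b⟩ := W7Hull.nonempty_twistOver_pow n S m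
    obtain ⟨d⟩ := PBundle.nonempty_twistOver_add (r := n) (Y := S) ν (m : ℤ) (c : ℤ) hc.symm
    obtain ⟨e⟩ := TMul.nonempty_pullTensorIso i (Twist.twistOver n S ν) (CohB1.tensorPow (Twist.twistOver n S 1) m)
    exact ⟨(twistPullIso i (c : ℤ)).symm ≪≫ (Scheme.Modules.pullback i).mapIso
      (d.symm ≪≫ PicGrp.tensorModIso (Iso.refl _) b) ≪≫ e.symm ≪≫ PicGrp.tensorModIso (Iso.refl _) a.symm⟩
  let qk : Fin p → ((Scheme.Modules.pullback i).obj (Twist.twistOver n S ν) ⟶ E) := fun k =>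
    Limits.Sigma.ι (fun _ : Fin p => (Scheme.Modules.pullback i).obj (Twist.twistOver n S ν)) k ≫ q
  haveI : Epi (Limits.Sigma.desc qk) := by
    rw [show Limits.Sigma.desc qk = q from Sigma.hom_ext _ _ fun k => by simp [qk]]; infer_instance
  haveI := epi_desc_tmap hM qk
  let π : Fin p → ((Scheme.Modules.pullback κ).obj (Twist.twistProjSpace n (ULift.{u} ℤ) (c : ℤ)) ⟶ E') :=
    fun k => w.hom ≫ tmapR (qk k) _
  have hπ : Epi (Limits.Sigma.desc π) := ⟨fun {Z} a b h => by
    rw [← cancel_epi (Limits.Sigma.desc fun k => tmapR (qk k) (CohB1.tensorPow L m))]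
    refine Sigma.hom_ext _ _ fun k => ?_
    have h2 := congrArg (fun u => Limits.Sigma.ι (fun _ : Fin p => (Scheme.Modules.pullback κ).obj
      (Twist.twistProjSpace n (ULift.{u} ℤ) (c : ℤ))) k ≫ u) h
    simpa [π] using h2⟩
  let r := ⌊P₀.eval (c : ℚ)⌋.toNat
  obtain ⟨θ, D, hD⟩ := exists_free_chart (f := f) i rfl π hπ r
  obtain ⟨G, A, hA, hproper, R, ι, hι, hιg⟩ :=
    exists_grass_free S (N := p * (n + c).choose c + r) (r := r) (Nat.le_add_left _ _)
  haveI := hproper
  haveI : IsLocallyNoetherian G := LocallyOfFiniteType.isLocallyNoetherian A.g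
  have hV : Coh.IsQCoh (FlatMod.freeMod S (p * (n + c).choose c + r)) :=
    GrassQ.isQCoh_of_rank (LinSerMap.isFinLocFreeOfRank_freeMod S _)
  obtain ⟨Q, aQ, j, hj, hjq, hjg, hrep⟩ := exists_rep_of_good θ hE' hV hLa (Φ := Φ') hA (fun T _ a ha hp => by
    refine Quo.good_of_loc θ a ha.1.1 hV fun t => ?_
    obtain ⟨O, hO, htO, -⟩ := exists_isAffineOpen_mem_and_subset (X := T.left) (x := t) (U := ⊤) trivial
    have hle : O ≤ T.hom ⁻¹ᵁ D.U := fun x _ => by rw [hD]; trivial
    refine ⟨D.U, O, hle, hO, htO, hm₀ hL c hcm D T a ha Φ' (fun k => ?_) hp O hle hO⟩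
    have h2 : ((c : ℤ) : ℚ) = (ν : ℚ) + (m : ℚ) := by rw [hc]; push_cast; ring
    rw [Int.cast_natCast] at h2
    simp only [Φ', Polynomial.eval_comp, Polynomial.eval_add, Polynomial.eval_sub, Polynomial.eval_X,
      Polynomial.eval_C, h2]
    ring_nf)
  haveI := hj
  haveI := hjq
  haveI := hrep.isClosedImmersion hE' hL A.g j hjg
  obtain ⟨a₀, h₀⟩ := exists_rep_twist hL m (Φ := Φ) (fun k => by
    simp only [Φ', Polynomial.eval_comp, Polynomial.eval_add, Polynomial.eval_X, Polynomial.eval_C, add_comm]) hrep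
  exact ⟨Q, a₀, h₀, R, j ≫ ι, inferInstance, by rw [Category.assoc, hιg, hjg]⟩

end Groth.Agent.QuotProj

end
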