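import Groth.Agent.QuotProj.Sect
import Groth.Agent.GrassQ.Glue

/-!
Local verification that a quotient is recovered from its direct image.
-/

set_option autoImplicit false
set_option backward.isDefEq.respectTransparency false
set_option backward.isDefEq.respectTransparency.types false
set_option linter.style.haveILetI false

universe u

open CategoryTheory CategoryTheory.Limits AlgebraicGeometry TopologicalSpace Opposite
open Groth.Agent.QC (res res_res res_self app_res)

noncomputable section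

namespace Groth.Agent.QuotProj

variable {X S : Scheme.{u}} {f : X ⟶ S} {E : X.Modules} {V : S.Modules}
variable (θ : (Scheme.Modules.pullback f).obj V ⟶ E)

/-- The map to the direct image attached to a map out of the base change. -/
def betaOf {T : Over S} {M : (PicF.XT f T).Modules} (ψ : FGA.ET f E T ⟶ M) :
    (Scheme.Modules.pullback T.hom).obj V ⟶ (Scheme.Modules.pushforward (PicF.XTproj f T)).obj M :=
  (Scheme.Modules.pullbackPushforwardAdjunction (PicF.XTproj f T)).homEquiv _ _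
    ((Scheme.Modules.pullbackComp (PicF.XTproj f T) T.hom).hom.app V ≫ thT θ T ≫ ψ)

theorem beta_eq_betaOf {T : Over S} (a : Quo f E T) : a.beta θ = betaOf θ a.q := rfl

theorem betaOf_app {T : Over S} {M : (PicF.XT f T).Modules} (ψ : FGA.ET f E T ⟶ M) (U : S.Opens) (v : Γ(V, U))
    {O : T.left.Opens} (hO : O ≤ T.hom ⁻¹ᵁ U) :
    (betaOf θ ψ).app O (res _ hO (OmegaSh.pullSect T.hom V U v)) =
      res M ((PicF.XTproj f T).preimage_mono hO) (ψ.app ((PicF.XTproj f T ≫ T.hom) ⁻¹ᵁ U) (genSec θ T U v)) := by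
  rw [← app_res, betaOf, homEquiv_thT_app]
  rfl

/-- The local conditions. -/
structure Quo.Loc {T : Over S} (r : ℕ) (a : Quo f E T) (U : S.Opens) (O : T.left.Opens)
    (hO : O ≤ T.hom ⁻¹ᵁ U) : Prop where
  rank : FlatMod.IsFinLocFreeOfRank r
    ((Scheme.Modules.pullback O.ι).obj ((Scheme.Modules.pushforward (PicF.XTproj f T)).obj a.F))
  gen : Submodule.span Γ(T.left, O) (Set.range fun v : Γ(V, U) =>
    (betaOf θ a.q).app O (res _ hO (OmegaSh.pullSect T.hom V U v))) = ⊤
  ker : ∀ {Z : (PicF.XT f T).Modules} (ψ : FGA.ET f E T ⟶ Z)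
    (û : (Scheme.Modules.pushforward (PicF.XTproj f T)).obj a.F ⟶
      (Scheme.Modules.pushforward (PicF.XTproj f T)).obj Z),
    a.beta θ ≫ û = betaOf θ ψ →
      (Scheme.Modules.pullback (PicF.XTproj f T ⁻¹ᵁ O).ι).map (kernel.ι a.q ≫ ψ) = 0

theorem eq_zero_of_cover {Y : Scheme.{u}} {K M : Y.Modules} (χ : K ⟶ M)
    (h : ∀ y : Y, ∃ W : Y.Opens, y ∈ W ∧ (Scheme.Modules.pullback W.ι).map χ = 0) : χ = 0 := by
  refine Scheme.Modules.hom_ext _ _ fun U => ?_
  ext t
  refine QC.section_eq_of_locally fun x hx => ?_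
  obtain ⟨W, hxW, hW⟩ := h x
  let α := Scheme.Modules.restrictFunctorIsoPullback W.ι
  have h0 : (Scheme.Modules.restrictFunctor W.ι).map χ = 0 := by
    rw [← cancel_mono (α.hom.app M), α.hom.naturality, hW, comp_zero, zero_comp]
  have h1 : χ.app (W.ι ''ᵁ (W.ι ⁻¹ᵁ U)) = 0 := congr(($h0).app (W.ι ⁻¹ᵁ U))
  refine ⟨W.ι ''ᵁ (W.ι ⁻¹ᵁ U), W.ι.image_preimage_le U, ⟨⟨x, hxW⟩, hx, rfl⟩, ?_⟩
  rw [app_res, app_res]
  exact congr($h1 _)

theorem Quo.good_of_loc [IsProper f] {T : Over S} {r : ℕ} (a : Quo f E T) (ha : Coh.IsQCoh a.F)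
    (hV : Coh.IsQCoh V)
    (h : ∀ t : T.left, ∃ (U : S.Opens) (O : T.left.Opens) (hO : O ≤ T.hom ⁻¹ᵁ U),
      IsAffineOpen O ∧ t ∈ O ∧ a.Loc θ r U O hO) : a.Good θ r := by
  let p := PicF.XTproj f T
  haveI : IsProper p := MorphismProperty.pullback_snd _ _ ‹_›
  have hP : Coh.IsQCoh ((Scheme.Modules.pushforward p).obj a.F) :=
    QC.isQCoh_pushforward (M := a.F) p
  choose U O hO hOa htO hloc using h
  have hepi : Epi (a.beta θ) := by
    refine Abelian.epi_of_cokernel_π_eq_zero _ ?_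
    have hC : Coh.IsQCoh (cokernel (a.beta θ)) := QC.isQCoh_cokernel (QC.isQCoh_pullback _ hV) hP _
    refine (CohFinite.isZero_of_affine_cover _ hC O hOa (fun t => ⟨t, htO t⟩) fun t y => ?_).eq_of_tgt _ _
    obtain ⟨x, rfl⟩ := QC.app_surjective_of_epi (hOa t) hP hC (cokernel.π (a.beta θ)) y
    have hx : x ∈ Submodule.span _ _ := (hloc t).gen.ge (Submodule.mem_top (x := x))
    induction hx using Submodule.span_induction with
    | mem z hz =>
      obtain ⟨v, rfl⟩ := hz
      exact congr(($(cokernel.condition (a.beta θ))).app (O t)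
        (res _ (hO t) (OmegaSh.pullSect T.hom V (U t) v)))
    | zero => rw [map_zero]
    | add z w _ _ hz hw => rw [map_add, hz, hw, add_zero]
    | smul c z _ hz => rw [Scheme.Modules.Hom.app_smul, hz, smul_zero]
  haveI := hepi
  refine ⟨fun t => ?_, hepi, ?_⟩
  · exact GrassQ.exists_nhd_of_pullback_open (O t).ι _ (hloc t).rank ⟨t, htO t⟩
  let adj := Scheme.Modules.pullbackPushforwardAdjunction p
  have hw : bc rfl (a.beta θ) ≫ adj.counit.app a.F = thT θ T ≫ a.q := by
    rw [Quo.comp_beta_iff, Adjunction.homEquiv_unit, adj.right_triangle_components, Category.comp_id]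
  haveI : Epi (bc (rfl : p ≫ T.hom = _) (a.beta θ)) := epi_bc _ _
  have hk : ∀ s : PushoutCocone (bc (rfl : p ≫ T.hom = _) (a.beta θ)) (thT θ T),
      kernel.ι a.q ≫ s.inr = 0 := fun s => eq_zero_of_cover _ fun y =>
    ⟨p ⁻¹ᵁ O (p y), htO (p y), (hloc (p y)).ker s.inr (adj.homEquiv _ _ s.inl) (by
      exact (bc_rfl_comp_iff (a.beta θ) s.inl (thT θ T ≫ s.inr)).1 s.condition)⟩
  refine IsPushout.of_isColimit' ⟨hw⟩ (PushoutCocone.IsColimit.mk _
    (fun s => Abelian.epiDesc a.q s.inr (hk s))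
    (fun s => ?_) (fun s => Abelian.comp_epiDesc _ _ _) (fun s m _ h2 => ?_))
  · rw [← cancel_epi (bc (rfl : p ≫ T.hom = _) (a.beta θ)), reassoc_of% hw, Abelian.comp_epiDesc, s.condition]
  · rw [← cancel_epi a.q, Abelian.comp_epiDesc, h2]

end Groth.Agent.QuotProj

end
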