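import Groth.Agent.QuotProj.Sect
import Groth.Agent.GrassQ.Glue
import Groth.Agent.PnReg.BaseChange
import Groth.Agent.PnReg.KTwist
import Groth.Agent.PnReg.PushTwistZ

/-!
Sections of a twist on the projective space over an affine scheme are combinations of the sections defined over the
integers.
-/

set_option autoImplicit false
set_option backward.isDefEq.respectTransparency false
set_option backward.isDefEq.respectTransparency.types false
set_option linter.style.haveILetI false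
set_option maxHeartbeats 1000000

universe u

open CategoryTheory CategoryTheory.Limits AlgebraicGeometry TopologicalSpace Opposite
open Groth.Agent.QC (res res_res res_self app_res)
open Groth.Agent.PBundle (sec')

noncomputable section

namespace Groth.Agent.QuotProj

variable {n : ℕ}

theorem bcMap_app_pullSect {Y Y₁ : Scheme.{u}} (φ : Y₁ ⟶ Y)
    (hsq : KRR.projSpaceMap n φ ≫ KRR.pr n Y = KRR.pr n Y₁ ≫ φ) (F : (KRR.PY n Y).Modules)
    (s : Γ((Scheme.Modules.pushforward (KRR.pr n Y)).obj F, ⊤)) :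
    (KRR.bcMap n φ hsq F).app ⊤
        (OmegaSh.pullSect φ ((Scheme.Modules.pushforward (KRR.pr n Y)).obj F) ⊤ s) =
      OmegaSh.pullSect (KRR.projSpaceMap n φ) F ⊤ s := by
  let adj := Scheme.Modules.pullbackPushforwardAdjunction (KRR.pr n Y)
  have hb : KRR.bcMap n φ hsq F = (Scheme.Modules.pullbackPushforwardAdjunction (KRR.pr n Y₁)).homEquiv _ _
      ((Scheme.Modules.pullbackComp (KRR.pr n Y₁) φ).hom.app _ ≫ bc hsq (adj.counit.app F)) := by
    simp [KRR.bcMap, bc, Grass.quotBC, Scheme.Modules.pullbackCongr, adj]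
  rw [hb]
  refine (homEquiv_app _ _ _ _).trans ?_
  refine (sec'_pullbackComp (KRR.pr n Y₁) φ _ ⊤ s).trans ?_
  rw [sec'_bc]
  have h : sec' (KRR.pr n Y) (adj.counit.app F) ⊤ s = s :=
    (homEquiv_app (KRR.pr n Y) (adj.counit.app F) ⊤ s).symm.trans (by
      rw [Adjunction.homEquiv_unit, adj.right_triangle_components]
      rfl)
  rw [h]
  exact res_self _ _ _

/-- Finitely many sections over the integers generate the sections of a non-negative twist over an affine base. -/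
theorem exists_twist_gen (n c : ℕ) :
    ∃ μ : Fin ((n + c).choose c) → Γ(Twist.twistProjSpace n (ULift.{u} ℤ) (c : ℤ), ⊤),
      ∀ (T : Scheme.{u}) [IsAffine T] (P : Γ(Twist.twistOver n T (c : ℤ), ⊤) → Prop), P 0 →
        (∀ a b, P a → P b → P (a + b)) →
        (∀ (r : Γ(T, ⊤)) a, P a → P (((CohB1.ProjSpaceOver.toBase n T).appTop r) • a)) →
        (∀ i, P (OmegaSh.pullSect
          (pullback.fst (CohB1.ProjSpace.toSpec n (ULift.{u} ℤ)) (specULiftZIsTerminal.from T))
          (Twist.twistProjSpace n (ULift.{u} ℤ) (c : ℤ)) ⊤ (μ i))) → ∀ z, P z := by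
  classical
  let T₀ : Scheme.{u} := Spec (CommRingCat.of (ULift.{u} ℤ))
  let r := (n + c).choose c
  let F := Twist.twistOver n T₀ (c : ℤ)
  obtain ⟨e⟩ := PnReg.nonempty_push_twist_specZ.{u} n c
  let s : Fin r → Γ((Scheme.Modules.pushforward (KRR.pr n T₀)).obj F, ⊤) := fun i =>
    e.inv.app ⊤ (PBundle.bv T₀ i)
  let fst₀ := pullback.fst (CohB1.ProjSpace.toSpec n (ULift.{u} ℤ)) (specULiftZIsTerminal.from T₀)
  haveI hiso : IsIso (specULiftZIsTerminal.from T₀) := by
    rw [specULiftZIsTerminal.hom_ext (specULiftZIsTerminal.from T₀) (𝟙 _)]; infer_instance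
  haveI : IsIso fst₀ := inferInstance
  have hbij : Function.Bijective (OmegaSh.pullSect fst₀ (Twist.twistProjSpace n (ULift.{u} ℤ) (c : ℤ)) ⊤) :=
    GrassQ.bijective_pullSect_open fst₀ _ ⊤ (by
      rw [Scheme.Hom.image_preimage_eq_opensRange_inf, inf_top_eq, Scheme.Hom.opensRange_of_isIso])
  let μ : Fin r → Γ(Twist.twistProjSpace n (ULift.{u} ℤ) (c : ℤ), ⊤) := fun i => (hbij.2 (s i)).choose
  have hμ : ∀ i, OmegaSh.pullSect fst₀ _ ⊤ (μ i) = s i := fun i => (hbij.2 (s i)).choose_spec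
  refine ⟨μ, fun T _ P h0 hadd hsmul hgen z => ?_⟩
  let φ : T ⟶ T₀ := specULiftZIsTerminal.from T
  let ψ := KRR.projSpaceMap n φ
  have hF : PnReg.regP n T₀ F :=
    ⟨ResDesc.isFinLocFree_of_isInvertible (PicFam.isInvertible_twistOver n T₀ (c : ℤ)),
      PnReg.isRegSheaf_of_iso (PnReg.twUnitIso (c : ℤ)) (PnReg.regP_twF_unit c).2⟩
  have hsq : ψ ≫ KRR.pr n T₀ = KRR.pr n T ≫ φ := (PnReg.isPullback_map φ).w
  haveI := PnReg.isIso_bcMap φ hF.1 hF.2 hsq
  let j : (Scheme.Modules.pullback ψ).obj F ≅ Twist.twistOver n T (c : ℤ) :=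
    (Scheme.Modules.pullbackComp _ _).app _ ≪≫ (Scheme.Modules.pullbackCongr (PnReg.map_fst φ)).app _
  let Θ : (Scheme.Modules.pullback φ).obj ((Scheme.Modules.pushforward (KRR.pr n T₀)).obj F) ⟶
      (Scheme.Modules.pushforward (KRR.pr n T)).obj (Twist.twistOver n T (c : ℤ)) :=
    KRR.bcMap n φ hsq F ≫ (Scheme.Modules.pushforward (KRR.pr n T)).map j.hom
  haveI : IsIso Θ := inferInstance
  haveI := (PnReg.isQCoh_of_finLocFree hF.1 : Coh.IsQCoh F)
  haveI : IsProper (KRR.pr n T₀) := HQProj.isProper_toBase n T₀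
  have hΘ : ∀ i, Θ.app ⊤ (OmegaSh.pullSect φ _ ⊤ (s i)) =
      OmegaSh.pullSect (pullback.fst (CohB1.ProjSpace.toSpec n (ULift.{u} ℤ)) (specULiftZIsTerminal.from T))
        (Twist.twistProjSpace n (ULift.{u} ℤ) (c : ℤ)) ⊤ (μ i) := fun i => by
    have h1 : (KRR.bcMap n φ hsq F).app ⊤ (OmegaSh.pullSect φ _ ⊤ (s i)) = OmegaSh.pullSect ψ F ⊤ (s i) :=
      bcMap_app_pullSect φ hsq F (s i)
    have h2 := QC.pullbackComp_hom_pullSect ψ fst₀ (Twist.twistProjSpace n (ULift.{u} ℤ) (c : ℤ)) ⊤ (μ i)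
    rw [hμ] at h2
    refine (congrArg (j.hom.app ⊤) h1).trans ?_
    refine (congrArg (((Scheme.Modules.pullbackCongr (PnReg.map_fst φ)).hom.app _).app ⊤) h2).trans ?_
    exact (sec'_pullbackCongr (PnReg.map_fst φ) (𝟙 _) ⊤ (μ i)).trans (res_self _ _ _)
  obtain ⟨y, rfl⟩ := (ConcreteCategory.bijective_of_isIso (Θ.app ⊤)).2 z
  have hy : y ∈ Submodule.span Γ(T, ⊤) (Set.range
      (RelTilde.resθ φ ((Scheme.Modules.pullbackPushforwardAdjunction φ).unit.app
        ((Scheme.Modules.pushforward (KRR.pr n T₀)).obj F)) (le_rfl : (⊤ : T.Opens) ≤ φ ⁻¹ᵁ ⊤))) :=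
    (GrassQ.span_resθ_eq_top (g := φ) (QC.isQCoh_pushforward (M := F) (KRR.pr n T₀))
      (isAffineOpen_top T₀) (isAffineOpen_top T) le_rfl).ge Submodule.mem_top
  induction hy using Submodule.span_induction with
  | zero => rw [map_zero]; exact h0
  | add a b _ _ ha hb => rw [map_add]; exact hadd _ _ ha hb
  | smul b a _ ha =>
    rw [Scheme.Modules.Hom.app_smul]
    exact hsmul b _ ha
  | mem a ha =>
    obtain ⟨m, rfl⟩ := ha
    obtain ⟨co, hco⟩ := (PBundle.isFrame_bv T₀ r).comb_surjective le_rfl (e.hom.app ⊤ m)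
    have hm : m = ∑ i, co i • s i := by
      have h1 := congrArg (e.inv.app ⊤) hco
      rw [map_sum] at h1
      simp only [Scheme.Modules.Hom.app_smul, res_self] at h1
      rw [show e.inv.app ⊤ (e.hom.app ⊤ m) = m from congr(($(e.hom_inv_id)).app ⊤ m)] at h1
      exact h1.symm
    have hres : RelTilde.resθ φ ((Scheme.Modules.pullbackPushforwardAdjunction φ).unit.app
        ((Scheme.Modules.pushforward (KRR.pr n T₀)).obj F)) (le_rfl : (⊤ : T.Opens) ≤ φ ⁻¹ᵁ ⊤) m =
        OmegaSh.pullSect φ _ ⊤ m := res_self _ _ _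
    rw [hres, hm, map_sum, map_sum]
    refine Finset.sum_induction _ P hadd h0 fun i _ => ?_
    rw [OmegaSh.pullSect_smul, Scheme.Modules.Hom.app_smul]
    exact hsmul _ _ ((hΘ i).symm ▸ hgen i)

end Groth.Agent.QuotProj

end
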