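import Groth.Agent.QuotProj.Tp
import Groth.Agent.QuotProj.Span
import Groth.Agent.QuotProj.Good
import Groth.Agent.QuotProj.Closed

/-!
A projective chart of a family and the maps to the direct images it induces.
-/

set_option autoImplicit false
set_option backward.isDefEq.respectTransparency false
set_option backward.isDefEq.respectTransparency.types false
set_option linter.style.haveILetI false
set_option maxHeartbeats 1000000

universe u

open CategoryTheory CategoryTheory.Limits AlgebraicGeometry TopologicalSpace Opposite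
open Groth.Agent.QC (res res_res res_self app_res)
open Groth.Agent.PBundle (sec')

noncomputable section

namespace Groth.Agent.QuotProj

/-- Sections over the integers generating the twist over every affine base. -/
def TwistGen (n c : ℕ) {r : ℕ} (μ : Fin r → Γ(Twist.twistProjSpace n (ULift.{u} ℤ) (c : ℤ), ⊤)) : Prop :=
  ∀ (T : Scheme.{u}) [IsAffine T] (P : Γ(Twist.twistOver n T (c : ℤ), ⊤) → Prop), P 0 →
    (∀ a b, P a → P b → P (a + b)) →
    (∀ (r : Γ(T, ⊤)) a, P a → P (((CohB1.ProjSpaceOver.toBase n T).appTop r) • a)) →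
    (∀ i, P (OmegaSh.pullSect
      (pullback.fst (CohB1.ProjSpace.toSpec n (ULift.{u} ℤ)) (specULiftZIsTerminal.from T))
      (Twist.twistProjSpace n (ULift.{u} ℤ) (c : ℤ)) ⊤ (μ i))) → ∀ z, P z

variable {X S : Scheme.{u}} {f : X ⟶ S} {E : X.Modules} {V : S.Modules}
variable (θ : (Scheme.Modules.pullback f).obj V ⟶ E) (L : X.Modules)

/-- An embedding into projective space over a part of the base, with generators among the given sections. -/
structure ChartData (n c N : ℕ) where
  U : S.Opens
  X' : Scheme.{u}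
  j : X' ⟶ X
  f' : X' ⟶ U.toScheme
  sq : IsPullback j f' f U.ι
  κ : X' ⟶ CohB1.ProjSpace n (ULift.{u} ℤ)
  closed : IsClosedImmersion (pullback.lift κ f' (specULiftZIsTerminal.hom_ext _ _) :
    X' ⟶ CohB1.ProjSpaceOver n U.toScheme)
  eL : (Scheme.Modules.pullback j).obj L ≅
    (Scheme.Modules.pullback κ).obj (Twist.twistProjSpace n (ULift.{u} ℤ) 1)
  π : Fin N → ((Scheme.Modules.pullback κ).obj (Twist.twistProjSpace n (ULift.{u} ℤ) (c : ℤ)) ⟶
    (Scheme.Modules.pullback j).obj E)
  epi : Epi (Limits.Sigma.desc π)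
  m : ℕ
  μ : Fin m → Γ(Twist.twistProjSpace n (ULift.{u} ℤ) (c : ℤ), ⊤)
  gen : TwistGen n c μ
  le : (⊤ : X'.Opens) ≤ j ⁻¹ᵁ (f ⁻¹ᵁ U)
  hyp : ∀ i l, ∃ v : Γ(V, U),
    (π i).app ⊤ (tp κ (Twist.twistProjSpace n (ULift.{u} ℤ) (c : ℤ)) (U := ⊤) le_rfl (μ l)) =
      tp j E le (sec' f θ U v)

variable {θ L} {n c N : ℕ} (D : ChartData θ L n c N) {T : Over S} {O : T.left.Opens} (hO : O ≤ T.hom ⁻¹ᵁ D.U)

variable (f O) in
/-- The part of the base change over an open of the base. -/
abbrev WO : (PicF.XT f T).Opens := PicF.XTproj f T ⁻¹ᵁ O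

/-- The map of the part of the base change to the chart. -/
def ChartData.γ : (WO f O).toScheme ⟶ D.X' :=
  D.sq.lift ((WO f O).ι ≫ pullback.fst f T.hom) (PicF.XTproj f T ∣_ O ≫ T.hom.resLE D.U O hO) (by
    rw [Category.assoc, Category.assoc, Scheme.Hom.resLE_comp_ι, morphismRestrict_ι_assoc, pullback.condition])

theorem ChartData.γ_j : D.γ hO ≫ D.j = (WO f O).ι ≫ pullback.fst f T.hom := D.sq.lift_fst _ _ _

theorem ChartData.γ_f' : D.γ hO ≫ D.f' = PicF.XTproj f T ∣_ O ≫ T.hom.resLE D.U O hO := D.sq.lift_snd _ _ _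

/-- The embedding of the part of the base change into projective space. -/
def ChartData.emb : (WO f O).toScheme ⟶ CohB1.ProjSpaceOver n O.toScheme :=
  pullback.lift (D.γ hO ≫ D.κ) (PicF.XTproj f T ∣_ O) (specULiftZIsTerminal.hom_ext _ _)

theorem ChartData.emb_fst : D.emb hO ≫ pullback.fst _ _ = D.γ hO ≫ D.κ := pullback.lift_fst _ _ _

theorem ChartData.emb_toBase : D.emb hO ≫ CohB1.ProjSpaceOver.toBase n O.toScheme = PicF.XTproj f T ∣_ O :=
  pullback.lift_snd _ _ _

theorem ChartData.isClosedImmersion_emb : IsClosedImmersion (D.emb hO) := by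
  haveI := D.closed
  let g := T.hom.resLE D.U O hO
  have h1 : IsPullback ((WO f O).ι ≫ pullback.fst f T.hom) (PicF.XTproj f T ∣_ O) f (g ≫ D.U.ι) := by
    rw [show g ≫ D.U.ι = O.ι ≫ T.hom from Scheme.Hom.resLE_comp_ι _ _]
    exact (isPullback_morphismRestrict (PicF.XTproj f T) O).flip.paste_horiz (IsPullback.of_hasPullback f T.hom)
  have h2 : IsPullback (D.γ hO) (PicF.XTproj f T ∣_ O) D.f' g :=
    IsPullback.of_right (by rw [D.γ_j hO]; exact h1) (D.γ_f' hO) D.sq
  let i' : D.X' ⟶ CohB1.ProjSpaceOver n D.U.toScheme := pullback.lift D.κ D.f' (specULiftZIsTerminal.hom_ext _ _)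
  have h3 : IsPullback (D.γ hO) (D.emb hO) i' (KRR.projSpaceMap n g) := by
    refine IsPullback.of_bot (v₂₁ := KRR.pr n O.toScheme) (v₂₂ := KRR.pr n D.U.toScheme) ?_ ?_
      (PnReg.isPullback_map g)
    · rw [show D.emb hO ≫ KRR.pr n O.toScheme = PicF.XTproj f T ∣_ O from D.emb_toBase hO,
        show i' ≫ KRR.pr n D.U.toScheme = D.f' from pullback.lift_snd _ _ _]
      exact h2
    · apply pullback.hom_ext
      · rw [Category.assoc, Category.assoc, PnReg.map_fst, pullback.lift_fst, D.emb_fst]
      · rw [Category.assoc, Category.assoc, pullback.lift_snd,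
          show KRR.projSpaceMap n g ≫ pullback.snd _ _ = pullback.snd _ _ ≫ g from pullback.lift_snd _ _ _,
          ← Category.assoc (D.emb hO)]
        exact (D.γ_f' hO).trans (congrArg (· ≫ g) (D.emb_toBase hO).symm)
  exact MorphismProperty.of_isPullback (P := @IsClosedImmersion) h3 ‹_›

/-- The comparison of the inverse images of `E`. -/
def ChartData.eW : (Scheme.Modules.pullback (D.γ hO)).obj ((Scheme.Modules.pullback D.j).obj E) ≅
    (Scheme.Modules.pullback (WO f O).ι).obj (FGA.ET f E T) :=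
  (Scheme.Modules.pullbackComp _ _).app E ≪≫ (Scheme.Modules.pullbackCongr (D.γ_j hO)).app E ≪≫
    ((Scheme.Modules.pullbackComp _ _).app E).symm

/-- The components of the presentation on the part of the base change. -/
def ChartData.P (i : Fin N) :
    (Scheme.Modules.pullback (D.emb hO)).obj (Twist.twistOver n O.toScheme (c : ℤ)) ⟶
      (Scheme.Modules.pullback (WO f O).ι).obj (FGA.ET f E T) :=
  (Scheme.Modules.pullbackComp _ _).hom.app _ ≫ (Scheme.Modules.pullbackCongr (D.emb_fst hO)).hom.app _ ≫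
    bc rfl (D.π i) ≫ (D.eW hO).hom

/-- The map to a direct image in projective space. -/
def ChartData.Qf {M : (WO f O).toScheme.Modules}
    (χ : (Scheme.Modules.pullback (WO f O).ι).obj (FGA.ET f E T) ⟶ M) :
    (∐ fun _ : Fin N => Twist.twistOver n O.toScheme (c : ℤ)) ⟶ (Scheme.Modules.pushforward (D.emb hO)).obj M :=
  Limits.Sigma.desc fun i =>
    (Scheme.Modules.pullbackPushforwardAdjunction (D.emb hO)).homEquiv _ _ (D.P hO i ≫ χ)

/-- The presentation on the part of the base change. -/
def ChartData.Pall :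
    (Scheme.Modules.pullback (D.emb hO)).obj (∐ fun _ : Fin N => Twist.twistOver n O.toScheme (c : ℤ)) ⟶
      (Scheme.Modules.pullback (WO f O).ι).obj (FGA.ET f E T) :=
  ((Scheme.Modules.pullbackPushforwardAdjunction (D.emb hO)).homEquiv _ _).symm
    (Limits.Sigma.desc fun i => (Scheme.Modules.pullbackPushforwardAdjunction (D.emb hO)).homEquiv _ _ (D.P hO i))

theorem ChartData.Qf_eq {M : (WO f O).toScheme.Modules}
    (χ : (Scheme.Modules.pullback (WO f O).ι).obj (FGA.ET f E T) ⟶ M) :
    D.Qf hO χ = (Scheme.Modules.pullbackPushforwardAdjunction (D.emb hO)).homEquiv _ _ (D.Pall hO ≫ χ) := by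
  rw [ChartData.Pall, Adjunction.homEquiv_naturality_right, Equiv.apply_symm_apply]
  refine Sigma.hom_ext _ _ fun i => ?_
  rw [ChartData.Qf, colimit.ι_desc, colimit.ι_desc_assoc]
  exact (Scheme.Modules.pullbackPushforwardAdjunction (D.emb hO)).homEquiv_naturality_right _ χ

theorem ChartData.epi_Pall : Epi (D.Pall hO) := by
  haveI := D.epi
  constructor
  intro Z a b h
  let adj := Scheme.Modules.pullbackPushforwardAdjunction (D.emb hO)
  have hi : ∀ i, D.P hO i ≫ a = D.P hO i ≫ b := fun i => by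
    apply (adj.homEquiv _ _).injective
    have := congrArg (fun u => Limits.Sigma.ι (fun _ : Fin N => Twist.twistOver n O.toScheme (c : ℤ)) i ≫
      adj.homEquiv _ _ u) h
    rw [← D.Qf_eq hO a, ← D.Qf_eq hO b] at this
    simpa [ChartData.Qf] using this
  let adjγ := Scheme.Modules.pullbackPushforwardAdjunction (D.γ hO)
  rw [← cancel_epi (D.eW hO).hom]
  apply (adjγ.homEquiv _ _).injective
  rw [← cancel_epi (Limits.Sigma.desc D.π)]
  refine Sigma.hom_ext _ _ fun i => ?_
  rw [colimit.ι_desc_assoc, colimit.ι_desc_assoc]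
  refine (adjγ.homEquiv_naturality_left _ _).symm.trans (Eq.trans ?_ (adjγ.homEquiv_naturality_left _ _))
  refine congrArg _ ?_
  have := hi i
  simp only [ChartData.P, bc, Grass.quotBC, Category.assoc, cancel_epi] at this
  simpa [Scheme.Modules.pullbackCongr] using this

end Groth.Agent.QuotProj

end
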