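import Groth.Agent.QuotProj.ChartDef

/-!
Values of the maps to the direct images on the generators.
-/

set_option autoImplicit false
set_option backward.isDefEq.respectTransparency false
set_option backward.isDefEq.respectTransparency.types false
set_option linter.style.haveILetI false
set_option maxHeartbeats 1000000

universe u

open CategoryTheory CategoryTheory.Limits AlgebraicGeometry TopologicalSpace Opposite
open Groth.Agent.QC (res res_res res_self app_res)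
open Groth.Agent.PBundle (sec')

noncomputable section

namespace Groth.Agent.QuotProj

variable {X S : Scheme.{u}} {f : X ⟶ S} {E : X.Modules} {V : S.Modules}
variable {θ : (Scheme.Modules.pullback f).obj V ⟶ E} {L : X.Modules}
variable {n c N : ℕ} (D : ChartData θ L n c N) {T : Over S} {O : T.left.Opens} (hO : O ≤ T.hom ⁻¹ᵁ D.U)

theorem WO_le (f : X ⟶ S) {T : Over S} (O : T.left.Opens) : (⊤ : (WO f O).toScheme.Opens) ≤ (WO f O).ι ⁻¹ᵁ WO f O :=
  fun x _ => x.2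

theorem ChartData.eW_app (s : Γ(E, f ⁻¹ᵁ D.U)) (h : (⊤ : (WO f O).toScheme.Opens) ≤
    (WO f O).ι ⁻¹ᵁ (pullback.fst f T.hom ⁻¹ᵁ (f ⁻¹ᵁ D.U))) :
    (D.eW hO).hom.app ⊤ (tp (D.γ hO) ((Scheme.Modules.pullback D.j).obj E) (U := ⊤) le_rfl (tp D.j E D.le s)) =
      tp (WO f O).ι (FGA.ET f E T) h (OmegaSh.pullSect (pullback.fst f T.hom) E (f ⁻¹ᵁ D.U) s) := by
  have h3 : (⊤ : (WO f O).toScheme.Opens) ≤ (D.γ hO ≫ D.j) ⁻¹ᵁ (f ⁻¹ᵁ D.U) := by
    rw [D.γ_j hO]; exact h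
  have h2 : (⊤ : (WO f O).toScheme.Opens) ≤ D.γ hO ⁻¹ᵁ (D.j ⁻¹ᵁ (f ⁻¹ᵁ D.U)) := h3
  simp only [ChartData.eW, Iso.trans_hom, Iso.app_hom, Iso.symm_hom, Iso.app_inv, Scheme.Modules.Hom.comp_app,
    ConcreteCategory.comp_apply]
  have e1 : tp (D.γ hO) ((Scheme.Modules.pullback D.j).obj E) (U := ⊤) le_rfl (tp D.j E D.le s) =
      tp (D.γ hO) ((Scheme.Modules.pullback D.j).obj E) (U := D.j ⁻¹ᵁ (f ⁻¹ᵁ D.U)) h2
        (OmegaSh.pullSect D.j E (f ⁻¹ᵁ D.U) s) := tp_res _ _ _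
  rw [e1]
  refine (congrArg _ (congrArg _ (tp_comp (D.γ hO) D.j h2 h3 s))).trans ?_
  exact (congrArg _ (tp_congr (D.γ_j hO) h3 h s)).trans (tp_comp_inv _ _ _ h s)

theorem ChartData.Qf_gen (i : Fin N) (l : Fin D.m) :
    ∃ v : Γ(V, D.U), ∀ {M' : (PicF.XT f T).Modules} (ψ' : FGA.ET f E T ⟶ M'),
      (D.Qf hO ((Scheme.Modules.pullback (WO f O).ι).map ψ')).app ⊤
        ((Limits.Sigma.ι (fun _ : Fin N => Twist.twistOver n O.toScheme (c : ℤ)) i).app ⊤
          (OmegaSh.pullSect (pullback.fst (CohB1.ProjSpace.toSpec n (ULift.{u} ℤ))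
            (specULiftZIsTerminal.from O.toScheme))
            (Twist.twistProjSpace n (ULift.{u} ℤ) (c : ℤ)) ⊤ (D.μ l))) =
      tp (WO f O).ι M' (WO_le f O) ((betaOf θ ψ').app O (res _ hO (OmegaSh.pullSect T.hom V D.U v))) := by
  obtain ⟨v, hv⟩ := D.hyp i l
  refine ⟨v, ?_⟩
  intro M' ψ'
  let fstO := pullback.fst (CohB1.ProjSpace.toSpec n (ULift.{u} ℤ)) (specULiftZIsTerminal.from O.toScheme)
  let Oc := Twist.twistProjSpace n (ULift.{u} ℤ) (c : ℤ)
  let x : Γ(Twist.twistOver n O.toScheme (c : ℤ), ⊤) := OmegaSh.pullSect fstO Oc ⊤ (D.μ l)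
  have h1 : Limits.Sigma.ι (fun _ : Fin N => Twist.twistOver n O.toScheme (c : ℤ)) i ≫
      D.Qf hO ((Scheme.Modules.pullback (WO f O).ι).map ψ') =
      (Scheme.Modules.pullbackPushforwardAdjunction (D.emb hO)).homEquiv _ _
        (D.P hO i ≫ (Scheme.Modules.pullback (WO f O).ι).map ψ') := colimit.ι_desc _ _
  refine (congr(($h1).app ⊤ x)).trans ?_
  refine (homEquiv_app _ _ _ _).trans ?_
  have hle : (⊤ : (WO f O).toScheme.Opens) ≤ (WO f O).ι ⁻¹ᵁ (pullback.fst f T.hom ⁻¹ᵁ (f ⁻¹ᵁ D.U)) := fun y _ => by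
    show f ((pullback.fst f T.hom) ((WO f O).ι y)) ∈ D.U
    rw [show f ((pullback.fst f T.hom) ((WO f O).ι y)) = T.hom ((PicF.XTproj f T) ((WO f O).ι y)) from
      congr(($(pullback.condition (f := f) (g := T.hom))) _)]
    exact hO y.2
  have hP : (D.P hO i).app ⊤ (tp (D.emb hO) (Twist.twistOver n O.toScheme (c : ℤ)) (U := ⊤) le_rfl x) =
      tp (WO f O).ι (FGA.ET f E T) hle
        (OmegaSh.pullSect (pullback.fst f T.hom) E (f ⁻¹ᵁ D.U) (sec' f θ D.U v)) := by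
    simp only [ChartData.P, Scheme.Modules.Hom.comp_app, ConcreteCategory.comp_apply]
    rw [show tp (D.emb hO) (Twist.twistOver n O.toScheme (c : ℤ)) (U := ⊤) le_rfl x =
        tp (D.emb hO) ((Scheme.Modules.pullback fstO).obj Oc) (U := fstO ⁻¹ᵁ ⊤) le_rfl
          (OmegaSh.pullSect fstO Oc ⊤ (D.μ l)) from rfl]
    refine (congrArg _ (congrArg _ (congrArg _ (tp_comp (D.emb hO) fstO (V := ⊤) le_rfl le_rfl (D.μ l))))).trans ?_
    refine (congrArg _ (congrArg _ (tp_congr (D.emb_fst hO) le_rfl le_rfl _))).trans ?_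
    refine (congrArg _ (tp_bc rfl (D.π i) le_rfl _)).trans ?_
    have h2 : (D.π i).app (D.κ ⁻¹ᵁ ⊤) (OmegaSh.pullSect D.κ Oc ⊤ (D.μ l)) = tp D.j E D.le (sec' f θ D.U v) := by
      rw [← hv]
      exact congrArg ((D.π i).app ⊤) (res_self _ _ _).symm
    refine (congrArg (fun y => (D.eW hO).hom.app ⊤ (tp (D.γ hO) ((Scheme.Modules.pullback D.j).obj E) (U := ⊤) le_rfl y)) h2).trans ?_
    exact D.eW_app hO _ hle
  have hx : OmegaSh.pullSect (D.emb hO) (Twist.twistOver n O.toScheme (c : ℤ)) ⊤ x =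
      tp (D.emb hO) (Twist.twistOver n O.toScheme (c : ℤ)) (U := ⊤) le_rfl x := (res_self _ _ _).symm
  refine Eq.trans (show _ = ((Scheme.Modules.pullback (WO f O).ι).map ψ').app ⊤ ((D.P hO i).app ⊤
    (OmegaSh.pullSect (D.emb hO) (Twist.twistOver n O.toScheme (c : ℤ)) ⊤ x)) from rfl) ?_
  rw [hx, hP, tp_map, betaOf_app θ ψ' D.U v hO, genSec_eq, ← app_res]
  erw [tp_res, tp_res]

end Groth.Agent.QuotProj

end
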