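import Groth.Agent.QuotProj.ChartKey
import Groth.Agent.QuotProj.Model
import Groth.Agent.RelPCS.Push

/-!
Quotients in a projective chart are recovered from their direct images after a uniform twist.
-/

set_option autoImplicit false
set_option backward.isDefEq.respectTransparency false
set_option backward.isDefEq.respectTransparency.types false
set_option linter.style.haveILetI false
set_option maxHeartbeats 1600000

universe u

open CategoryTheory CategoryTheory.Limits AlgebraicGeometry TopologicalSpace Opposite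
open Groth.Agent.QC (res res_res res_self app_res)
open Groth.Agent.PBundle (sec')

noncomputable section

namespace Groth.Agent.QuotProj

theorem app_finset_sum {Y : Scheme.{u}} {A B : Y.Modules} {ι : Type*} (s : Finset ι) (g : ι → (A ⟶ B))
    (U : Y.Opens) (x : Γ(A, U)) : (∑ i ∈ s, g i).app U x = ∑ i ∈ s, (g i).app U x := by
  classical
  induction s using Finset.induction_on with
  | empty => rw [Finset.sum_empty, Finset.sum_empty]; rfl
  | insert a t ha ih => rw [Finset.sum_insert ha, Finset.sum_insert ha, ← ih]; rfl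

theorem sigma_sections_induction {Y : Scheme.{u}} {N : ℕ} (F : Fin N → Y.Modules) {U : Y.Opens}
    (P : Γ(∐ F, U) → Prop) (h0 : P 0) (hadd : ∀ a b, P a → P b → P (a + b))
    (hι : ∀ i x, P ((Limits.Sigma.ι F i).app U x)) (z : Γ(∐ F, U)) : P z := by
  classical
  let p : ∀ i, (∐ F) ⟶ F i := fun i => Limits.Sigma.desc fun j => if h : j = i then eqToHom (congrArg F h) else 0
  have hsum : ∑ i, p i ≫ Limits.Sigma.ι F i = 𝟙 (∐ F) := by
    refine Sigma.hom_ext _ _ fun j => ?_
    rw [Preadditive.comp_sum, Category.comp_id, Finset.sum_eq_single j]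
    · simp [p]
    · intro b _ hb
      simp [p, Ne.symm hb]
    · exact fun h => absurd (Finset.mem_univ j) h
  have hz : z = ∑ i, (p i ≫ Limits.Sigma.ι F i).app U z := by
    rw [← app_finset_sum, hsum]; rfl
  rw [hz]
  exact Finset.sum_induction _ P hadd h0 fun i _ => hι i _

theorem rank_congr {Y : Scheme.{u}} {M M' : Y.Modules} {r : ℕ} (e : M ≅ M')
    (h : FlatMod.IsFinLocFreeOfRank r M) : FlatMod.IsFinLocFreeOfRank r M' := fun x => by
  obtain ⟨U, hU, ⟨i⟩⟩ := h x
  exact ⟨U, hU, ⟨(Scheme.Modules.restrictFunctor U.ι).mapIso e.symm ≪≫ i⟩⟩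

theorem appLE_open_bijective {Y : Scheme.{u}} (O : Y.Opens) (e0 : (⊤ : O.toScheme.Opens) ≤ O.ι ⁻¹ᵁ O) :
    Function.Bijective (O.ι.appLE O ⊤ e0).hom := by
  haveI : IsIso (O.ι.app O) := O.ι.isIso_app _ O.opensRange_ι.ge
  haveI : IsIso (O.toScheme.presheaf.map (homOfLE e0).op) := by
    rw [show (homOfLE e0) = eqToHom (top_le_iff.mp e0).symm from Subsingleton.elim _ _, eqToHom_op, eqToHom_map]
    infer_instance
  exact ConcreteCategory.bijective_of_isIso (O.ι.app O ≫ O.toScheme.presheaf.map (homOfLE e0).op)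

variable {X S : Scheme.{u}} {f : X ⟶ S} {E : X.Modules} {V : S.Modules}
variable {θ : (Scheme.Modules.pullback f).obj V ⟶ E} {L : X.Modules}
variable {n c N : ℕ} (D : ChartData θ L n c N) {T : Over S} {O : T.left.Opens} (hO : O ≤ T.hom ⁻¹ᵁ D.U)

theorem ChartData.appTop_smul_tp {M : (PicF.XT f T).Modules} (r₀ : Γ(T.left, O)) (e0 : (⊤ : O.toScheme.Opens) ≤ O.ι ⁻¹ᵁ O)
    (y : Γ((Scheme.Modules.pushforward (PicF.XTproj f T)).obj M, O)) :
    (D.emb hO).appTop ((CohB1.ProjSpaceOver.toBase n O.toScheme).appTop (O.ι.appLE O ⊤ e0 r₀)) •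
        tp (WO f O).ι M (WO_le f O) y =
      tp (WO f O).ι M (WO_le f O) (r₀ • y) := by
  have h := tp_smul (g := (WO f O).ι) (M := M) (WO_le f O) ((PicF.XTproj f T).app O r₀) y
  refine Eq.trans ?_ h.symm
  congr 1
  have h1 : O.ι.appLE O ⊤ e0 ≫ (CohB1.ProjSpaceOver.toBase n O.toScheme).appTop ≫ (D.emb hO).appTop =
      (PicF.XTproj f T).app O ≫ (WO f O).ι.appLE (WO f O) ⊤ (WO_le f O) := by
    have e1 : (CohB1.ProjSpaceOver.toBase n O.toScheme).appTop ≫ (D.emb hO).appTop =
        (PicF.XTproj f T ∣_ O).appTop := by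
      rw [← Scheme.Hom.comp_appTop]
      exact congrArg Scheme.Hom.appTop (D.emb_toBase hO)
    rw [e1, show (PicF.XTproj f T ∣_ O).appTop = (PicF.XTproj f T ∣_ O).appLE ⊤ ⊤ le_rfl from
        Scheme.Hom.app_eq_appLE (PicF.XTproj f T ∣_ O),
      show (PicF.XTproj f T).app O = (PicF.XTproj f T).appLE O (WO f O) le_rfl from
        Scheme.Hom.app_eq_appLE (PicF.XTproj f T),
      Scheme.Hom.appLE_comp_appLE, Scheme.Hom.appLE_comp_appLE]
    exact congr_appLE (morphismRestrict_ι _ _) _ _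
  exact congr($h1 r₀)
where
  congr_appLE {A B : Scheme.{u}} {g g' : A ⟶ B} (e : g = g') {U : B.Opens} {W : A.Opens}
      (h : W ≤ g ⁻¹ᵁ U) (h' : W ≤ g' ⁻¹ᵁ U) : g.appLE U W h = g'.appLE U W h' := by subst e; rfl

/-- Sections over the part of the base change as global sections of the direct image in projective space. -/
def ChartData.val (M : (PicF.XT f T).Modules) :
    Γ((Scheme.Modules.pushforward (PicF.XTproj f T)).obj M, O) →+
      Γ((Scheme.Modules.pushforward (D.emb hO)).obj ((Scheme.Modules.pullback (WO f O).ι).obj M), ⊤) where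
  toFun y := tp (WO f O).ι M (WO_le f O) y
  map_zero' := tp_zero (g := (WO f O).ι) (M := M) (U := WO f O) (WO_le f O)
  map_add' a b := tp_add (g := (WO f O).ι) (M := M) (U := WO f O) (WO_le f O) a b

theorem ChartData.val_apply (M : (PicF.XT f T).Modules)
    (y : Γ((Scheme.Modules.pushforward (PicF.XTproj f T)).obj M, O)) :
    D.val hO M y = tp (WO f O).ι M (WO_le f O) y := rfl

/-- Flatness, coherence and Hilbert functions of the quotient moved to projective space. -/
theorem ChartData.geometry [IsProper f] (hL : PicF.IsInvertible L) [IsLocallyNoetherian T.left] (a : Quo f E T)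
    (ha : a.IsFam) :
    Coh.IsCoh ((Scheme.Modules.pushforward (D.emb hO)).obj ((Scheme.Modules.pullback (WO f O).ι).obj a.F)) ∧
      FlatMod.IsFlatOver (CohB1.ProjSpaceOver.toBase n O.toScheme)
        ((Scheme.Modules.pushforward (D.emb hO)).obj ((Scheme.Modules.pullback (WO f O).ι).obj a.F)) ∧
      ∀ (t : O.toScheme) (k : ℕ),
        HilbFib.hilb (CohB1.ProjSpaceOver.toBase n O.toScheme) (Twist.twistOver n O.toScheme 1)
          ((Scheme.Modules.pushforward (D.emb hO)).obj ((Scheme.Modules.pullback (WO f O).ι).obj a.F)) t k =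
        a.hf L (O.ι t) k := by
  haveI : IsProper (PicF.XTproj f T) := MorphismProperty.pullback_snd _ _ ‹_›
  haveI := isLocallyNoetherian_XT (f := f) T
  haveI := D.isClosedImmersion_emb hO
  haveI : IsProper (CohB1.ProjSpaceOver.toBase n O.toScheme) := HQProj.isProper_toBase n O.toScheme
  haveI : IsLocallyNoetherian (CohB1.ProjSpaceOver n O.toScheme) :=
    haveI := (PicFam.flat_lfp_toBase n O.toScheme).2
    LocallyOfFiniteType.isLocallyNoetherian (CohB1.ProjSpaceOver.toBase n O.toScheme)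
  have hFW : Coh.IsCoh ((Scheme.Modules.pullback (WO f O).ι).obj a.F) := QC.isCoh_pullback _ ha.1
  have hsq : IsPullback (WO f O).ι (PicF.XTproj f T ∣_ O) (PicF.XTproj f T) O.ι :=
    (isPullback_morphismRestrict (PicF.XTproj f T) O).flip
  have hpW : D.emb hO ≫ CohB1.ProjSpaceOver.toBase n O.toScheme = PicF.XTproj f T ∣_ O := D.emb_toBase hO
  refine ⟨haveI := hFW.1; QC.isCoh_pushforward_of_isFinite _ hFW.2, isFlatOver_push_closed _ _ (by
    rw [hpW]
    exact fun x => FlatModBC.isFlatOverAt_baseChange hsq _ x (ha.2 _)), fun t k => ?_⟩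
  let O1 := Twist.twistProjSpace n (ULift.{u} ℤ) 1
  let eL : (Scheme.Modules.pullback (WO f O).ι).obj (FGA.ET f L T) ≅
      (Scheme.Modules.pullback (D.emb hO)).obj (Twist.twistOver n O.toScheme 1) :=
    (Scheme.Modules.pullbackComp _ _).app L ≪≫ (Scheme.Modules.pullbackCongr (D.γ_j hO).symm).app L ≪≫
      ((Scheme.Modules.pullbackComp _ _).app L).symm ≪≫ (Scheme.Modules.pullback _).mapIso D.eL ≪≫
      (Scheme.Modules.pullbackComp _ _).app O1 ≪≫ (Scheme.Modules.pullbackCongr (D.emb_fst hO).symm).app O1 ≪≫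
      ((Scheme.Modules.pullbackComp _ _).app O1).symm
  rw [hilb_push_closed _ _ (PicFam.isInvertible_twistOver n O.toScheme 1) hFW.1, hpW]
  exact HilbFib.hilb_of_isPullback hsq (PicLoc.isInvertible_pullback _ hL) ha.1.1 eL (Iso.refl _) t k

theorem ChartData.epi_Qf [IsLocallyNoetherian T.left] (a : Quo f E T) :
    Epi (D.Qf hO ((Scheme.Modules.pullback (WO f O).ι).map a.q)) := by
  haveI := D.isClosedImmersion_emb hO
  haveI : Epi ((Scheme.Modules.pullback (WO f O).ι).map a.q) := Grass.epi_pullback_map _ _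
  haveI := D.epi_Pall hO
  haveI := epi_unit_closed (D.emb hO) (isCoh_sigma_twist (n := n) (T := O.toScheme) N (c : ℤ)).2.1
  haveI := epi_push_closed (D.emb hO) (D.Pall hO ≫ (Scheme.Modules.pullback (WO f O).ι).map a.q)
  rw [D.Qf_eq hO, Adjunction.homEquiv_unit]
  infer_instance

/-- Sections of the presentation and their values. -/
theorem ChartData.values [IsAffine O.toScheme] (a : Quo f E T)
    (z : Γ(∐ fun _ : Fin N => Twist.twistOver n O.toScheme (c : ℤ), ⊤)) :
    ∃ y ∈ Submodule.span Γ(T.left, O) (Set.range fun v : Γ(V, D.U) =>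
        (betaOf θ a.q).app O (res _ hO (OmegaSh.pullSect T.hom V D.U v))),
      (D.Qf hO ((Scheme.Modules.pullback (WO f O).ι).map a.q)).app ⊤ z = D.val hO a.F y ∧
      ∀ {Z : (PicF.XT f T).Modules} (ψ : FGA.ET f E T ⟶ Z)
        (û : (Scheme.Modules.pushforward (PicF.XTproj f T)).obj a.F ⟶
          (Scheme.Modules.pushforward (PicF.XTproj f T)).obj Z),
        a.beta θ ≫ û = betaOf θ ψ →
        (D.Qf hO ((Scheme.Modules.pullback (WO f O).ι).map ψ)).app ⊤ z =
          D.val hO Z (û.app O y) := by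
  let W := WO f O
  let gens : Γ(V, D.U) → Γ((Scheme.Modules.pushforward (PicF.XTproj f T)).obj a.F, O) := fun v =>
    (betaOf θ a.q).app O (res _ hO (OmegaSh.pullSect T.hom V D.U v))
  let qt := D.Qf hO ((Scheme.Modules.pullback W.ι).map a.q)
  let R : Γ(∐ fun _ : Fin N => Twist.twistOver n O.toScheme (c : ℤ), ⊤) → Prop := fun z =>
    ∃ y ∈ Submodule.span Γ(T.left, O) (Set.range gens),
      qt.app ⊤ z = D.val hO a.F y ∧
      ∀ {Z : (PicF.XT f T).Modules} (ψ : FGA.ET f E T ⟶ Z)
        (û : (Scheme.Modules.pushforward (PicF.XTproj f T)).obj a.F ⟶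
          (Scheme.Modules.pushforward (PicF.XTproj f T)).obj Z),
        a.beta θ ≫ û = betaOf θ ψ →
        (D.Qf hO ((Scheme.Modules.pullback W.ι).map ψ)).app ⊤ z = D.val hO Z (û.app O y)
  have R0 : R 0 := by
    refine ⟨0, Submodule.zero_mem _, ?_, fun ψ û _ => ?_⟩
    · rw [map_zero]; exact (map_zero (D.val hO _)).symm
    · rw [map_zero, map_zero]; exact (map_zero (D.val hO _)).symm
  have Radd : ∀ a b, R a → R b → R (a + b) := by
    rintro z z' ⟨y, hy, hq, hψ⟩ ⟨y', hy', hq', hψ'⟩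
    refine ⟨y + y', Submodule.add_mem _ hy hy', ?_, fun ψ û h => ?_⟩
    · rw [map_add, hq, hq']; exact (map_add (D.val hO _) _ _).symm
    · rw [map_add, map_add, hψ ψ û h, hψ' ψ û h]; exact (map_add (D.val hO _) _ _).symm
  refine sigma_sections_induction (fun _ : Fin N => Twist.twistOver n O.toScheme (c : ℤ)) R R0 Radd (fun k x => ?_) z
  refine D.gen O.toScheme (fun x => R ((Limits.Sigma.ι (fun _ : Fin N => Twist.twistOver n O.toScheme (c : ℤ)) k).app ⊤ x)) ?_ ?_ (fun r x hx => ?_) (fun l => ?_) x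
  · simpa using R0
  · intro a b ha hb
    simpa using Radd _ _ ha hb
  · obtain ⟨y, hy, hq, hψ⟩ := hx
    obtain ⟨r₀, rfl⟩ := (appLE_open_bijective O (fun t _ => t.2)).2 r
    refine ⟨r₀ • y, Submodule.smul_mem _ r₀ hy, ?_, fun ψ û h => ?_⟩
    · refine (congrArg (qt.app ⊤) (Scheme.Modules.Hom.app_smul _ _ x)).trans ?_
      refine (Scheme.Modules.Hom.app_smul qt _ _).trans ?_
      rw [hq]
      exact D.appTop_smul_tp hO r₀ _ y
    · refine (congrArg _ (Scheme.Modules.Hom.app_smul _ _ x)).trans ?_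
      refine (Scheme.Modules.Hom.app_smul _ _ _).trans ?_
      rw [hψ ψ û h, Scheme.Modules.Hom.app_smul]
      exact D.appTop_smul_tp hO r₀ _ _
  · obtain ⟨v, hv⟩ := D.Qf_gen (T := T) hO k l
    refine ⟨gens v, Submodule.subset_span ⟨v, rfl⟩, hv a.q, fun ψ û h => ?_⟩
    rw [hv ψ, ← h]
    rfl

/-- Factoring through the quotient from the direct image. -/
theorem ChartData.ker_of_factor (a : Quo f E T) {Z : (PicF.XT f T).Modules} (ψ : FGA.ET f E T ⟶ Z)
    (ω : (Scheme.Modules.pushforward (D.emb hO)).obj ((Scheme.Modules.pullback (WO f O).ι).obj a.F) ⟶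
      (Scheme.Modules.pushforward (D.emb hO)).obj ((Scheme.Modules.pullback (WO f O).ι).obj Z))
    (hω : D.Qf hO ((Scheme.Modules.pullback (WO f O).ι).map a.q) ≫ ω =
      D.Qf hO ((Scheme.Modules.pullback (WO f O).ι).map ψ)) :
    (Scheme.Modules.pullback (WO f O).ι).map (kernel.ι a.q ≫ ψ) = 0 := by
  haveI := D.isClosedImmersion_emb hO
  let R := Scheme.Modules.pullback (WO f O).ι
  let adj := Scheme.Modules.pullbackPushforwardAdjunction (D.emb hO)
  haveI := GrothSS.isIso_counit_push (D.emb hO)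
  let ω' := inv (adj.counit.app (R.obj a.F)) ≫ (Scheme.Modules.pullback (D.emb hO)).map ω ≫ adj.counit.app _
  have hP : D.Pall hO ≫ R.map a.q ≫ ω' = D.Pall hO ≫ R.map ψ := by
    apply (adj.homEquiv _ _).injective
    rw [← D.Qf_eq hO, ← D.Qf_eq hO, ← hω, D.Qf_eq hO, D.Qf_eq hO, ← Category.assoc,
      adj.homEquiv_naturality_right]
    congr 1
    simp only [ω', Adjunction.homEquiv_unit]
    simp
  haveI := D.epi_Pall hO
  rw [cancel_epi] at hP
  haveI := (Scheme.Modules.pullbackPushforwardAdjunction (WO f O).ι).leftAdjoint_preservesColimits.{0, 0}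
  haveI : R.Additive := Functor.additive_of_preserves_binary_products _
  change R.map _ = 0
  rw [Functor.map_comp, ← hP, ← Category.assoc, ← Functor.map_comp, kernel.condition, Functor.map_zero, zero_comp]

/-- Quotients with Hilbert polynomial `P₀` shifted by `c` are recovered from their direct images in every chart of
twist `c`, if `c` is large. -/
theorem exists_chart_bound (n N : ℕ) (P₀ : Polynomial ℚ) :
    ∃ m₀ : ℕ, ∀ {X S : Scheme.{u}} {f : X ⟶ S} [IsProper f] {E : X.Modules} {V : S.Modules}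
      {θ : (Scheme.Modules.pullback f).obj V ⟶ E} {L : X.Modules} (_ : PicF.IsInvertible L)
      (c : ℕ) (_ : m₀ ≤ c) (D : ChartData θ L n c N) (T : Over S) [IsLocallyNoetherian T.left]
      (a : Quo f E T) (_ : a.IsFam) (Φ : Polynomial ℚ)
      (_ : ∀ k : ℕ, Φ.eval (k : ℚ) = P₀.eval ((k : ℚ) + (c : ℚ))) (_ : a.HasPoly L Φ)
      (O : T.left.Opens) (hO : O ≤ T.hom ⁻¹ᵁ D.U) (_ : IsAffineOpen O),
      a.Loc θ ⌊P₀.eval (c : ℚ)⌋.toNat D.U O hO := by
  obtain ⟨m₀, hm₀⟩ := exists_model_bound.{u} n N P₀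
  refine ⟨m₀, fun {X S f} _ {E V θ L} hL c hc D T _ a ha Φ hΦ hpoly O hO hOaff => ?_⟩
  haveI : IsAffine O.toScheme := hOaff
  haveI : IsNoetherian O.toScheme := ⟨⟩
  haveI := D.isClosedImmersion_emb hO
  obtain ⟨hG, hfl, hhilb⟩ := D.geometry hO hL a ha
  haveI := D.epi_Qf hO a
  obtain ⟨hrank, hsurj, hgen⟩ := hm₀ O.toScheme (c : ℤ) (Int.ofNat_le.2 hc) _ hG hfl
    (D.Qf hO ((Scheme.Modules.pullback (WO f O).ι).map a.q)) (fun t k => by
      rw [hhilb t k, Int.cast_natCast, ← hΦ]
      exact hpoly _ k)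
  rw [Int.cast_natCast] at hrank
  have hbij : ∀ M : (PicF.XT f T).Modules, Function.Bijective (D.val hO M) := fun M =>
    tp_bijective (by simp) (WO_le f O)
  refine ⟨?_, top_le_iff.1 fun y _ => ?_, fun {Z} ψ û hû => ?_⟩
  · exact rank_congr (((RelPCS.pushRestrIso (PicF.XTproj f T) O).app a.F ≪≫
      (Scheme.Modules.pushforward (PicF.XTproj f T ∣_ O)).mapIso
        ((Scheme.Modules.restrictFunctorIsoPullback (WO f O).ι).app a.F) ≪≫
      (Scheme.Modules.pushforwardCongr (D.emb_toBase hO).symm).app _ ≪≫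
      ((Scheme.Modules.pushforwardComp _ _).app _).symm).symm ≪≫
      (Scheme.Modules.restrictFunctorIsoPullback O.ι).app _) hrank
  · obtain ⟨z, hz⟩ := hsurj (D.val hO a.F y)
    obtain ⟨y', hy', hq, -⟩ := D.values hO a z
    rwa [(hbij a.F).1 (hz.symm.trans hq)]
  · let qt := D.Qf hO ((Scheme.Modules.pullback (WO f O).ι).map a.q)
    have hω : kernel.ι qt ≫ D.Qf hO ((Scheme.Modules.pullback (WO f O).ι).map ψ) = 0 := by
      refine eq_zero_of_secGen hgen _ fun w => ?_
      obtain ⟨y, -, hq, hψ⟩ := D.values hO a ((kernel.ι qt).app ⊤ w)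
      have h0 : qt.app ⊤ ((kernel.ι qt).app ⊤ w) = 0 := congr(($(kernel.condition qt)).app ⊤ w)
      have hy0 : y = 0 := (hbij a.F).1 ((hq.symm.trans h0).trans (map_zero (D.val hO a.F)).symm)
      refine (hψ ψ û hû).trans ?_
      rw [hy0, map_zero]
      exact map_zero (D.val hO Z)
    exact D.ker_of_factor hO a ψ (Abelian.epiDesc qt _ hω) (Abelian.comp_epiDesc _ _ _)

end Groth.Agent.QuotProj

end
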