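import Groth.Agent.QuotProj.Fam
import Groth.Agent.FlatModB.Basic
import Groth.Agent.RedDvrSp.Basic
import Groth.Agent.DvrDom.Valuative
import Groth.Agent.HilbFib.Basic
import Groth.Agent.QC.Closure

/-!
A family of quotients over the generic point of a discrete valuation ring extends to a flat family.
-/

set_option autoImplicit false
set_option backward.isDefEq.respectTransparency false
set_option backward.isDefEq.respectTransparency.types false
set_option linter.style.haveILetI false
set_option maxHeartbeats 1000000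

universe u

open CategoryTheory CategoryTheory.Limits AlgebraicGeometry TopologicalSpace Opposite

noncomputable section

namespace Groth.Agent.QuotProj

theorem isUnit_genericMap_app (A : Type u) [CommRing A] [IsDomain A]
    (a : Γ(Spec (CommRingCat.of A), ⊤)) (ha : a ≠ 0) :
    IsUnit ((DvrDom.genericMap A).appTop a) := by
  let φ : CommRingCat.of A ⟶ CommRingCat.of (FractionRing A) := CommRingCat.ofHom (algebraMap A (FractionRing A))
  let b : A := (Scheme.ΓSpecIso (CommRingCat.of A)).hom a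
  have hb : b ≠ 0 := fun h => ha ((Scheme.ΓSpecIso (CommRingCat.of A)).commRingCatIsoToRingEquiv.injective
    (h.trans (map_zero (Scheme.ΓSpecIso (CommRingCat.of A)).hom.hom).symm))
  have h := congr($(Scheme.ΓSpecIso_naturality φ) a)
  have hu : IsUnit (algebraMap A (FractionRing A) b) :=
    IsUnit.mk0 _ fun h => hb (IsFractionRing.injective A (FractionRing A) (h.trans (map_zero _).symm))
  rw [show (DvrDom.genericMap A).appTop a =
    (Scheme.ΓSpecIso (CommRingCat.of (FractionRing A))).inv (algebraMap A (FractionRing A) b) from by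
      rw [show algebraMap A (FractionRing A) b = (Scheme.ΓSpecIso (CommRingCat.of (FractionRing A))).hom
        ((Spec.map φ).appTop a) from h.symm]
      exact (Iso.hom_inv_id_apply (Scheme.ΓSpecIso (CommRingCat.of (FractionRing A))) _).symm]
  exact hu.map _

/-- The image in a direct image along an open immersion of a quotient on the open part. -/
theorem exists_closure {W Y : Scheme.{u}} (j : W ⟶ Y) [IsOpenImmersion j] [QuasiCompact j] [IsLocallyNoetherian Y]
    {M : Y.Modules} (hM : Coh.IsCoh M) {N : W.Modules} (hN : Coh.IsQCoh N)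
    (u : (Scheme.Modules.pullback j).obj M ⟶ N) [Epi u] :
    ∃ (F : Y.Modules) (q : M ⟶ F) (_ : Epi q) (ι : F ⟶ (Scheme.Modules.pushforward j).obj N) (_ : Mono ι)
      (i : (Scheme.Modules.pullback j).obj F ≅ N),
      Coh.IsCoh F ∧ (Scheme.Modules.pullback j).map q ≫ i.hom = u := by
  haveI : QuasiSeparated j := inferInstance
  let adj := Scheme.Modules.pullbackPushforwardAdjunction j
  let θR : M ⟶ (Scheme.Modules.pushforward j).obj N := adj.homEquiv _ _ u
  have hP : Coh.IsQCoh ((Scheme.Modules.pushforward j).obj N) :=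
    haveI := hN; QC.isQCoh_pushforward (M := N) j
  let q : M ⟶ Abelian.image θR := Abelian.factorThruImage θR
  let ι : Abelian.image θR ⟶ (Scheme.Modules.pushforward j).obj N := Abelian.image.ι θR
  have hFq : Coh.IsQCoh (Abelian.image θR) := QC.isQCoh_kernel hP (QC.isQCoh_cokernel hM.1 hP θR) _
  haveI : IsIso adj.counit := inferInstance
  haveI : Mono ((Scheme.Modules.restrictFunctor j).map ι) := inferInstance
  haveI : Mono ((Scheme.Modules.pullback j).map ι) := by
    rw [← NatIso.naturality_1 (Scheme.Modules.restrictFunctorIsoPullback j) ι]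
    infer_instance
  let i : (Scheme.Modules.pullback j).obj (Abelian.image θR) ⟶ N :=
    (Scheme.Modules.pullback j).map ι ≫ adj.counit.app N
  have h : (Scheme.Modules.pullback j).map q ≫ i = u := by
    rw [← Category.assoc, ← Functor.map_comp, show q ≫ ι = θR from Abelian.image.fac θR]
    exact (adj.homEquiv_counit _ _ θR).symm.trans (Equiv.symm_apply_apply _ _)
  haveI : Epi ((Scheme.Modules.pullback j).map q ≫ i) := by rw [h]; infer_instance
  haveI : Epi i := epi_of_epi ((Scheme.Modules.pullback j).map q) i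
  haveI : Mono i := inferInstance
  haveI : IsIso i := isIso_of_mono_of_epi i
  exact ⟨_, q, inferInstance, ι, inferInstance, asIso i, QC.isCoh_of_epi hM hFq q, h⟩

/-- A submodule of a direct image from the generic fibre is flat over the valuation ring. -/
theorem isFlatOver_sub {A : Type u} [CommRing A] [IsDomain A] [IsDiscreteValuationRing A] {W Y : Scheme.{u}}
    {j : W ⟶ Y} {pK : W ⟶ Spec (CommRingCat.of (FractionRing A))} {p : Y ⟶ Spec (CommRingCat.of A)}
    (w : j ≫ p = pK ≫ DvrDom.genericMap A) {N : W.Modules} {F : Y.Modules} (hFq : Coh.IsQCoh F)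
    (ι : F ⟶ (Scheme.Modules.pushforward j).obj N) [Mono ι] : FlatMod.IsFlatOver p F := fun x => by
  obtain ⟨U, hU, hx, -⟩ := exists_isAffineOpen_mem_and_subset (X := Y) (x := x) (U := ⊤) trivial
  refine (FlatModB.flat_sections_iff p F hFq hU (isAffineOpen_top _) (fun _ _ => trivial)).1 ?_ x hx
  let R := CommRingCat.of A
  letI := FlatModB.secModule p F U ⊤ (fun _ _ => trivial)
  let e : Γ(Spec R, ⊤) ≃+* A := (Scheme.ΓSpecIso R).commRingCatIsoToRingEquiv
  haveI : IsDomain Γ(Spec R, ⊤) := e.toMulEquiv.isDomain A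
  haveI : IsPrincipalIdealRing Γ(Spec R, ⊤) := IsPrincipalIdealRing.of_surjective e.symm e.symm.surjective
  rw [Module.Flat.flat_iff_torsion_eq_bot_of_isBezout, eq_bot_iff]
  rintro m ⟨⟨a, ha⟩, ham⟩
  rw [Submodule.mem_bot]
  apply QC.app_injective_of_mono ι U
  rw [map_zero]
  have ha0 : a ≠ 0 := nonZeroDivisors.ne_zero ha
  have hu : IsUnit (j.app U ((p.appLE ⊤ U (fun _ _ => trivial)).hom a)) := by
    have h1 : p.appLE ⊤ U (fun _ _ => trivial) ≫ j.app U =
        (DvrDom.genericMap A).appTop ≫ pK.appLE ⊤ (j ⁻¹ᵁ U) (fun _ _ => trivial) := by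
      rw [show j.app U = j.appLE U (j ⁻¹ᵁ U) le_rfl from Scheme.Hom.app_eq_appLE j,
        show (DvrDom.genericMap A).appTop = (DvrDom.genericMap A).appLE ⊤ ⊤ le_rfl from
          Scheme.Hom.app_eq_appLE (DvrDom.genericMap A),
        Scheme.Hom.appLE_comp_appLE, Scheme.Hom.appLE_comp_appLE]
      have key : ∀ {a b : W ⟶ Spec (CommRingCat.of A)} (_ : a = b) (h : j ⁻¹ᵁ U ≤ a ⁻¹ᵁ ⊤) (h' : j ⁻¹ᵁ U ≤ b ⁻¹ᵁ ⊤),
          a.appLE ⊤ (j ⁻¹ᵁ U) h = b.appLE ⊤ (j ⁻¹ᵁ U) h' := by rintro a _ rfl h h'; rfl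
      exact key w _ _
    have h2 := congr($h1 a)
    rw [show j.app U ((p.appLE ⊤ U (fun _ _ => trivial)).hom a) = _ from h2]
    exact (isUnit_genericMap_app A a ha0).map (pK.appLE ⊤ (j ⁻¹ᵁ U) (fun _ _ => trivial)).hom
  have h0 := congrArg (ι.app U) (show (p.appLE ⊤ U (fun _ _ => trivial)).hom a • m = 0 from ham)
  rw [map_zero, Scheme.Modules.Hom.app_smul] at h0
  exact (hu.smul_eq_zero (x := (show Γ(N, j ⁻¹ᵁ U) from ι.app U m))).1 h0

variable {X S : Scheme.{u}} {f : X ⟶ S} {E : X.Modules} {L : X.Modules}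

theorem exists_flat_lift [IsProper f] [IsLocallyNoetherian S] (hE : Coh.IsCoh E)
    {A : Type u} [CommRing A] [IsDomain A] [IsDiscreteValuationRing A] (sR : Spec (CommRingCat.of A) ⟶ S)
    {TK : Over S} (k : TK ⟶ Over.mk sR) [IsOpenImmersion k.left] [QuasiCompact k.left]
    (eK : TK.left ⟶ Spec (CommRingCat.of (FractionRing A))) (hk : k.left = eK ≫ DvrDom.genericMap A)
    (aK : Quo f E TK) (haK : aK.IsFam) :
    ∃ aR : Quo f E (Over.mk sR), aR.IsFam ∧ (aR.pull k).Rel aK := by
  have sq : IsPullback (PicF.XTmap f k) (PicF.XTproj f TK) (PicF.XTproj f (Over.mk sR)) k.left :=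
    PicFam.isPullback_XTmap f k
  haveI : IsOpenImmersion (PicF.XTmap f k) :=
    MorphismProperty.of_isPullback (P := @IsOpenImmersion) sq.flip ‹_›
  haveI : QuasiCompact (PicF.XTmap f k) := MorphismProperty.of_isPullback (P := @QuasiCompact) sq.flip ‹_›
  haveI : IsLocallyNoetherian (Over.mk sR).left := inferInstanceAs (IsLocallyNoetherian (Spec (CommRingCat.of A)))
  haveI := isLocallyNoetherian_XT (f := f) (Over.mk sR)
  obtain ⟨F, q, hq, ι, hι, i, hF, hi⟩ := exists_closure (PicF.XTmap f k) (isCoh_ET hE _) haK.1.1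
    ((FGA.ETiso f E k).hom ≫ aK.q)
  refine ⟨⟨F, q, hq⟩, ⟨hF, isFlatOver_sub (pK := PicF.XTproj f TK ≫ eK)
    (by rw [Category.assoc, ← hk]; exact sq.w) hF.1 ι⟩, i, ?_⟩
  dsimp only [Quo.pull]
  change ((FGA.ETiso f E k).inv ≫ (Scheme.Modules.pullback _).map q) ≫ i.hom = aK.q
  rw [Category.assoc, hi, Iso.inv_hom_id_assoc]

theorem exists_extension [IsProper f] [IsLocallyNoetherian S] (hE : Coh.IsCoh E) (hL : PicF.IsInvertible L)
    {A : Type u} [CommRing A] [IsDomain A] [IsDiscreteValuationRing A] (sR : Spec (CommRingCat.of A) ⟶ S)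
    (sK : Spec (CommRingCat.of (FractionRing A)) ⟶ S) (e : DvrDom.genericMap A ≫ sR = sK)
    (aK : Quo f E (Over.mk sK)) (haK : aK.IsFam) (Φ : Polynomial ℚ) (hp : aK.HasPoly L Φ) :
    ∃ aR : Quo f E (Over.mk sR), aR.IsFam ∧ aR.HasPoly L Φ ∧
      (aR.pull (Over.homMk (U := Over.mk sK) (V := Over.mk sR) (DvrDom.genericMap A) e)).Rel aK := by
  let k : Over.mk sK ⟶ Over.mk sR := Over.homMk (DvrDom.genericMap A) e
  haveI : IsOpenImmersion k.left := RedDvrSp.isOpenImmersion_fractionRing (R := A)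
  haveI : QuasiCompact k.left := inferInstanceAs (QuasiCompact (DvrDom.genericMap A))
  obtain ⟨aR, haR, hrel⟩ := exists_flat_lift hE sR k (𝟙 _) (Category.id_comp _).symm aK haK
  refine ⟨aR, haR, fun t n => ?_, hrel⟩
  haveI : IsProper (PicF.XTproj f (Over.mk sR)) := MorphismProperty.pullback_snd _ _ ‹_›
  haveI : IsLocallyNoetherian (Over.mk sR).left := inferInstanceAs (IsLocallyNoetherian (Spec (CommRingCat.of A)))
  haveI := isLocallyNoetherian_XT (f := f) (Over.mk sR)
  have hlc := HilbFib.isLocallyConstant_hilb (f := PicF.XTproj f (Over.mk sR))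
    (PicLoc.isInvertible_pullback (pullback.fst f (Over.mk sR).hom) hL)
    (haveI := haR.1.1; QC.isFP_of_isQCoh_of_isFT haR.1.2) haR.2
  haveI : PreconnectedSpace (Over.mk sR).left := inferInstanceAs (PreconnectedSpace (PrimeSpectrum A))
  let η : Spec (CommRingCat.of (FractionRing A)) := Classical.arbitrary _
  have h1 : aR.hf L t = aR.hf L (k.left η) := hlc.apply_eq_of_preconnectedSpace t (k.left η)
  rw [h1, ← Quo.hf_pull hL aR haR.1.1 k η n, Quo.hf_congr hrel]
  exact hp η n

end Groth.Agent.QuotProj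

end
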