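import Groth.Agent.MumBound.FieldExt
import Groth.Agent.MumBound.Hilb
import Groth.Agent.PnReg.Main

/-!
A uniform twist after which quotients of twisted free modules on projective space over a field are regular.
-/

set_option autoImplicit false
set_option linter.style.haveILetI false
set_option backward.isDefEq.respectTransparency false
set_option backward.isDefEq.respectTransparency.types false
set_option maxHeartbeats 1000000

universe u

open CategoryTheory CategoryTheory.Limits AlgebraicGeometry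
open Groth.Agent.CohFinite Groth.Agent.MumBound

noncomputable section

namespace Groth.Agent.QuotProj

/-- A twisted free module is the sum of twists. -/
theorem nonempty_sigma_twist (k : Type u) [Field k] (n N : ℕ) (c : ℤ) :
    Nonempty ((∐ fun _ : Fin N => PnReg.Ot k n c) ≅ tw (FlatMod.freeMod (CohB1.ProjSpace n k) N) c) := by
  classical
  let O := Coh.structureModule (CohB1.ProjSpace n k)
  let ι : ∀ _ : Fin N, O ⟶ FlatMod.freeMod (CohB1.ProjSpace n k) N := fun j => Sigma.ι (fun _ : Fin N => O) j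
  let p : ∀ _ : Fin N, FlatMod.freeMod (CohB1.ProjSpace n k) N ⟶ O := fun j =>
    Sigma.desc fun i => if i = j then 𝟙 O else 0
  have hιp : ∀ i j, ι i ≫ p j = if i = j then 𝟙 O else 0 := fun i j => colimit.ι_desc _ _
  have hsum : ∑ j, p j ≫ ι j = 𝟙 (FlatMod.freeMod (CohB1.ProjSpace n k) N) := by
    refine Sigma.hom_ext _ _ fun i => ?_
    rw [Preadditive.comp_sum, Category.comp_id, Finset.sum_eq_single i]
    · simp only [p, ι, colimit.ι_desc_assoc, Cofan.mk_pt, Cofan.mk_ι_app, if_pos rfl]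
      exact Category.id_comp _
    · intro b _ hb
      simp [p, ι, Ne.symm hb]
    · simp
  let u := TMul.leftUnitIso (PnReg.Ot k n c)
  refine ⟨⟨Sigma.desc fun j => u.inv ≫ twm (ι j) c,
    ∑ j, twm (p j) c ≫ u.hom ≫ Sigma.ι (fun _ : Fin N => PnReg.Ot k n c) j, ?_, ?_⟩⟩
  · refine Sigma.hom_ext _ _ fun i => ?_
    rw [← Category.assoc, colimit.ι_desc, Preadditive.comp_sum, Category.comp_id]
    refine (Finset.sum_eq_single i ?_ ?_).trans ?_
    · intro b _ hb
      have h : twm (ι i) c ≫ twm (p b) c = 0 := by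
        simp only [twm, ← tmap_comp, hιp, if_neg (Ne.symm hb), tmap_zero]
      dsimp only [Cofan.mk_pt, Cofan.mk_ι_app]
      refine (Category.assoc u.inv (twm (ι i) c) _).trans ?_
      refine (congrArg (u.inv ≫ ·) ((Category.assoc _ _ _).symm.trans (congrArg (· ≫ _) h))).trans ?_
      exact (congrArg (u.inv ≫ ·) Limits.zero_comp).trans Limits.comp_zero
    · exact fun h => absurd (Finset.mem_univ i) h
    · have h : twm (ι i) c ≫ twm (p i) c = 𝟙 _ := by
        simp only [twm, ← tmap_comp, hιp, if_pos rfl]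
        exact tmap_id _ _
      dsimp only [Cofan.mk_pt, Cofan.mk_ι_app]
      erw [Category.assoc, ← Category.assoc (twm (ι i) c), h, Category.id_comp, Iso.inv_hom_id_assoc]
  · rw [Preadditive.sum_comp]
    simp only [Category.assoc, colimit.ι_desc, Cofan.mk_pt, Cofan.mk_ι_app, Iso.hom_inv_id_assoc]
    simp only [twm, ← tmap_comp]
    rw [← tmap_sum, hsum, tmap_id]

/-- The bound over fields. -/
theorem exists_fibre_bound (n N : ℕ) (P₀ : Polynomial ℚ) :
    ∃ m₀ : ℕ, ∀ (k : Type u) [Field k] (c : ℤ) (A F : (CohB1.ProjSpace n k).Modules) (φ : A ⟶ F),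
      (m₀ : ℤ) ≤ c → Nonempty (A ≅ tw (FlatMod.freeMod (CohB1.ProjSpace n k) N) c) → Coh.IsCoh F → Epi φ →
      (∀ t : ℕ, (Curv2.euler k (CohB1.ProjSpace n k) (tw F t) : ℚ) = P₀.eval ((t : ℚ) + (c : ℚ))) →
      PnReg.Reg (kernel φ) 0 ∧ ∀ q : ℕ, 1 ≤ q → Subsingleton (Coh.HH (CohB1.ProjSpace n k) F q) := by
  obtain ⟨m₀, hm₀⟩ := MumBound.exists_bound_field.{u} n N P₀
  refine ⟨m₀, fun k _ c A F φ hc ⟨e⟩ hF hφ hP => ?_⟩
  haveI := CohFinite.isNoetherian_projSpace n k
  let PS := CohB1.ProjSpace n k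
  let Fr := FlatMod.freeMod PS N
  have hfree : Coh.IsCoh Fr := NegFilt.isCoh_freeMod (X := PS) N
  have hA : Coh.IsCoh A := ⟨QC.isQCoh_of_iso e.symm (isCoh_tw hfree c).1, QC.isFT_of_epi e.inv (isCoh_tw hfree c).2⟩
  haveI := hφ
  let S : ShortComplex PS.Modules := ShortComplex.mk (kernel.ι φ) φ (kernel.condition φ)
  have hS : S.ShortExact :=
    { exact := ShortComplex.exact_of_f_is_kernel _ (kernelIsKernel φ), epi_g := inferInstanceAs (Epi φ) }
  have hK : Coh.IsCoh (kernel φ) := Groth.Agent.QC.isCoh_kernel hA hF.1 φ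
  obtain ⟨a⟩ := PnReg.nonempty_twistF Fr c (-c) 0 (add_neg_cancel c)
  obtain ⟨b⟩ := PnReg.nonempty_twistF_zero Fr
  let e₀ : tw A (-c) ≅ Fr := PicGrp.tensorModIso e (Iso.refl _) ≪≫ a ≪≫ b
  have hS' := twSeq hS (-c)
  haveI : Epi (twm φ (-c)) := hS'.epi_g
  have hreg₀ : PnReg.Reg (kernel (e₀.inv ≫ twm φ (-c))) (m₀ : ℤ) := by
    refine hm₀ k (tw F (-c)) (e₀.inv ≫ twm φ (-c)) (isCoh_tw hF _) inferInstance fun t => ?_
    obtain ⟨d⟩ := PnReg.nonempty_twistF F (-c) t (-c + t) rfl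
    rw [CurveRR.euler_eq_of_iso d, euler_eq_eval hF (P₀.comp (Polynomial.X + Polynomial.C (c : ℚ)))
      (fun s => by rw [hP s]; simp) (-c + t)]
    simp
  haveI := hS'.mono_f
  let i₁ : tw (kernel φ) (-c) ≅ kernel (twm φ (-c)) := IsLimit.conePointUniqueUpToIso hS'.fIsKernel (limit.isLimit _)
  have hreg₁ : PnReg.Reg (tw (kernel φ) (-c)) (m₀ : ℤ) :=
    PnReg.reg_of_iso (kernelIsIsoComp e₀.inv (twm φ (-c)) ≪≫ i₁.symm) hreg₀
  obtain ⟨j, hj⟩ : ∃ j : ℕ, c = (m₀ : ℤ) + j := ⟨(c - m₀).toNat, by omega⟩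
  have hreg₂ : PnReg.Reg (tw (kernel φ) (-c)) c := by
    rw [hj] at hreg₁ ⊢
    exact PnReg.reg_add (isCoh_tw hK _).1 hreg₁ j
  have hKreg : PnReg.Reg (kernel φ) 0 := by
    have h := PnReg.reg_of_twist hreg₂
    rwa [add_neg_cancel] at h
  refine ⟨hKreg, fun q hq => PnReg.hh_of_reg hF.1 ?_ q hq⟩
  refine PnReg.reg_X3 hS ?_ (by
    have h := PnReg.reg_add hK.1 hKreg 1
    simpa using h)
  obtain ⟨c', hc'⟩ : ∃ c' : ℕ, c = (c' : ℤ) := ⟨c.toNat, by omega⟩
  have h := PnReg.reg_twist (PnReg.reg_add hfree.1 (MumBound.reg_free (k := k) (n := n) N) c') c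
  rw [hc', zero_add, sub_self, ← hc'] at h
  exact PnReg.reg_of_iso e.symm h

end Groth.Agent.QuotProj

end
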