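import Groth.Agent.QuotProj.Sect
import Groth.Agent.GrassQ.Glue

/-!
Inverse images of sections as global sections over opens containing the image.
-/

set_option autoImplicit false
set_option backward.isDefEq.respectTransparency false
set_option backward.isDefEq.respectTransparency.types false
set_option linter.style.haveILetI false

universe u

open CategoryTheory CategoryTheory.Limits AlgebraicGeometry TopologicalSpace Opposite
open Groth.Agent.QC (res res_res res_self app_res)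

noncomputable section

namespace Groth.Agent.QuotProj

variable {W Y Z : Scheme.{u}}

/-- The inverse image of a section, as a global section. -/
def tp (g : W ⟶ Y) (M : Y.Modules) {U : Y.Opens} (h : (⊤ : W.Opens) ≤ g ⁻¹ᵁ U) (s : Γ(M, U)) :
    Γ((Scheme.Modules.pullback g).obj M, ⊤) := res _ h (OmegaSh.pullSect g M U s)

variable {g : W ⟶ Y} {M : Y.Modules} {U : Y.Opens}

theorem tp_zero (h : (⊤ : W.Opens) ≤ g ⁻¹ᵁ U) : tp g M h 0 = 0 := by rw [tp, map_zero, map_zero]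

theorem tp_add (h : (⊤ : W.Opens) ≤ g ⁻¹ᵁ U) (a b : Γ(M, U)) : tp g M h (a + b) = tp g M h a + tp g M h b := by
  rw [tp, tp, tp, map_add, map_add]

theorem tp_smul (h : (⊤ : W.Opens) ≤ g ⁻¹ᵁ U) (r : Γ(Y, U)) (m : Γ(M, U)) :
    tp g M h (r • m) = (g.appLE U ⊤ h).hom r • tp g M h m := by
  rw [tp, tp, OmegaSh.pullSect_smul, QC.res_smul]
  rfl

theorem tp_res {U' : Y.Opens} (hU : U' ≤ U) (h : (⊤ : W.Opens) ≤ g ⁻¹ᵁ U') (s : Γ(M, U)) :
    tp g M h (res M hU s) = tp g M (h.trans (g.preimage_mono hU)) s := by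
  rw [tp, tp, PBundle.pullSect_res, res_res]

theorem tp_map {M' : Y.Modules} (φ : M ⟶ M') (h : (⊤ : W.Opens) ≤ g ⁻¹ᵁ U) (s : Γ(M, U)) :
    ((Scheme.Modules.pullback g).map φ).app ⊤ (tp g M h s) = tp g M' h (φ.app U s) := by
  rw [tp, tp, ← app_res, QC.app_pullSect]

theorem tp_congr {g' : W ⟶ Y} (e : g = g') (h : (⊤ : W.Opens) ≤ g ⁻¹ᵁ U) (h' : (⊤ : W.Opens) ≤ g' ⁻¹ᵁ U)
    (s : Γ(M, U)) : ((Scheme.Modules.pullbackCongr e).hom.app M).app ⊤ (tp g M h s) = tp g' M h' s := by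
  subst e
  simp [Scheme.Modules.pullbackCongr]

theorem tp_congr_inv {g' : W ⟶ Y} (e : g = g') (h : (⊤ : W.Opens) ≤ g ⁻¹ᵁ U) (h' : (⊤ : W.Opens) ≤ g' ⁻¹ᵁ U)
    (s : Γ(M, U)) : ((Scheme.Modules.pullbackCongr e).inv.app M).app ⊤ (tp g' M h' s) = tp g M h s := by
  subst e
  simp [Scheme.Modules.pullbackCongr]

theorem tp_comp (p : W ⟶ Y) (q : Y ⟶ Z) {N : Z.Modules} {V : Z.Opens} (h : (⊤ : W.Opens) ≤ p ⁻¹ᵁ (q ⁻¹ᵁ V))
    (h' : (⊤ : W.Opens) ≤ (p ≫ q) ⁻¹ᵁ V) (s : Γ(N, V)) :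
    ((Scheme.Modules.pullbackComp p q).hom.app N).app ⊤
      (tp p ((Scheme.Modules.pullback q).obj N) (U := q ⁻¹ᵁ V) h (OmegaSh.pullSect q N V s)) = tp (p ≫ q) N h' s := by
  refine (app_res ((Scheme.Modules.pullbackComp p q).hom.app N) h _).symm.trans ?_
  exact congrArg (res _ h') (QC.pullbackComp_hom_pullSect p q N V s)

theorem tp_comp_inv (p : W ⟶ Y) (q : Y ⟶ Z) {N : Z.Modules} {V : Z.Opens} (h : (⊤ : W.Opens) ≤ (p ≫ q) ⁻¹ᵁ V)
    (h' : (⊤ : W.Opens) ≤ p ⁻¹ᵁ (q ⁻¹ᵁ V)) (s : Γ(N, V)) :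
    ((Scheme.Modules.pullbackComp p q).inv.app N).app ⊤ (tp (p ≫ q) N h s) =
      tp p ((Scheme.Modules.pullback q).obj N) (U := q ⁻¹ᵁ V) h' (OmegaSh.pullSect q N V s) := by
  rw [← tp_comp p q h' h s]
  exact congr(($((Scheme.Modules.pullbackComp p q).hom_inv_id_app N)).app ⊤ _)

/-- The value of a base change on an inverse image. -/
theorem tp_bc {π : Y ⟶ Z} {p : W ⟶ Y} {g : W ⟶ Z} (hg : p ≫ π = g) {N : Z.Modules} {Q : Y.Modules}
    (q : (Scheme.Modules.pullback π).obj N ⟶ Q) {V : Z.Opens} (h : (⊤ : W.Opens) ≤ g ⁻¹ᵁ V) (s : Γ(N, V)) :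
    (bc hg q).app ⊤ (tp g N h s) =
      tp p Q (U := π ⁻¹ᵁ V) (h.trans (le_of_eq (by rw [← hg]; rfl))) (q.app (π ⁻¹ᵁ V) (OmegaSh.pullSect π N V s)) := by
  subst hg
  simp only [bc, Grass.quotBC, Scheme.Modules.Hom.comp_app, ConcreteCategory.comp_apply, Iso.app_inv,
    Iso.symm_hom, Iso.trans_inv, Category.assoc]
  rw [tp_congr_inv rfl h h, tp_comp_inv (h' := h)]
  exact tp_map q h _

theorem tp_bijective [IsOpenImmersion g] (hU : U ≤ g ''ᵁ g ⁻¹ᵁ U) (h : (⊤ : W.Opens) ≤ g ⁻¹ᵁ U) :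
    Function.Bijective (tp g M h) := by
  have e : g ⁻¹ᵁ U = ⊤ := le_antisymm le_top h
  have hb := GrassQ.bijective_pullSect_open g M U hU
  refine Function.Bijective.comp ⟨fun a b hab => ?_, fun b => ⟨res _ e.le b, ?_⟩⟩ hb
  · have h' := congrArg (res ((Scheme.Modules.pullback g).obj M) e.le) hab
    rwa [res_res, res_res, res_self, res_self] at h'
  · exact (res_res _ _ _ _).trans (res_self _ _ _)

end Groth.Agent.QuotProj

end
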