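import Groth.Agent.QuotProj.Core
import Groth.Agent.QuotProj.Tp
import Groth.Agent.W7Slope.Twist
import Groth.Agent.KFlat.PullTensor
import Groth.Agent.ResDesc.CartierFam
import Groth.Agent.TMul.Pullback
import Groth.Agent.W7Cech.NNStatements

/-!
Quotients of a module and of its twist by an invertible module.
-/

set_option autoImplicit false
set_option backward.isDefEq.respectTransparency false
set_option backward.isDefEq.respectTransparency.types false
set_option linter.style.haveILetI false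
set_option maxHeartbeats 1000000

universe u

open CategoryTheory CategoryTheory.Limits AlgebraicGeometry TopologicalSpace Opposite
open Groth.Agent.QC (res res_res res_self app_res)
open TMul (tm)

noncomputable section

namespace Groth.Agent.QuotProj

variable {X Y Z : Scheme.{u}}

/-- The comparison of the inverse image of a tensor product with the tensor product of the inverse images. -/
def pTH (g : X ⟶ Y) (M N : Y.Modules) :
    (Scheme.Modules.pullback g).obj (CohB1.tensorMod M N) ≅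
      CohB1.tensorMod ((Scheme.Modules.pullback g).obj M) ((Scheme.Modules.pullback g).obj N) :=
  (KFlat.pullTensorIso g M N).symm

theorem pTH_tm (g : X ⟶ Y) (M N : Y.Modules) (U : Y.Opens) (m : Γ(M, U)) (n : Γ(N, U)) :
    (pTH g M N).hom.app (g ⁻¹ᵁ U) (OmegaSh.pullSect g (CohB1.tensorMod M N) U (tm m n)) =
      tm (OmegaSh.pullSect g M U m) (OmegaSh.pullSect g N U n) :=
  KFlat.pullTensorHom_spec g M N U m n

theorem pTH_inv_tm (g : X ⟶ Y) (M N : Y.Modules) (U : Y.Opens) (m : Γ(M, U)) (n : Γ(N, U)) :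
    (pTH g M N).inv.app (g ⁻¹ᵁ U) (tm (OmegaSh.pullSect g M U m) (OmegaSh.pullSect g N U n)) =
      OmegaSh.pullSect g (CohB1.tensorMod M N) U (tm m n) := by
  rw [← pTH_tm]
  exact congr(($((pTH g M N).hom_inv_id)).app _ _)

theorem ext_pullback_tensor (g : X ⟶ Y) {M N : Y.Modules} {P : X.Modules}
    {a b : (Scheme.Modules.pullback g).obj (CohB1.tensorMod M N) ⟶ P}
    (h : ∀ (U : Y.Opens) (m : Γ(M, U)) (n : Γ(N, U)),
      a.app (g ⁻¹ᵁ U) (OmegaSh.pullSect g _ U (tm m n)) = b.app (g ⁻¹ᵁ U) (OmegaSh.pullSect g _ U (tm m n))) :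
    a = b :=
  ((Scheme.Modules.pullbackPushforwardAdjunction g).homEquiv _ _).injective (TMul.hom_ext fun U m n =>
    (homEquiv_app g a U _).trans ((h U m n).trans (homEquiv_app g b U _).symm))

/-- Tensoring a morphism with a fixed module on the right. -/
abbrev tmapR {A B : X.Modules} (φ : A ⟶ B) (M : X.Modules) : CohB1.tensorMod A M ⟶ CohB1.tensorMod B M :=
  CohFinite.tmap φ M

/-- Tensoring a morphism with a fixed module on the left. -/
def tmapL {A B : X.Modules} (M : X.Modules) (φ : A ⟶ B) : CohB1.tensorMod M A ⟶ CohB1.tensorMod M B :=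
  (TMul.commIso M A).hom ≫ CohFinite.tmap φ M ≫ (TMul.commIso B M).hom

theorem tmapL_tm {A B : X.Modules} (M : X.Modules) (φ : A ⟶ B) {U : X.Opens} (m : Γ(M, U)) (a : Γ(A, U)) :
    (tmapL M φ).app U (tm m a) = tm m (φ.app U a) := by
  show (TMul.commHom B M).app U ((CohFinite.tmap φ M).app U ((TMul.commHom M A).app U (tm m a))) = _
  rw [TMul.commHom_tm, CohFinite.tmap_tm, TMul.commHom_tm]

/-- Tensoring with an isomorphism on the left. -/
def tmapLIso {A B : X.Modules} (M : X.Modules) (e : A ≅ B) : CohB1.tensorMod M A ≅ CohB1.tensorMod M B where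
  hom := tmapL M e.hom
  inv := tmapL M e.inv
  hom_inv_id := TMul.hom_ext fun U m a => by
    show (tmapL M e.inv).app U ((tmapL M e.hom).app U (tm m a)) = tm m a
    rw [tmapL_tm, tmapL_tm]
    exact congrArg (tm m) congr(($(e.hom_inv_id)).app U a)
  inv_hom_id := TMul.hom_ext fun U m a => by
    show (tmapL M e.hom).app U ((tmapL M e.inv).app U (tm m a)) = tm m a
    rw [tmapL_tm, tmapL_tm]
    exact congrArg (tm m) congr(($(e.inv_hom_id)).app U a)

/-- Tensor product of isomorphisms. -/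
def tensIso {A A' B B' : X.Modules} (i : A ≅ A') (j : B ≅ B') : CohB1.tensorMod A B ≅ CohB1.tensorMod A' B' :=
  ({ hom := tmapR i.hom B
     inv := tmapR i.inv B
     hom_inv_id := by rw [← CohFinite.tmap_comp, i.hom_inv_id, CohFinite.tmap_id]
     inv_hom_id := by rw [← CohFinite.tmap_comp, i.inv_hom_id, CohFinite.tmap_id] } :
    CohB1.tensorMod A B ≅ CohB1.tensorMod A' B) ≪≫ tmapLIso A' j

theorem tensIso_tm {A A' B B' : X.Modules} (i : A ≅ A') (j : B ≅ B') {U : X.Opens} (a : Γ(A, U)) (b : Γ(B, U)) :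
    (tensIso i j).hom.app U (tm a b) = tm (i.hom.app U a) (j.hom.app U b) := by
  show (tmapL A' j.hom).app U ((tmapR i.hom B).app U (tm a b)) = _
  rw [CohFinite.tmap_tm, tmapL_tm]

theorem bc_map {W Y' Z' : Scheme.{u}} {π : Y' ⟶ Z'} {h : W ⟶ Y'} {g : W ⟶ Z'} (hg : h ≫ π = g)
    {M M' : Z'.Modules} (e : M' ⟶ M) {Q : Y'.Modules} (q : (Scheme.Modules.pullback π).obj M ⟶ Q) :
    bc hg ((Scheme.Modules.pullback π).map e ≫ q) = (Scheme.Modules.pullback g).map e ≫ bc hg q := by
  subst hg
  simp [bc, Grass.quotBC, Scheme.Modules.pullbackCongr]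

variable {S : Scheme.{u}} {f : X ⟶ S} {E E' : X.Modules} {T T' : Over S}

/-- Transport of quotients along an isomorphism of modules. -/
def Quo.congr (e : E ≅ E') (a : Quo f E T) : Quo f E' T where
  F := a.F
  q := (Scheme.Modules.pullback (pullback.fst f T.hom)).map e.inv ≫ a.q
  epi := inferInstance

theorem Quo.Rel.congr {a b : Quo f E T} (h : a.Rel b) (e : E ≅ E') : (a.congr e).Rel (b.congr e) := by
  obtain ⟨i, hi⟩ := h
  exact ⟨i, by dsimp only [Quo.congr]; rw [Category.assoc, hi]⟩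

theorem Quo.congr_rel_iff {a b : Quo f E T} (e : E ≅ E') : (a.congr e).Rel (b.congr e) ↔ a.Rel b := by
  refine ⟨fun h => ?_, fun h => h.congr e⟩
  obtain ⟨i, hi⟩ := h
  dsimp only [Quo.congr] at hi
  rw [Category.assoc, cancel_epi] at hi
  exact ⟨i, hi⟩

theorem Quo.congr_pull (e : E ≅ E') (a : Quo f E T) (g : T' ⟶ T) :
    ((a.congr e).pull g).Rel ((a.pull g).congr e) := by
  dsimp only [Quo.Rel, Quo.congr, Quo.pull]
  refine ⟨Iso.refl _, ?_⟩
  rw [Iso.refl_hom, Category.comp_id, bc_map]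

/-- The twist of a quotient by an invertible module. -/
def Quo.twist {M : X.Modules} (hM : PicF.IsInvertible M) (a : Quo f E T) : Quo f (CohB1.tensorMod E M) T where
  F := CohB1.tensorMod a.F (FGA.ET f M T)
  q := (pTH (pullback.fst f T.hom) E M).hom ≫ tmapR a.q (FGA.ET f M T)
  epi := by
    haveI := W7Slope.epi_tmap (PicLoc.isInvertible_pullback (pullback.fst f T.hom) hM) a.q
    infer_instance

theorem Quo.Rel.twist {M : X.Modules} (hM : PicF.IsInvertible M) {a b : Quo f E T} (h : a.Rel b) :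
    (a.twist hM).Rel (b.twist hM) := by
  obtain ⟨i, hi⟩ := h
  dsimp only [Quo.Rel, Quo.twist]
  refine ⟨tensIso i (Iso.refl _), ?_⟩
  rw [Category.assoc]
  congr 1
  refine TMul.hom_ext fun U m n => ?_
  show (tensIso i (Iso.refl _)).hom.app U ((tmapR a.q _).app U (tm m n)) = (tmapR b.q _).app U (tm m n)
  rw [CohFinite.tmap_tm, CohFinite.tmap_tm, ← hi]
  exact tensIso_tm i (Iso.refl _) _ _

theorem pTH_comp {W P Q : Scheme.{u}} (h : W ⟶ P) (p : P ⟶ Q) (E M : Q.Modules) :
    (Scheme.Modules.pullback h).map (pTH p E M).hom ≫ (pTH h _ _).hom ≫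
      (tensIso ((Scheme.Modules.pullbackComp h p).app E) ((Scheme.Modules.pullbackComp h p).app M)).hom =
      (Scheme.Modules.pullbackComp h p).hom.app _ ≫ (pTH (h ≫ p) E M).hom := by
  rw [← cancel_epi ((Scheme.Modules.pullbackComp h p).inv.app (CohB1.tensorMod E M)),
    Iso.inv_hom_id_app_assoc]
  refine ext_pullback_tensor _ fun U m n => ?_
  have hc : ((Scheme.Modules.pullbackComp h p).inv.app (CohB1.tensorMod E M)).app ((h ≫ p) ⁻¹ᵁ U)
      (OmegaSh.pullSect (h ≫ p) (CohB1.tensorMod E M) U (tm m n)) =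
        OmegaSh.pullSect h _ (p ⁻¹ᵁ U) (OmegaSh.pullSect p (CohB1.tensorMod E M) U (tm m n)) := by
    rw [← QC.pullbackComp_hom_pullSect h p (CohB1.tensorMod E M) U (tm m n)]
    exact congr(($((Scheme.Modules.pullbackComp h p).hom_inv_id_app (CohB1.tensorMod E M))).app _ _)
  refine Eq.trans ?_ (pTH_tm (h ≫ p) E M U m n).symm
  simp only [Scheme.Modules.Hom.comp_app, ConcreteCategory.comp_apply]
  refine (congrArg (fun x => (tensIso _ _).hom.app _ ((pTH h _ _).hom.app _
    (((Scheme.Modules.pullback h).map (pTH p E M).hom).app _ x))) hc).trans ?_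
  refine (congrArg (fun x => (tensIso _ _).hom.app _ ((pTH h _ _).hom.app _ x))
    ((QC.app_pullSect h (pTH p E M).hom (p ⁻¹ᵁ U) _).trans
      (congrArg (OmegaSh.pullSect h _ (p ⁻¹ᵁ U)) (pTH_tm p E M U m n)))).trans ?_
  refine (congrArg (fun x => (tensIso _ _).hom.app _ x) (pTH_tm h _ _ (p ⁻¹ᵁ U) _ _)).trans ?_
  refine (tensIso_tm _ _ _ _).trans ?_
  exact congrArg₂ tm (QC.pullbackComp_hom_pullSect h p E U m) (QC.pullbackComp_hom_pullSect h p M U n)

theorem pTH_natural {W P : Scheme.{u}} (h : W ⟶ P) {A B : P.Modules} (q : A ⟶ B) (M : P.Modules) :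
    (Scheme.Modules.pullback h).map (tmapR q M) ≫ (pTH h B M).hom =
      (pTH h A M).hom ≫ tmapR ((Scheme.Modules.pullback h).map q) _ := by
  refine ext_pullback_tensor _ fun U a m => ?_
  simp only [Scheme.Modules.Hom.comp_app, ConcreteCategory.comp_apply]
  refine (congrArg (fun x => (pTH h B M).hom.app _ x) ((QC.app_pullSect h (tmapR q M) U _).trans
    (congrArg (OmegaSh.pullSect h _ U) (CohFinite.tmap_tm q M a m)))).trans ?_
  refine (pTH_tm h B M U _ m).trans ?_
  refine Eq.trans ?_ (congrArg _ (pTH_tm h A M U a m)).symm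
  refine Eq.trans ?_ (CohFinite.tmap_tm _ _ _ _).symm
  exact congrArg (fun x => tm x _) (QC.app_pullSect h q U a).symm

theorem bc_twist {W P Q : Scheme.{u}} {h : W ⟶ P} {p : P ⟶ Q} {p' : W ⟶ Q} (e : h ≫ p = p')
    {E M : Q.Modules} {F : P.Modules} (q : (Scheme.Modules.pullback p).obj E ⟶ F) :
    ∃ i : (Scheme.Modules.pullback h).obj (CohB1.tensorMod F ((Scheme.Modules.pullback p).obj M)) ≅
      CohB1.tensorMod ((Scheme.Modules.pullback h).obj F) ((Scheme.Modules.pullback p').obj M),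
    bc e ((pTH p E M).hom ≫ tmapR q _) ≫ i.hom = (pTH p' E M).hom ≫ tmapR (bc e q) _ := by
  subst e
  refine ⟨pTH h _ _ ≪≫ tensIso (Iso.refl _) ((Scheme.Modules.pullbackComp h p).app M), ?_⟩
  simp only [bc, Grass.quotBC, Scheme.Modules.pullbackCongr, eqToIso_refl, Iso.refl_inv, Iso.refl_hom,
    NatTrans.id_app, Category.id_comp, Iso.trans_hom, Iso.app_inv, Iso.trans_inv, Functor.map_comp,
    Category.assoc, Iso.symm_hom]
  rw [reassoc_of% (pTH_natural h q ((Scheme.Modules.pullback p).obj M))]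
  have h2 : tmapR ((Scheme.Modules.pullback h).map q) ((Scheme.Modules.pullback h).obj ((Scheme.Modules.pullback p).obj M)) ≫
      (tensIso (Iso.refl _) ((Scheme.Modules.pullbackComp h p).app M)).hom =
    (tensIso ((Scheme.Modules.pullbackComp h p).app E) ((Scheme.Modules.pullbackComp h p).app M)).hom ≫
      tmapR ((Scheme.Modules.pullbackComp h p).inv.app E ≫ (Scheme.Modules.pullback h).map q) _ := by
    refine TMul.hom_ext fun U a m => ?_
    simp only [Scheme.Modules.Hom.comp_app, ConcreteCategory.comp_apply]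
    refine (congrArg _ (CohFinite.tmap_tm _ _ a m)).trans ?_
    refine (tensIso_tm _ _ _ _).trans ?_
    refine Eq.trans ?_ (congrArg _ (tensIso_tm _ _ a m)).symm
    refine Eq.trans ?_ (CohFinite.tmap_tm _ _ _ _).symm
    refine congrArg (fun x => tm x _) ?_
    simp only [Scheme.Modules.Hom.comp_app, ConcreteCategory.comp_apply]
    exact congrArg (fun x => ((Scheme.Modules.pullback h).map q).app U x)
      (congr(($((Scheme.Modules.pullbackComp h p).hom_inv_id_app E)).app U a)).symm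
  rw [h2, reassoc_of% (pTH_comp h p E M), Iso.inv_hom_id_app_assoc]

theorem Quo.twist_pull {M : X.Modules} (hM : PicF.IsInvertible M) (a : Quo f E T) (g : T' ⟶ T) :
    ((a.twist hM).pull g).Rel ((a.pull g).twist hM) := by
  dsimp only [Quo.Rel, Quo.twist, Quo.pull]
  exact bc_twist (FGA.XTmap_fst f g) a.q

theorem pullUnitIso_app {P Q : Scheme.{u}} (p : P ⟶ Q) (U : Q.Opens) (r : Γ(Q, U)) :
    (DerPerf.pullUnitIso p).hom.app (p ⁻¹ᵁ U)
      (OmegaSh.pullSect p (Coh.structureModule Q) U (r : Γ(Coh.structureModule Q, U))) = p.app U r := by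
  have h : (Scheme.Modules.pullbackPushforwardAdjunction p).unit.app (Coh.structureModule Q) ≫
      (Scheme.Modules.pushforward p).map (DerPerf.pullUnitIso p).hom =
      SheafOfModules.unitToPushforwardObjUnit p.toRingCatSheafHom :=
    ((Scheme.Modules.pullbackPushforwardAdjunction p).homEquiv_unit _ _ _).symm.trans
      (Equiv.apply_symm_apply _ _)
  exact congrArg (fun t : Coh.structureModule Q ⟶ (Scheme.Modules.pushforward p).obj (Coh.structureModule P) =>
    t.app U (r : Γ(Coh.structureModule Q, U))) h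

theorem tmapR_unit {A : X.Modules} {E : X.Modules} (q : E ⟶ A) :
    tmapR q (Coh.structureModule X) ≫ (SecTwist.unitorR A).hom = (SecTwist.unitorR E).hom ≫ q :=
  TMul.hom_ext fun U m r => by
    show (SecTwist.unitorR A).hom.app U ((tmapR q _).app U (tm m r)) = q.app U ((SecTwist.unitorR E).hom.app U (tm m r))
    rw [CohFinite.tmap_tm, ResDesc.unitorR_tm, ResDesc.unitorR_tm, Scheme.Modules.Hom.app_smul]

/-- Cancelling a module against its inverse. -/
def untwistIso {Q : Scheme.{u}} (E : Q.Modules) {M N : Q.Modules}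
    (u : CohB1.tensorMod M N ≅ Coh.structureModule Q) : CohB1.tensorMod (CohB1.tensorMod E M) N ≅ E :=
  TMul.assocIso E M N ≪≫ tmapLIso E u ≪≫ SecTwist.unitorR E

/-- Twisting by an invertible module and then by an inverse. -/
theorem exists_untwist {P Q : Scheme.{u}} (p : P ⟶ Q) {E M N : Q.Modules}
    (u : CohB1.tensorMod M N ≅ Coh.structureModule Q) {F : P.Modules}
    (q : (Scheme.Modules.pullback p).obj E ⟶ F) :
    ∃ i : CohB1.tensorMod (CohB1.tensorMod F ((Scheme.Modules.pullback p).obj M)) ((Scheme.Modules.pullback p).obj N)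
          ≅ F,
      ((Scheme.Modules.pullback p).map (untwistIso E u).inv ≫ (pTH p _ N).hom ≫
        tmapR ((pTH p E M).hom ≫ tmapR q _) ((Scheme.Modules.pullback p).obj N)) ≫ i.hom = q := by
  let uP : CohB1.tensorMod ((Scheme.Modules.pullback p).obj M) ((Scheme.Modules.pullback p).obj N) ≅
      Coh.structureModule P := (pTH p M N).symm ≪≫ (Scheme.Modules.pullback p).mapIso u ≪≫ DerPerf.pullUnitIso p
  refine ⟨TMul.assocIso _ _ _ ≪≫ tmapLIso F uP ≪≫ SecTwist.unitorR F, ?_⟩
  rw [Category.assoc, ← Functor.mapIso_inv, Iso.inv_comp_eq, Functor.mapIso_hom]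
  refine ((Scheme.Modules.pullbackPushforwardAdjunction p).homEquiv _ _).injective
    (TMul.hom_ext₃ fun U e m n => (homEquiv_app p _ U _).trans (Eq.trans ?_ (homEquiv_app p _ U _).symm))
  simp only [PBundle.sec', Scheme.Modules.Hom.comp_app, ConcreteCategory.comp_apply]
  let k : ∀ A : Q.Modules, Γ(A, U) → Γ((Scheme.Modules.pullback p).obj A, p ⁻¹ᵁ U) := fun A =>
    OmegaSh.pullSect p A U
  let r : Γ(Q, U) := u.hom.app U (tm m n)
  let r' : Γ(P, p ⁻¹ᵁ U) := uP.hom.app (p ⁻¹ᵁ U) (tm (k M m) (k N n))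
  have hr : r' = p.app U r := by
    show (DerPerf.pullUnitIso p).hom.app _ (((Scheme.Modules.pullback p).map u.hom).app _
      ((pTH p M N).inv.app _ (tm (k M m) (k N n)))) = _
    rw [pTH_inv_tm, QC.app_pullSect]
    exact pullUnitIso_app p U r
  have hρ : (TMul.assocIso E M N ≪≫ tmapLIso E u ≪≫ SecTwist.unitorR E).hom.app U (tm (tm e m) n) = r • e := by
    show (SecTwist.unitorR E).hom.app U ((tmapL E u.hom).app U ((TMul.assocHom E M N).app U (tm (tm e m) n))) = _
    rw [TMul.assocHom_tm, tmapL_tm]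
    exact ResDesc.unitorR_tm E e r
  refine Eq.trans ?_ (congrArg (q.app (p ⁻¹ᵁ U)) ((congrArg (k E) hρ).symm.trans
    (QC.app_pullSect p _ U _).symm))
  rw [show k E (r • e) = p.app U r • k E e from OmegaSh.pullSect_smul p E U r e, Scheme.Modules.Hom.app_smul]
  refine (congrArg (fun x => (TMul.assocIso _ _ _ ≪≫ tmapLIso F uP ≪≫ SecTwist.unitorR F).hom.app (p ⁻¹ᵁ U)
    ((tmapR ((pTH p E M).hom ≫ tmapR q _) _).app (p ⁻¹ᵁ U) x)) (pTH_tm p _ N U (tm e m) n)).trans ?_
  refine (congrArg _ (CohFinite.tmap_tm _ _ _ _)).trans ?_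
  simp only [Scheme.Modules.Hom.comp_app, ConcreteCategory.comp_apply]
  refine (congrArg (fun x => (TMul.assocIso _ _ _ ≪≫ tmapLIso F uP ≪≫ SecTwist.unitorR F).hom.app (p ⁻¹ᵁ U)
    (tm x (k N n))) ((congrArg _ (pTH_tm p E M U e m)).trans (CohFinite.tmap_tm q _ _ _))).trans ?_
  show (SecTwist.unitorR F).hom.app _ ((tmapL F uP.hom).app _ ((TMul.assocHom _ _ _).app _
    (tm (tm (q.app (p ⁻¹ᵁ U) (k E e)) (k M m)) (k N n)))) = _
  rw [TMul.assocHom_tm, tmapL_tm, show uP.hom.app (p ⁻¹ᵁ U) (tm (k M m) (k N n)) = r' from rfl, hr]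
  exact ResDesc.unitorR_tm F _ _

theorem Quo.untwist {M N : X.Modules} (hM : PicF.IsInvertible M) (hN : PicF.IsInvertible N)
    (u : CohB1.tensorMod M N ≅ Coh.structureModule X) (a : Quo f E T) :
    (((a.twist hM).twist hN).congr (untwistIso E u)).Rel a := by
  dsimp only [Quo.Rel, Quo.twist, Quo.congr]
  exact exists_untwist (pullback.fst f T.hom) u a.q

end Groth.Agent.QuotProj

end
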